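import Cfsg.Agent.Lib.Sp4Odd.Q.Rho
import Mathlib.FieldTheory.IsAlgClosed.AlgebraicClosure
import Mathlib.LinearAlgebra.Eigenspace.Triangularizable

/-!
Characters of the unitriangular group in cross characteristic.
-/

set_option autoImplicit false
set_option linter.unusedSectionVars false
set_option maxHeartbeats 1000000

namespace CfsgLib.Sp4Odd.Q

open Matrix Polynomial

variable {F : Type*} [Field F]

local notation "G4" => Matrix.GeneralLinearGroup (Fin 2 ⊕ Fin 2) F
local notation "S4" => (Fin 2 ⊕ Fin 2)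

/-- Extension of the scalars to the algebraic closure. -/
noncomputable def toBar : G4 →* Matrix (Fin 2 ⊕ Fin 2) (Fin 2 ⊕ Fin 2) (AlgebraicClosure F) :=
  ((algebraMap F (AlgebraicClosure F)).mapMatrix.toMonoidHom).comp (Units.coeHom _)

theorem toBar_apply (g : G4) : toBar g = g.1.map (algebraMap F (AlgebraicClosure F)) := rfl

theorem toBar_injective : Function.Injective (toBar (F := F)) := fun _ _ h =>
  Units.ext (Matrix.map_injective (algebraMap F (AlgebraicClosure F)).injective h)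

/-- Commuting matrices preserving a non-zero subspace have a common eigenvector in it. -/
theorem exists_common_eigen {Ω : Type*} [Field Ω] [IsAlgClosed Ω] {κ : Type*} (A : κ → Matrix S4 S4 Ω)
    (hc : ∀ a b, A a * A b = A b * A a) {U : Submodule Ω (S4 → Ω)} (hU : U ≠ ⊥)
    (hinv : ∀ a, ∀ v ∈ U, A a *ᵥ v ∈ U) (s : Finset κ) :
    ∃ U' : Submodule Ω (S4 → Ω), U' ≠ ⊥ ∧ U' ≤ U ∧ (∀ a, ∀ v ∈ U', A a *ᵥ v ∈ U') ∧
      ∀ a ∈ s, ∃ c : Ω, ∀ v ∈ U', A a *ᵥ v = c • v := by
  classical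
  induction s using Finset.induction_on with
  | empty => exact ⟨U, hU, le_rfl, hinv, by simp⟩
  | insert a s ha ih =>
    obtain ⟨U', h1, h2, h3, h4⟩ := ih
    haveI : Nontrivial U' := Submodule.nontrivial_iff_ne_bot.2 h1
    let f : Module.End Ω U' := (Matrix.toLin' (A a)).restrict (fun v hv => h3 a v hv)
    obtain ⟨c, hc'⟩ := Module.End.exists_eigenvalue f
    obtain ⟨⟨v, hv⟩, hv0⟩ := hc'.exists_hasEigenvector
    let U'' : Submodule Ω (S4 → Ω) := U' ⊓ LinearMap.ker (Matrix.toLin' (A a) - c • LinearMap.id)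
    have hmem : ∀ x, x ∈ U'' ↔ x ∈ U' ∧ A a *ᵥ x = c • x := fun x => by
      simp [U'', sub_eq_zero]
    refine ⟨U'', fun e => hv0.2 ?_, inf_le_left.trans h2, fun b x hx => ?_, fun b hb => ?_⟩
    · have hx : v ∈ U'' := (hmem v).2 ⟨hv, congrArg Subtype.val hv0.apply_eq_smul⟩
      rw [e, Submodule.mem_bot] at hx
      exact Subtype.ext hx
    · rw [hmem] at hx ⊢
      refine ⟨h3 b x hx.1, ?_⟩
      rw [Matrix.mulVec_mulVec, hc a b, ← Matrix.mulVec_mulVec, hx.2, Matrix.mulVec_smul]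
    · rcases Finset.mem_insert.1 hb with rfl | hb
      · exact ⟨c, fun x hx => ((hmem x).1 hx).2⟩
      · obtain ⟨c', hc''⟩ := h4 b hb
        exact ⟨c', fun x hx => hc'' x ((hmem x).1 hx).1⟩

/-- An element of prime order prime to the characteristic moves some vector to a proper multiple. -/
theorem exists_moved {Ω : Type*} [Field Ω] {A : Matrix S4 S4 Ω} {ℓ : ℕ} (hA : A ^ ℓ = 1) (hA1 : A ≠ 1)
    (hℓ : (ℓ : Ω) ≠ 0) :
    ∃ U : Submodule Ω (S4 → Ω), U ≠ ⊥ ∧ (∀ B : Matrix S4 S4 Ω, B * A = A * B → ∀ v ∈ U, B *ᵥ v ∈ U) ∧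
      ∀ v ∈ U, A *ᵥ v = v → v = 0 := by
  set T := ∑ k ∈ Finset.range ℓ, A ^ k with hT
  have hAT : A * T = T := by
    have h0 := mul_geom_sum A ℓ
    rw [hA, sub_self, sub_mul, one_mul, ← hT, sub_eq_zero] at h0
    exact h0
  have hAkT : ∀ k : ℕ, A ^ k * T = T := fun k => by
    induction k with
    | zero => simp
    | succ k ih => rw [pow_succ, mul_assoc, hAT, ih]
  have hTT : T * T = (ℓ : Ω) • T := by
    conv_lhs => arg 1; rw [hT]
    rw [Finset.sum_mul, Finset.sum_congr rfl (fun k _ => hAkT k), Finset.sum_const, Finset.card_range,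
      ← Nat.cast_smul_eq_nsmul Ω]
  refine ⟨LinearMap.ker (Matrix.toLin' T), ?_, fun B hB v hv => ?_, fun v hv hfix => ?_⟩
  · intro hbot
    refine hA1 (Matrix.toLin'.injective (LinearMap.ext fun w => ?_))
    have hk : (ℓ : Ω) • w - T *ᵥ w ∈ LinearMap.ker (Matrix.toLin' T) := by
      rw [LinearMap.mem_ker, Matrix.toLin'_apply, Matrix.mulVec_sub, Matrix.mulVec_smul, Matrix.mulVec_mulVec, hTT,
        Matrix.smul_mulVec, sub_self]
    rw [hbot, Submodule.mem_bot, sub_eq_zero] at hk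
    simp only [Matrix.toLin'_apply, Matrix.one_mulVec]
    refine smul_right_injective (S4 → Ω) hℓ ?_
    show (ℓ : Ω) • (A *ᵥ w) = (ℓ : Ω) • w
    rw [← Matrix.mulVec_smul, hk, Matrix.mulVec_mulVec, hAT]
  · rw [LinearMap.mem_ker, Matrix.toLin'_apply] at hv ⊢
    have : T * B = B * T := by
      rw [hT, Finset.sum_mul, Finset.mul_sum]
      exact Finset.sum_congr rfl fun k _ => ((show Commute B A from hB).pow_right k).eq.symm
    rw [Matrix.mulVec_mulVec, this, ← Matrix.mulVec_mulVec, hv, Matrix.mulVec_zero]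
  · rw [LinearMap.mem_ker, Matrix.toLin'_apply] at hv
    have hk : ∀ k : ℕ, (A ^ k) *ᵥ v = v := fun k => by
      induction k with
      | zero => simp
      | succ k ih => rw [pow_succ, ← Matrix.mulVec_mulVec, hfix, ih]
    rw [hT, Matrix.sum_mulVec, Finset.sum_congr rfl (fun k _ => hk k), Finset.sum_const, Finset.card_range,
      ← Nat.cast_smul_eq_nsmul Ω] at hv
    exact (smul_eq_zero.1 hv).resolve_left hℓ

/-- Common eigenvectors for distinct characters are independent. -/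
theorem indep_of_chars {Ω : Type*} [Field Ω] {κ η : Type*} [Fintype η] (A : κ → Matrix S4 S4 Ω)
    (χ : η → κ → Ω) (hχ : Function.Injective χ) (v : η → S4 → Ω) (hv : ∀ i, v i ≠ 0)
    (h : ∀ i a, A a *ᵥ v i = χ i a • v i) : LinearIndependent Ω v := by
  classical
  suffices hs : ∀ s : Finset η, ∀ g : η → Ω, ∑ i ∈ s, g i • v i = 0 → ∀ i ∈ s, g i = 0 from
    Fintype.linearIndependent_iff.2 fun g hg i => hs Finset.univ g hg i (Finset.mem_univ i)
  intro s
  induction s using Finset.induction_on with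
  | empty => simp
  | insert j s hj ih =>
    intro g hg
    rw [Finset.sum_insert hj] at hg
    have hs : ∀ i ∈ s, g i = 0 := fun i hi => by
      have hne : χ i ≠ χ j := fun e => hj (hχ e ▸ hi)
      obtain ⟨a, ha⟩ := Function.ne_iff.1 hne
      have h1 := congrArg (fun w => A a *ᵥ w - χ j a • w) hg
      simp only [Matrix.mulVec_add, Matrix.mulVec_smul, h, Matrix.mulVec_sum, Matrix.mulVec_zero, smul_add,
        Finset.smul_sum, smul_zero, sub_zero] at h1
      have h2 := ih (fun k => g k * (χ k a - χ j a)) (by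
        rw [← h1, smul_comm (χ j a) (g j), add_sub_add_left_eq_sub, ← Finset.sum_sub_distrib]
        exact Finset.sum_congr rfl fun k _ => by rw [mul_smul, sub_smul, smul_sub, smul_comm (χ j a)]) i hi
      exact (mul_eq_zero.1 h2).resolve_right (sub_ne_zero.2 ha)
    intro i hi
    rcases Finset.mem_insert.1 hi with rfl | hi
    · rw [Finset.sum_eq_zero (fun k hk => by rw [hs k hk, zero_smul]), add_zero] at hg
      exact (smul_eq_zero.1 hg).resolve_right (hv i)
    · exact hs i hi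

theorem isRoot_of_eigen {Ω : Type*} [Field Ω] {A : Matrix S4 S4 Ω} {t : Ω} {v : S4 → Ω} (hv : v ≠ 0)
    (h : A *ᵥ v = t • v) : A.charpoly.IsRoot t := by
  rw [IsRoot.def, Matrix.eval_charpoly, ← Matrix.exists_mulVec_eq_zero_iff]
  refine ⟨v, hv, ?_⟩
  rw [Matrix.sub_mulVec, h, sub_eq_zero]
  simp [Matrix.scalar_apply, ← Matrix.smul_one_eq_diagonal, Matrix.smul_mulVec]

theorem seven_powers : ∀ j : Fin 7, j.val ≠ 0 →
    ∀ a b : Fin 6, a ≠ b →
      (![1, 2, 4, 6, 5, 3] a : ℕ) * j.val % 7 ≠ (![1, 2, 4, 6, 5, 3] b : ℕ) * j.val % 7 := by decide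

/-- An element of order seven conjugate to its square only in characteristic seven. -/
theorem seven_char {g : G4} (hg : g ∈ Cfsg.spGL 2 F) (h7 : g ^ 7 = 1) (h1 : g ≠ 1)
    (hsq : IsConj g (g ^ 2)) : ((7 : ℕ) : F) = 0 := by
  classical
  have hcp0 : ∀ {a b : G4}, IsConj a b → b.1.charpoly = a.1.charpoly := fun {a b} h => by
    obtain ⟨c, rfl⟩ := isConj_iff.1 h
    rw [Units.val_mul, Units.val_mul, Matrix.coe_units_inv, Matrix.charpoly_units_conj]
  have hconj := hcp0 hsq
  by_contra h70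
  set Ω := AlgebraicClosure F
  set φ := algebraMap F Ω
  set A := toBar g with hA
  have hA7 : A ^ 7 = 1 := by rw [hA, ← map_pow, h7, map_one]
  obtain ⟨U, hU, hinv, hmov⟩ := exists_moved hA7 (fun e => h1 (toBar_injective (e.trans (map_one _).symm)))
    (by rw [← map_natCast φ]; exact (map_ne_zero φ).2 h70)
  obtain ⟨U', hU', hle, -, hsc⟩ := exists_common_eigen (fun _ : Unit => A) (fun _ _ => rfl) hU
    (fun _ => hinv A rfl) {()}
  obtain ⟨t, ht⟩ := hsc () (Finset.mem_singleton_self _)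
  obtain ⟨v, hvU, hv0⟩ := Submodule.exists_mem_ne_zero_of_ne_bot hU'
  have htv := ht v hvU
  have ht1 : t ≠ 1 := fun e => hv0 (hmov v (hle hvU) (by simpa [e] using htv))
  have hpow : ∀ n : ℕ, (A ^ n) *ᵥ v = t ^ n • v := fun n => by
    induction n with
    | zero => simp
    | succ n ih => rw [pow_succ, ← Matrix.mulVec_mulVec, htv, Matrix.mulVec_smul, ih, smul_smul, ← pow_succ']
  have ht7 : t ^ 7 = 1 := by
    have := hpow 7
    rw [hA7, Matrix.one_mulVec] at this
    exact smul_left_injective Ω hv0 (this.symm.trans (one_smul Ω v).symm)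
  have hcp : ∀ k : G4, k.1.charpoly = g.1.charpoly → (toBar k).charpoly = A.charpoly := fun k hk => by
    rw [hA, toBar_apply, toBar_apply, Matrix.charpoly_map, Matrix.charpoly_map, hk]
  have hc4 : (g ^ 4).1.charpoly = g.1.charpoly := by
    refine hcp0 (hsq.trans ?_)
    obtain ⟨c, hc⟩ := isConj_iff.1 hsq
    exact isConj_iff.2 ⟨c, by rw [← conj_pow, hc, ← pow_mul]⟩
  have hroot : ∀ n : ℕ, (g ^ n).1.charpoly = g.1.charpoly → A.charpoly.IsRoot (t ^ n) := fun n hn => by
    rw [← hcp _ hn, map_pow, ← hA]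
    exact isRoot_of_eigen hv0 (hpow n)
  have hinv7 : ∀ n ≤ 7, g ^ (7 - n) = (g ^ n)⁻¹ := fun n hn => by
    rw [eq_inv_iff_mul_eq_one, ← pow_add, Nat.sub_add_cancel hn, h7]
  have hneg : ∀ n ≤ 7, (g ^ n).1.charpoly = g.1.charpoly → (g ^ (7 - n)).1.charpoly = g.1.charpoly :=
    fun n hn h => by rw [hinv7 n hn, charpoly_inv (pow_mem hg n), h]
  let e6 : Fin 6 → ℕ := ![1, 2, 4, 6, 5, 3]
  have hall : ∀ a, (g ^ e6 a).1.charpoly = g.1.charpoly := by
    intro a
    fin_cases a
    · simp [e6]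
    · exact hconj
    · exact hc4
    · exact hneg 1 (by norm_num) (by rw [pow_one])
    · exact hneg 2 (by norm_num) hconj
    · exact hneg 4 (by norm_num) hc4
  have hord : orderOf t = 7 := orderOf_eq_prime (hp := ⟨by norm_num⟩) ht7 ht1
  have hinj : Function.Injective fun a => t ^ e6 a := fun a b hab => by
    by_contra hne
    have := (isOfFinOrder_iff_pow_eq_one.2 ⟨7, by norm_num, ht7⟩).pow_eq_pow_iff_modEq.1
      (show t ^ e6 a = t ^ e6 b from hab)
    rw [hord] at this
    exact seven_powers 1 (by decide) a b hne (by simpa [e6, Nat.ModEq] using this)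
  have hsub : (Finset.univ.image fun a => t ^ e6 a) ⊆ A.charpoly.roots.toFinset := fun x hx => by
    obtain ⟨a, -, rfl⟩ := Finset.mem_image.1 hx
    rw [Multiset.mem_toFinset, Polynomial.mem_roots (Matrix.charpoly_monic A).ne_zero]
    exact hroot _ (hall a)
  have hcard := (Finset.card_le_card hsub).trans ((Multiset.toFinset_card_le _).trans (Polynomial.card_roots' _))
  rw [Finset.card_image_of_injective _ hinj, Matrix.charpoly_natDegree_eq_dim] at hcard
  simp at hcard

variable {K : Type} [Field K] [Fintype K] {P : Subgroup (Matrix.GeneralLinearGroup (Fin 2 ⊕ Fin 2) F)}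

/-- A non-trivial character of the unitriangular group with an eigenvector. -/
theorem Rep.exists_char (R : Rep K P) (ℓ : ℕ) [CharP K ℓ] (hℓ : (ℓ : F) ≠ 0) :
    ∃ (v : S4 → AlgebraicClosure F) (χ : K → AlgebraicClosure F), v ≠ 0 ∧
      (∀ x, toBar (R.ρ (eU x)) *ᵥ v = χ x • v) ∧ χ 1 ≠ 1 ∧ (∀ x y, χ (x + y) = χ x * χ y) ∧ χ 0 = 1 := by
  classical
  set φ := algebraMap F (AlgebraicClosure F)
  let A : K → Matrix S4 S4 (AlgebraicClosure F) := fun x => toBar (R.ρ (eU x))
  have hmul : ∀ x y, A x * A y = A (x + y) := fun x y => by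
    show toBar _ * toBar _ = _
    rw [← map_mul, ← map_mul, eU_mul]
  have h0 : A 0 = 1 := by show toBar _ = 1; rw [eU_zero, map_one, map_one]
  have hpow : ∀ n : ℕ, A 1 ^ n = A n := fun n => by
    induction n with
    | zero => rw [pow_zero, Nat.cast_zero, h0]
    | succ n ih => rw [pow_succ, ih, hmul, Nat.cast_succ]
  have h1 : A 1 ≠ 1 := fun e => by
    have h := R.inj (toBar_injective (e.trans h0.symm))
    simpa [eU] using congrFun (congrFun (congrArg Subtype.val h) 0) 1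
  have hℓ' : (ℓ : AlgebraicClosure F) ≠ 0 := by rw [← map_natCast φ]; exact (map_ne_zero φ).2 hℓ
  obtain ⟨U, hU, hinv, hmov⟩ := exists_moved (A := A 1) (ℓ := ℓ)
    (by rw [hpow, CharP.cast_eq_zero, h0]) h1 hℓ'
  have hc : ∀ a b, A a * A b = A b * A a := fun a b => by rw [hmul, hmul, add_comm]
  obtain ⟨U', hU', hle, -, hsc⟩ := exists_common_eigen A hc hU (fun a => hinv (A a) (hc a 1)) Finset.univ
  obtain ⟨v, hvU, hv0⟩ := Submodule.exists_mem_ne_zero_of_ne_bot hU'
  choose χ hχ using fun x => hsc x (Finset.mem_univ x)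
  have hv : ∀ x, A x *ᵥ v = χ x • v := fun x => hχ x v hvU
  refine ⟨v, χ, hv0, hv, fun e => hv0 (hmov v (hle hvU) (by rw [hv, e, one_smul])), fun x y => ?_, ?_⟩
  · refine smul_left_injective _ hv0 ?_
    show χ (x + y) • v = (χ x * χ y) • v
    rw [← hv, ← hmul, ← Matrix.mulVec_mulVec, hv, Matrix.mulVec_smul, hv, smul_smul, mul_comm]
  · refine smul_left_injective _ hv0 ?_
    show χ 0 • v = (1 : AlgebraicClosure F) • v
    rw [← hv, h0, Matrix.one_mulVec, one_smul]

/-- The eigenvector moved by a diagonal element. -/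
theorem Rep.char_conj (R : Rep K P) {v : S4 → AlgebraicClosure F} {χ : K → AlgebraicClosure F} (hv0 : v ≠ 0)
    (hv : ∀ x, toBar (R.ρ (eU x)) *ᵥ v = χ x • v) (a : K) (ha : a ≠ 0) :
    ∃ w : S4 → AlgebraicClosure F, w ≠ 0 ∧ ∀ x, toBar (R.ρ (eU x)) *ᵥ w = χ (a * a * x) • w := by
  refine ⟨toBar (R.ρ (tU a ha)⁻¹) *ᵥ v, fun e => hv0 ?_, fun x => ?_⟩
  · have h1 := congrArg (toBar (R.ρ (tU a ha)) *ᵥ ·) e
    simp only [Matrix.mulVec_mulVec, ← map_mul, mul_inv_cancel, map_one, Matrix.one_mulVec, Matrix.mulVec_zero] at h1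
    exact h1
  · have e : eU x * (tU a ha)⁻¹ = (tU a ha)⁻¹ * eU (a * a * x) := by
      rw [eq_inv_mul_iff_mul_eq, ← mul_assoc, tU_eU, mul_inv_cancel_right]
    rw [Matrix.mulVec_mulVec, ← map_mul, ← map_mul, e, map_mul, map_mul, ← Matrix.mulVec_mulVec, hv,
      Matrix.mulVec_smul]

theorem char_ne {χ : K → AlgebraicClosure F} (h1 : χ 1 ≠ 1) (hadd : ∀ x y, χ (x + y) = χ x * χ y) (h0 : χ 0 = 1)
    {s t : K} (h : ∀ x, χ (s * x) = χ (t * x)) : s = t := by
  by_contra hst
  refine h1 ?_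
  set y := (s - t)⁻¹
  have e : χ ((s - t) * y) * χ (t * y) = χ (t * y) := by
    rw [← hadd, ← h y]; congr 1; ring
  have hne : χ (t * y) ≠ 0 := fun e0 => by
    have := hadd (t * y) (-(t * y))
    rw [e0, zero_mul, add_neg_cancel, h0] at this
    exact one_ne_zero this
  rw [mul_inv_cancel₀ (sub_ne_zero.2 hst)] at e
  exact mul_right_cancel₀ hne (by rw [e, one_mul])

/-- In cross characteristic there are at most four non-zero squares. -/
theorem Rep.card_squares (R : Rep K P) (ℓ : ℕ) [CharP K ℓ] (hℓ : (ℓ : F) ≠ 0) (S : Finset K)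
    (hS : ∀ s ∈ S, ∃ a : K, a ≠ 0 ∧ s = a * a) : S.card ≤ 4 := by
  classical
  obtain ⟨v, χ, hv0, hv, h1, hadd, h0⟩ := R.exists_char ℓ hℓ
  choose a ha hsa using fun s : S => hS s.1 s.2
  choose w hw0 hw using fun s : S => R.char_conj hv0 hv (a s) (ha s)
  have hli := indep_of_chars (fun x => toBar (R.ρ (eU x))) (fun s x => χ (a s * a s * x)) (fun s t e => Subtype.ext (by
    rw [hsa s, hsa t]; exact char_ne h1 hadd h0 (congrFun e))) w hw0 hw
  simpa using hli.fintype_card_le_finrank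

end CfsgLib.Sp4Odd.Q
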