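import Cfsg.Agent.Lib.Sp4Odd.Q.Stab

/-!
The special linear group over five elements is not the core of a maximal subgroup.
-/

set_option autoImplicit false
set_option linter.unusedSectionVars false
set_option maxHeartbeats 1000000

namespace CfsgLib.Sp4Odd.Q.Five

open Matrix Equiv

variable {F : Type*} [Field F] [Finite F]

local notation "M4" => Matrix (Fin 2 ⊕ Fin 2) (Fin 2 ⊕ Fin 2) F
local notation "G4" => Matrix.GeneralLinearGroup (Fin 2 ⊕ Fin 2) F
local notation "K5" => ZMod 5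
local notation "SL5" => Matrix.SpecialLinearGroup (Fin 2) (ZMod 5)
local notation "ι" => Option (ZMod 5)

local instance : Fact (Nat.Prime 5) := ⟨Nat.prime_five⟩

/-- An element of order four. -/
def s1 : SL5 := ⟨!![2, 0; 0, 3], by decide⟩

/-- Another element of order four. -/
def s2 : SL5 := ⟨!![2, 1; 0, 3], by decide⟩

/-- Representatives of the six lines. -/
def rep : ι → SL5
  | none => 1
  | some x => eU x * wU

/-- Upper triangular. -/
def Upper (m : SL5) : Prop := m.1 1 0 = 0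

instance (m : SL5) : Decidable (Upper m) := inferInstanceAs (Decidable (_ = _))

theorem gens_sq : s1 * s1 = zU ∧ s2 * s2 = zU ∧ s1⁻¹ * s2 = eU 3 := by decide

theorem upper_gen : ∀ a b : K5, a ≠ 0 → ∃ (i : Fin 4) (k : Fin 5),
    a = 2 ^ (i : ℕ) ∧ b = 2 ^ (i : ℕ) * (3 * (k : ℕ)) ∧ a * 3 ^ (i : ℕ) = 1 := by decide

theorem eU_three_pow (k : ℕ) : (eU (3 : K5)) ^ k = eU (3 * (k : K5)) := by
  induction k with
  | zero => simp [eU_zero]
  | succ k ih => rw [pow_succ, ih, eU_mul]; push_cast; ring_nf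

theorem s1_pow (i : ℕ) : (s1 ^ i).1 = !![2 ^ i, 0; 0, 3 ^ i] := by
  induction i with
  | zero => simp [Matrix.one_fin_two]
  | succ i ih => rw [pow_succ, Matrix.SpecialLinearGroup.coe_mul, ih, s1]; simp [pow_succ]

theorem upper_mem {m : SL5} (hm : Upper m) (S : Subgroup SL5) (h1 : s1 ∈ S) (h2 : s2 ∈ S) : m ∈ S := by
  have hdet : m.1 0 0 * m.1 1 1 = 1 := by
    have := m.2
    rw [Matrix.det_fin_two, show m.1 1 0 = 0 from hm, mul_zero, sub_zero] at this
    exact this
  have ha : m.1 0 0 ≠ 0 := left_ne_zero_of_mul_eq_one hdet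
  obtain ⟨i, k, e1, e2, e3⟩ := upper_gen (m.1 0 0) (m.1 0 1) ha
  have : m = s1 ^ (i : ℕ) * (s1⁻¹ * s2) ^ (k : ℕ) := by
    rw [gens_sq.2.2, eU_three_pow]
    apply Subtype.ext
    rw [Matrix.SpecialLinearGroup.coe_mul, s1_pow]
    ext r c
    fin_cases r <;> fin_cases c <;> simp [eU]
    · exact e1
    · exact e2
    · exact hm
    · exact mul_left_cancel₀ ha (hdet.trans e3.symm)
  rw [this]
  exact S.mul_mem (S.pow_mem h1 _) (S.pow_mem (S.mul_mem (S.inv_mem h1) h2) _)

theorem rep_distinct : ∀ i j : ι, i ≠ j → ¬ Upper ((rep i)⁻¹ * rep j) := by decide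

theorem exists_rep (n : SL5) : ∃ j : ι, Upper ((rep j)⁻¹ * n) := by
  by_cases h : n.1 1 0 = 0
  · exact ⟨none, by simpa [rep, Upper] using h⟩
  · refine ⟨some (n.1 0 0 / n.1 1 0), ?_⟩
    simp only [rep, Upper]
    rw [Matrix.SpecialLinearGroup.coe_mul, Matrix.SpecialLinearGroup.coe_inv, Matrix.SpecialLinearGroup.coe_mul,
      show (eU (n.1 0 0 / n.1 1 0)).1 * (wU : SL5).1 = !![-(n.1 0 0 / n.1 1 0), 1; -1, 0] by simp [eU, wU],
      Matrix.adjugate_fin_two_of, Matrix.mul_apply, Fin.sum_univ_two]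
    simp
    field_simp
    try ring

theorem upper_mul {a b : SL5} (ha : Upper a) (hb : Upper b) : Upper (a * b) := by
  simp only [Upper] at ha hb ⊢
  rw [Matrix.SpecialLinearGroup.coe_mul, Matrix.mul_apply, Fin.sum_univ_two, ha, hb]
  simp

theorem upper_inv {a : SL5} (ha : Upper a) : Upper a⁻¹ := by
  simp only [Upper] at ha ⊢
  rw [Matrix.SpecialLinearGroup.coe_inv, Matrix.adjugate_fin_two]
  simp [ha]

theorem upper_unique {n : SL5} {i j : ι} (hi : Upper ((rep i)⁻¹ * n)) (hj : Upper ((rep j)⁻¹ * n)) : i = j := by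
  by_contra h
  refine rep_distinct i j h ?_
  have := upper_mul hi (upper_inv hj)
  rwa [_root_.mul_inv_rev, inv_inv, mul_assoc, mul_inv_cancel_left] at this

/-- The permutation of the lines. -/
noncomputable def perm (m : SL5) : Perm ι :=
  Equiv.ofBijective (fun i => Classical.choose (exists_rep (m * rep i))) (by
    refine Finite.injective_iff_bijective.1 fun i k h => ?_
    by_contra hik
    have hi := Classical.choose_spec (exists_rep (m * rep i))
    have hk := Classical.choose_spec (exists_rep (m * rep k))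
    rw [show Classical.choose (exists_rep (m * rep i)) = Classical.choose (exists_rep (m * rep k)) from h] at hi
    refine rep_distinct i k hik ?_
    have := upper_mul (upper_inv hi) hk
    rwa [_root_.mul_inv_rev, inv_inv, mul_assoc, mul_inv_cancel_left, _root_.mul_inv_rev, mul_assoc, inv_mul_cancel_left] at this)

theorem perm_spec (m : SL5) (i : ι) : Upper ((rep (perm m i))⁻¹ * (m * rep i)) :=
  Classical.choose_spec (exists_rep (m * rep i))

theorem perm_eq {m : SL5} {i j : ι} (h : Upper ((rep j)⁻¹ * (m * rep i))) : perm m i = j :=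
  upper_unique (perm_spec m i) h

variable {P : Subgroup (Matrix.GeneralLinearGroup (Fin 2 ⊕ Fin 2) F)}

theorem not_residual (hP : Core P) (R : Rep (ZMod 5) P) {H : Subgroup G4}
    (hH : Cfsg.Geo.IsMaximalIn (Cfsg.spGL 2 F) H) (hnorm : ∀ h ∈ H, ∀ x ∈ P, h * x * h⁻¹ ∈ P) : False := by
  classical
  have h2 := hP.two
  have hK2 : (2 : K5) ≠ 0 := by decide
  -- the vector fixed by the triangular group
  have hneg1 : R.ρ s1 * R.ρ s1 = -1 := by rw [← map_mul, gens_sq.1, R.zU hP hK2]
  have hneg2 : R.ρ s2 * R.ρ s2 = -1 := by rw [← map_mul, gens_sq.2.1, R.zU hP hK2]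
  obtain ⟨v0, hv0, hv00, hs1, hs2⟩ :=
    exists_common h2 (hP.three_of_sq_neg (R.mem s1) hneg1) (hP.three_of_sq_neg (R.mem s2) hneg2)
  let St : Subgroup SL5 :=
    { carrier := {m | ad (R.ρ m) v0 = v0}
      one_mem' := by show ad (R.ρ 1) v0 = v0; rw [map_one, ad_one]
      mul_mem' := fun {a b} ha hb => by
        show ad (R.ρ (a * b)) v0 = v0
        rw [map_mul, ad_mul, show ad (R.ρ b) v0 = v0 from hb, show ad (R.ρ a) v0 = v0 from ha]
      inv_mem' := fun {a} ha => by
        show ad (R.ρ a⁻¹) v0 = v0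
        conv_lhs => rw [← show ad (R.ρ a) v0 = v0 from ha]
        rw [map_inv, ← ad_mul, inv_mul_cancel, ad_one] }
  have hfix : ∀ m, Upper m → ad (R.ρ m) v0 = v0 := fun m hm =>
    upper_mem hm St (ad_eq_iff.2 hs1) (ad_eq_iff.2 hs2)
  -- the six vectors
  set v : ι → M4 := fun i => ad (R.ρ (rep i)) v0 with hv
  have hmem : ∀ i, InW (v i) := fun i => ad_mem (hP.sp (R.mem _)) hv0
  have hperm : ∀ m, Act v (R.ρ m) (perm m) := fun m i => by
    have h := hfix _ (perm_spec m i)
    have h' := congrArg (ad (R.ρ (rep (perm m i)))) h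
    rw [map_mul, map_inv, ← ad_mul, mul_inv_cancel_left, map_mul, ad_mul] at h'
    exact h'
  have hact : ∀ g ∈ P, ∃ σ : Perm ι, Act v g σ := fun g hg => by
    obtain ⟨m, rfl⟩ := R.exists_eq hg
    exact ⟨perm m, hperm m⟩
  -- inner products
  set d := bW (v none) (v (some 0)) with hd
  have hbinv : ∀ (m : SL5) (A B : M4), InW A → InW B → bW (ad (R.ρ m) A) (ad (R.ρ m) B) = bW A B :=
    fun m A B => bW_ad h2 _
  have hoff : ∀ i j, i ≠ j → bW (v i) (v j) = d := by
    intro i j hij
    have h1 := hbinv ((rep i)⁻¹) _ _ (hmem i) (hmem j)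
    rw [hperm _ i, hperm _ j] at h1
    have e1 : perm (rep i)⁻¹ i = none := perm_eq (by simp [rep, Upper])
    rw [e1] at h1
    obtain ⟨x, hx⟩ : ∃ x, perm (rep i)⁻¹ j = some x := by
      rcases h : perm (rep i)⁻¹ j with _ | x
      · exact absurd ((perm (rep i)⁻¹).injective (e1.trans h.symm)) hij
      · exact ⟨x, rfl⟩
    rw [hx] at h1
    have h3 := hbinv (eU (-x)) _ _ (hmem none) (hmem (some x))
    have e2 : perm (eU (-x)) none = none := perm_eq (by
      show ((1 : SL5)⁻¹ * (eU _ * 1)).1 1 0 = 0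
      rw [inv_one, one_mul, mul_one]; simp [eU])
    have e3 : perm (eU (-x)) (some x) = some 0 := perm_eq (by
      simp only [rep, eU_zero, one_mul]
      rw [← mul_assoc (eU (-x)), eU_mul, neg_add_cancel, eU_zero, one_mul, inv_mul_cancel]
      simp [Upper])
    rw [hperm _ none, hperm _ (some x), e2, e3] at h3
    rw [← h1, ← h3]
  have hsum : ∑ i, v i = 0 := hP.eq_zero_of_fixed (wSpace.sum_mem fun i _ => hmem i) fun g hg => by
    obtain ⟨σ, hσ⟩ := hact g hg
    rw [map_sum]
    exact (Finset.sum_congr rfl fun i _ => hσ i).trans (Equiv.sum_comp σ v)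
  have hcard : Fintype.card ι = 6 := by rw [Fintype.card_option, ZMod.card]
  have hself : ∀ i, bW (v i) (v i) = -5 * d := fun i => by
    have h := bW_sum Finset.univ (v i) v
    rw [hsum, bW_zero, ← Finset.add_sum_erase _ _ (Finset.mem_univ i),
      Finset.sum_congr rfl (fun j hj => hoff i j (Finset.ne_of_mem_erase hj).symm), Finset.sum_const,
      Finset.card_erase_of_mem (Finset.mem_univ i), Finset.card_univ, hcard, nsmul_eq_mul] at h
    push_cast at h
    linear_combination -h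
  have hvne : v none ≠ 0 := by
    simpa [hv, rep, ad_one] using hv00
  have hbad : 6 * d = 0 → False := fun h6 => by
    have hall : ∀ i j, bW (v i) (v j) = d := fun i j => by
      rcases eq_or_ne i j with rfl | h
      · rw [hself]; linear_combination -h6
      · exact hoff i j h
    have hz := hP.isotropic_zero (fun k : ι × ι => v k.1 - v k.2)
      (fun k => show v k.1 - v k.2 ∈ wSpace from Submodule.sub_mem _ (hmem k.1) (hmem k.2))
      (fun k l => by
        rw [bW_sub, bW_comm _ (v l.1), bW_comm _ (v l.2), bW_sub, bW_sub, hall, hall, hall, hall]; ring)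
      (fun g hg k => by
        obtain ⟨σ, hσ⟩ := hact g hg
        exact ⟨(σ k.1, σ k.2), by simp only [map_sub, hσ k.1, hσ k.2]⟩)
    refine hvne (hP.eq_zero_of_fixed (hmem none) fun g hg => ?_)
    obtain ⟨σ, hσ⟩ := hact g hg
    rw [hσ none]
    exact sub_eq_zero.1 (hz (σ none, none))
  have hd0 : d ≠ 0 := fun e => hbad (by rw [e, mul_zero])
  have h30 : (3 : F) ≠ 0 := fun e => hbad (by linear_combination 2 * d * e)
  have hf : Frame v d := ⟨h2, h30, hcard, hmem, hsum, hoff, hd0⟩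
  -- the normaliser
  have he1 : ∀ x : K5, perm (eU 1) (some x) = some (1 + x) := fun x => perm_eq (by
    simp only [rep]
    rw [← mul_assoc (eU 1), eU_mul, inv_mul_cancel]
    simp [Upper])
  have hu : Act v (R.ρ (eU 1)) (perm (eU 1)) := hperm _
  have hu5 : (R.ρ (eU (1 : K5))) ^ 5 = 1 := by
    rw [← map_pow, show (eU (1 : K5)) ^ 5 = 1 by decide, map_one]
  have hpow : ∀ n : ℕ, Act v ((R.ρ (eU (1 : K5))) ^ n) ((perm (eU 1)) ^ n) := fun n => by
    induction n with
    | zero => rw [pow_zero, pow_zero]; exact Act.one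
    | succ n ih => rw [pow_succ, pow_succ]; exact ih.mul hu
  have hσ5 : (perm (eU (1 : K5))) ^ 5 = 1 := hf.act_unique (hpow 5) (hu5 ▸ Act.one)
  have hσ1 : perm (eU (1 : K5)) ≠ 1 := fun e => by
    have := he1 0
    rw [e, Equiv.Perm.one_apply, add_zero] at this
    exact absurd this (by decide)
  have hσnone : perm (eU (1 : K5)) none = none := perm_eq (by
      show ((1 : SL5)⁻¹ * (eU _ * 1)).1 1 0 = 0
      rw [inv_one, one_mul, mul_one]; simp [eU])
  have hfive : ∀ i, ∃ g ∈ P, ∃ σ : Perm ι, Act v g σ ∧ σ ^ 5 = 1 ∧ σ ≠ 1 ∧ σ i = i := by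
    intro i
    refine ⟨R.ρ (rep i) * R.ρ (eU 1) * (R.ρ (rep i))⁻¹, mul_mem (mul_mem (R.mem _) (R.mem _)) (inv_mem (R.mem _)),
      perm (rep i) * perm (eU 1) * (perm (rep i))⁻¹, ((hperm _).mul hu).mul (hperm _).inv, ?_, ?_, ?_⟩
    · rw [conj_pow, hσ5, mul_one, mul_inv_cancel]
    · exact fun e => hσ1 (conj_eq_one_iff.1 e)
    · have e : perm (rep i) none = i := perm_eq (by simp [rep, Upper])
      have e' : (perm (rep i))⁻¹ i = none := (Equiv.Perm.inv_eq_iff_eq).2 e.symm
      rw [Equiv.Perm.mul_apply, Equiv.Perm.mul_apply, e', hσnone, e]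
  have hle := hf.le_signStab hP hH.1.le hnorm hact hfive
  set τ : Perm ι := swap (some 0) (some 1) * swap (some 2) (some 3) with hτ
  obtain ⟨g, hg, hgτ⟩ := hf.induced hH hle (σ := τ) (Equiv.Perm.mem_alternatingGroup.2 (by
    rw [hτ, map_mul, Equiv.Perm.sign_swap (by decide), Equiv.Perm.sign_swap (by decide)]; rfl))
  obtain ⟨m, hm⟩ := R.exists_eq (hnorm g hg _ (R.mem (eU 1)))
  have hpm : perm m = τ * perm (eU 1) * τ⁻¹ := hf.act_unique (hperm m) (hm ▸ (hgτ.mul hu).mul hgτ.inv)
  have hτinv : τ⁻¹ = τ := by rw [hτ]; decide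
  have v1 : τ none = none ∧ τ (some 0) = some 1 ∧ τ (some 1) = some 0 ∧ τ (some 2) = some 3 := by
    rw [hτ]; decide
  have p0 : perm m none = none := by
    rw [hpm, Equiv.Perm.mul_apply, Equiv.Perm.mul_apply, hτinv, v1.1, hσnone, v1.1]
  have p1 : perm m (some 0) = some 3 := by
    rw [hpm, Equiv.Perm.mul_apply, Equiv.Perm.mul_apply, hτinv, v1.2.1, he1, show (1 : K5) + 1 = 2 from rfl, v1.2.2.2]
  have p2 : perm m (some 1) = some 0 := by
    rw [hpm, Equiv.Perm.mul_apply, Equiv.Perm.mul_apply, hτinv, v1.2.2.1, he1, add_zero, v1.2.2.1]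
  have q0 := perm_spec m none
  have q1 := perm_spec m (some 0)
  have q2 := perm_spec m (some 1)
  rw [p0] at q0; rw [p1] at q1; rw [p2] at q2
  have hdet := m.2
  rw [Matrix.det_fin_two] at hdet
  simp [Upper, rep, eU, wU, Matrix.adjugate_fin_two, Matrix.mul_apply, Fin.sum_univ_two,
    Matrix.SpecialLinearGroup.coe_inv] at q0 q1 q2
  revert hdet q0 q1 q2
  generalize m.1 0 0 = a, m.1 0 1 = b, m.1 1 0 = c, m.1 1 1 = e
  revert a b c e
  decide

end CfsgLib.Sp4Odd.Q.Five
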