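import Cfsg.Agent.Lib.Sp4Odd.Q.Cross
import Cfsg.Agent.Lib.MaxSub.ResThree.Dihedral.Fields
import Cfsg.Agent.Lib.MaxSub.ResThree.Dihedral.Facts
import Cfsg.Agent.Lib.MaxSub.ResThree.Dihedral.Traces

/-!
The double cover of the alternating group of degree seven lives over seven elements.
-/

set_option autoImplicit false
set_option linter.unusedSectionVars false
set_option maxHeartbeats 1000000

namespace CfsgLib.Sp4Odd.Q.Seven

open Matrix Equiv Equiv.Perm

theorem six_type {m : Multiset ℕ} (h2 : ∀ c ∈ m, 2 ≤ c) (h7 : m.sum ≤ 7) (he : Even (m.sum + Multiset.card m))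
    (hl : m.lcm = 6) : m = {3, 2, 2} := by
  have hmem : ∀ c ∈ m, c = 2 ∨ c = 3 ∨ c = 6 := fun c hc => by
    have hd : c ∣ 6 := hl ▸ Multiset.dvd_lcm hc
    have := h2 c hc
    have := Nat.le_of_dvd (by norm_num) hd
    interval_cases c <;> first | omega | exact absurd hd (by norm_num)
  have hm : m = Multiset.replicate (m.count 2) 2 + Multiset.replicate (m.count 3) 3 + Multiset.replicate (m.count 6) 6 := by
    refine Multiset.ext.2 fun c => ?_
    simp only [Multiset.count_add, Multiset.count_replicate]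
    by_cases hc : c ∈ m
    · rcases hmem c hc with rfl | rfl | rfl <;> simp
    · have h0 := Multiset.count_eq_zero.2 hc
      rcases eq_or_ne c 2 with rfl | e2
      · simp [h0]
      rcases eq_or_ne c 3 with rfl | e3
      · simp [h0]
      rcases eq_or_ne c 6 with rfl | e6
      · simp [h0]
      simp [h0, e2.symm, e3.symm, e6.symm]
  revert h7 he hl
  rw [hm]
  generalize m.count 2 = a, m.count 3 = b, m.count 6 = c
  intro h7 he hl
  simp only [Multiset.sum_add, Multiset.sum_replicate, smul_eq_mul, Multiset.card_add, Multiset.card_replicate] at h7 he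
  have : a ≤ 3 := by omega
  have : b ≤ 2 := by omega
  have : c ≤ 1 := by omega
  interval_cases a <;> interval_cases b <;> interval_cases c <;> first | omega | (revert he hl; decide)

/-- Elements of order six commute with a second involution. -/
theorem exists_commuting (x : alternatingGroup (Fin 7)) (h6 : orderOf x = 6) :
    ∃ c : alternatingGroup (Fin 7), c * c = 1 ∧ c ≠ 1 ∧ c * x = x * c ∧ c ≠ x ^ 3 := by
  set σ0 : Perm (Fin 7) := swap 0 1 * swap 1 2 * (swap 3 4 * swap 5 6) with hσ0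
  set c0 : Perm (Fin 7) := swap 3 5 * swap 4 6 with hc0
  have ht : ∀ σ : Perm (Fin 7), σ ∈ alternatingGroup (Fin 7) → orderOf σ = 6 → σ.cycleType = {3, 2, 2} := by
    intro σ hσ ho
    have hs := mem_alternatingGroup.1 hσ
    rw [sign_of_cycleType, neg_one_pow_eq_one_iff_even (by decide)] at hs
    have hle := sum_cycleType_le σ
    rw [Fintype.card_fin] at hle
    exact six_type (fun c hc => two_le_of_mem_cycleType hc) hle hs (by rw [lcm_cycleType, ho])
  have hev : σ0 ∈ alternatingGroup (Fin 7) := by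
    rw [mem_alternatingGroup, hσ0]; simp only [map_mul]
    rw [sign_swap (by decide), sign_swap (by decide), sign_swap (by decide), sign_swap (by decide)]
    rfl
  have hev' : c0 ∈ alternatingGroup (Fin 7) := by
    rw [mem_alternatingGroup, hc0, map_mul, sign_swap (by decide), sign_swap (by decide)]
    rfl
  have ho : orderOf σ0 = 6 := by
    rw [orderOf_eq_iff (by norm_num)]
    refine ⟨by rw [hσ0]; decide +kernel, fun k hk hk0 => ?_⟩
    interval_cases k <;> (rw [hσ0]; decide +kernel)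
  have hf : c0 * c0 = 1 ∧ c0 ≠ 1 ∧ c0 * σ0 = σ0 * c0 ∧ c0 ≠ σ0 ^ 3 := by rw [hσ0, hc0]; decide +kernel
  obtain ⟨τ, hτ⟩ := isConj_iff.1 (isConj_iff_cycleType_eq.2
    ((ht σ0 hev ho).trans (ht x.1 x.2 (by rw [Subgroup.orderOf_coe, h6])).symm))
  refine ⟨⟨τ * c0 * τ⁻¹, ?_⟩, Subtype.ext ?_, fun e => hf.2.1 ?_, Subtype.ext ?_, fun e => hf.2.2.2 ?_⟩
  · rw [mem_alternatingGroup, map_mul, map_mul, map_inv, mem_alternatingGroup.1 hev', mul_one, mul_inv_cancel]
  · show τ * c0 * τ⁻¹ * (τ * c0 * τ⁻¹) = 1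
    rw [conj_mul, hf.1, mul_one, mul_inv_cancel]
  · exact conj_eq_one_iff.1 (congrArg Subtype.val e)
  · show τ * c0 * τ⁻¹ * x.1 = x.1 * (τ * c0 * τ⁻¹)
    rw [← hτ, conj_mul, conj_mul, hf.2.2.1]
  · have h : τ * c0 * τ⁻¹ = x.1 ^ 3 := congrArg Subtype.val e
    rw [← hτ, conj_pow] at h
    exact mul_left_cancel (mul_right_cancel h)

variable {F : Type*} [Field F] [Fintype F]

local notation "G4" => Matrix.GeneralLinearGroup (Fin 2 ⊕ Fin 2) F

variable {P : Subgroup (Matrix.GeneralLinearGroup (Fin 2 ⊕ Fin 2) F)}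

theorem pm_sq {a : G4} (h : a = 1 ∨ a = -1) : a * a = 1 := by
  rcases h with rfl | rfl <;> simp

/-- The group lives over seven elements. -/
theorem card_eq (hP : Core P)
    (e : P ⧸ (Cfsg.Geo.scalars (Fin 2 ⊕ Fin 2) F).subgroupOf P ≃* alternatingGroup (Fin 7))
    {p : ℕ} [Fact p.Prime] [CharP F p] : Fintype.card F = 7 := by
  classical
  let π : P →* alternatingGroup (Fin 7) := e.toMonoidHom.comp (QuotientGroup.mk' _)
  have hker : ∀ g : P, π g = 1 → (g : G4) = 1 ∨ (g : G4) = -1 := fun g hg => by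
    have hm : g ∈ (Cfsg.Geo.scalars (Fin 2 ⊕ Fin 2) F).subgroupOf P :=
      (QuotientGroup.eq_one_iff g).1 (e.injective (hg.trans e.map_one.symm))
    exact hP.scalar_cases g.2 hm
  have hneg : π ⟨-1, hP.neg_mem⟩ = 1 := by
    show e _ = 1
    have hm : (⟨-1, hP.neg_mem⟩ : P) ∈ (Cfsg.Geo.scalars (Fin 2 ⊕ Fin 2) F).subgroupOf P := neg_one_mem_scalars
    rw [QuotientGroup.mk'_apply, (QuotientGroup.eq_one_iff _).2 hm, map_one]
  have hsurj : Function.Surjective π := e.surjective.comp (QuotientGroup.mk'_surjective _)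
  have odd_lift : ∀ (g : P) (n : ℕ), Odd n → π g ^ n = 1 → ∃ h : P, π h = π g ∧ (h : G4) ^ n = 1 := fun g n hn hg => by
    refine ⟨g ^ (n + 1), by rw [map_pow, pow_succ, hg, one_mul], ?_⟩
    have h := hker (g ^ n) (by rw [map_pow, hg])
    obtain ⟨k, rfl⟩ := hn
    rw [SubmonoidClass.coe_pow, ← pow_mul, mul_comm, pow_mul, show 2 * k + 1 + 1 = 2 * (k + 1) by ring, pow_mul,
      pow_two, ← SubmonoidClass.coe_pow, pm_sq h, one_pow]
  have sq_lift : ∀ (g : P) (n : ℕ), Odd n → π g ^ n = 1 → IsConj (π g) (π g ^ 2) →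
      ∃ h : P, π h = π g ∧ (h : G4) ^ n = 1 ∧ IsConj (h : G4) ((h : G4) ^ 2) := fun g n hn hg hc => by
    obtain ⟨h, hh, hhn⟩ := odd_lift g n hn hg
    obtain ⟨c₀, hc₀⟩ := isConj_iff.1 hc
    obtain ⟨c, rfl⟩ := hsurj c₀
    refine ⟨h, hh, hhn, isConj_iff.2 ⟨c, ?_⟩⟩
    rcases hker ((h ^ 2)⁻¹ * (c * h * c⁻¹)) (by
        rw [map_mul, map_inv, map_pow, map_mul, map_mul, map_inv, hh, hc₀, inv_mul_cancel]) with e1 | e1
    · simp only [Subgroup.coe_mul, InvMemClass.coe_inv, SubmonoidClass.coe_pow, inv_mul_eq_one] at e1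
      exact e1.symm
    · simp only [Subgroup.coe_mul, InvMemClass.coe_inv, SubmonoidClass.coe_pow, inv_mul_eq_iff_eq_mul] at e1
      have h1 := congrArg (· ^ n) e1
      simp only [conj_pow, hhn, mul_one, mul_inv_cancel, mul_neg] at h1
      rw [neg_pow, ← pow_mul, mul_comm 2 n, pow_mul, hhn, one_pow, mul_one, hn.neg_one_pow] at h1
      exact absurd h1.symm hP.gl_neg_one_ne
  -- characteristic seven
  have h70 : ((7 : ℕ) : F) = 0 := by
    haveI : Fact (Nat.Prime 7) := ⟨by norm_num⟩
    obtain ⟨τ, hτ⟩ := exists_prime_orderOf_dvd_card' (G := alternatingGroup (Fin 7)) 7 (by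
      rw [nat_card_alternatingGroup, Nat.card_fin]
      norm_num [Nat.factorial])
    obtain ⟨g, rfl⟩ := hsurj τ
    have h7 : π g ^ 7 = 1 := orderOf_dvd_iff_pow_eq_one.1 (dvd_of_eq hτ)
    have hne : π g ≠ 1 := fun e1 => by rw [e1, orderOf_one] at hτ; omega
    rcases CfsgLib.ResThree.alt_cases (π g) with ⟨h, -⟩ | ⟨-, hc⟩ | ⟨-, h | h⟩
    · exact absurd (CfsgLib.ResThree.eq_one_of_coprime_pows h7 h (by norm_num)) hne
    · obtain ⟨k, hk, hk7, hkc⟩ := sq_lift g 7 (by decide) h7 hc
      refine seven_char (hP.sp k.2) hk7 (fun e1 => hne ?_) hkc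
      rw [← hk, show k = 1 from Subtype.ext e1, map_one]
    · exact absurd (CfsgLib.ResThree.eq_one_of_coprime_pows h7 h (by norm_num)) hne
    · exact absurd (CfsgLib.ResThree.eq_one_of_coprime_pows h7 h (by norm_num)) hne
  have hp : p = 7 := (Nat.prime_dvd_prime_iff_eq (Fact.out : p.Prime) (by norm_num)).1
    ((CharP.cast_eq_zero_iff F p 7).1 h70)
  subst hp
  have htp : ∀ a : G4, (a ^ 7).1.trace = a.1.trace ^ 7 := fun a => by
    rw [Units.val_pow_eq_pow_val, CfsgLib.ResThree.trace_pow_char_eq]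
  set S := RingHom.eqLocusField (frobenius F 7) (RingHom.id F)
  have hmem : ∀ x : F, x ∈ S ↔ x ^ 7 = x := fun x => Iff.rfl
  have htr : ∀ g : P, ((g : G4).1.trace) ^ 7 = (g : G4).1.trace := by
    intro g
    have sign : ∀ h : P, π h = π g → (h : G4).1.trace ^ 7 = (h : G4).1.trace →
        (g : G4).1.trace ^ 7 = (g : G4).1.trace := by
      intro h hh ht
      rcases hker (h⁻¹ * g) (by rw [map_mul, map_inv, hh, inv_mul_cancel]) with e1 | e1
      · simp only [Subgroup.coe_mul, InvMemClass.coe_inv, inv_mul_eq_one] at e1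
        rw [← e1]; exact ht
      · simp only [Subgroup.coe_mul, InvMemClass.coe_inv, inv_mul_eq_iff_eq_mul, mul_neg, mul_one] at e1
        rw [e1, Units.val_neg, Matrix.trace_neg, Odd.neg_pow (by decide), ht]
    rcases CfsgLib.ResThree.alt_cases (π g) with ⟨h, hc⟩ | ⟨h, hc⟩ | ⟨-, h | h⟩
    · obtain ⟨k, hk, hk5, hkc⟩ := sq_lift g 5 (by decide) h hc
      refine sign k hk ?_
      rw [← htp, show (k : G4) ^ 7 = (k : G4) ^ 2 by rw [show 7 = 5 + 2 from rfl, pow_add, hk5, one_mul]]
      obtain ⟨c, hc'⟩ := isConj_iff.1 hkc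
      rw [← hc', Units.val_mul, Units.val_mul, Matrix.trace_mul_cycle, ← Units.val_mul, inv_mul_cancel, Units.val_one,
        one_mul]
    · obtain ⟨k, hk, hk7, -⟩ := sq_lift g 7 (by decide) h hc
      refine sign k hk ?_
      have h4 := htp k
      rw [hk7, Units.val_one, Matrix.trace_one, Fintype.card_sum, Fintype.card_fin] at h4
      set t := (k : G4).1.trace
      have h47 : ((2 + 2 : ℕ) : F) ^ 7 = ((2 + 2 : ℕ) : F) := by rw [← frobenius_def, map_natCast]
      have hz : (t - ((2 + 2 : ℕ) : F)) ^ 7 = 0 := by rw [sub_pow_char, h47, ← h4, sub_self]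
      rw [← h4, sub_eq_zero.1 (eq_zero_of_pow_eq_zero hz)]
    · have h8 : (g : G4) ^ 8 = 1 := by
        rw [show 8 = 4 * 2 from rfl, pow_mul, pow_two, ← SubmonoidClass.coe_pow, pm_sq (hker _ (by rw [map_pow, h]))]
      rw [← htp, show (g : G4) ^ 7 = (g : G4)⁻¹ by
        rw [eq_inv_iff_mul_eq_one, ← pow_succ]; exact h8, trace_inv (hP.sp g.2)]
    · by_cases h3 : π g ^ 3 = 1
      · obtain ⟨k, hk, hk3⟩ := odd_lift g 3 (by decide) h3
        refine sign k hk ?_
        rw [← htp, show (k : G4) ^ 7 = k by rw [show 7 = 3 * 2 + 1 from rfl, pow_succ, pow_mul, hk3, one_pow, one_mul]]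
      by_cases h2 : π g ^ 2 = 1
      · have h4 : (g : G4) ^ 4 = 1 := by
          rw [show 4 = 2 * 2 from rfl, pow_mul, pow_two ((g : G4) ^ 2), ← SubmonoidClass.coe_pow,
            pm_sq (hker _ (by rw [map_pow, h2]))]
        rw [← htp, show (g : G4) ^ 7 = (g : G4)⁻¹ by
          rw [eq_inv_iff_mul_eq_one, ← pow_succ, show 7 + 1 = 4 * 2 from rfl, pow_mul, h4, one_pow],
          trace_inv (hP.sp g.2)]
      -- order six: the trace vanishes
      have h6 : orderOf (π g) = 6 := by
        rw [orderOf_eq_iff (by norm_num)]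
        refine ⟨h, fun m hm hm0 hm1 => ?_⟩
        have hd := (pow_gcd_eq_one (a := π g) (m := m) (n := 6)).2 ⟨hm1, h⟩
        interval_cases m
        · exact h2 (by rw [show (π g) = 1 by simpa using hm1, one_pow])
        · exact h2 hm1
        · exact h3 hm1
        · exact h2 (by simpa using hd)
        · exact h2 (by rw [show (π g) = 1 by simpa using hd, one_pow])
      obtain ⟨c₀, hcc, hc1, hcx, hc3⟩ := exists_commuting (π g) h6
      obtain ⟨k, rfl⟩ := hsurj c₀
      have sq_neg : ∀ a : P, π a * π a = 1 → π a ≠ 1 → (a : G4) * a = -1 := fun a ha ha1 => by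
        rcases hker (a * a) (by rw [map_mul, ha]) with e1 | e1
        · exfalso
          rw [Subgroup.coe_mul] at e1
          rcases hP.one_invol a a.2 e1 with e2 | e2
          · exact ha1 (by rw [show a = 1 from Subtype.ext e2, map_one])
          · exact ha1 (by rw [show a = ⟨-1, hP.neg_mem⟩ from Subtype.ext (Units.ext (e2.trans coe_neg_one.symm)), hneg])
        · exact e1
      have hm2 : π (g ^ 3) * π (g ^ 3) = 1 := by rw [← map_mul, ← pow_add, map_pow, h]
      have hm1 : π (g ^ 3) ≠ 1 := by rw [map_pow]; exact h3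
      rcases hker (k * g * k⁻¹ * g⁻¹) (by
          rw [map_mul, map_mul, map_mul, map_inv, map_inv, hcx, mul_inv_cancel_right, mul_inv_cancel]) with e1 | e1
      · exfalso
        simp only [Subgroup.coe_mul, InvMemClass.coe_inv, mul_inv_eq_one, mul_inv_eq_iff_eq_mul, one_mul] at e1
        have hcom : Commute (k : G4) ((g ^ 3 : P) : G4) := by
          rw [SubmonoidClass.coe_pow]; exact (show Commute (k : G4) (g : G4) from e1).pow_right 3
        have hsq : (((k * g ^ 3 : P) : G4)) * ((k * g ^ 3 : P) : G4) = 1 := by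
          rw [Subgroup.coe_mul, hcom.symm.mul_mul_mul_comm, sq_neg k hcc hc1, sq_neg _ hm2 hm1]
          simp
        refine hc3 ?_
        have hz : π (k * g ^ 3) = 1 := by
          rcases hP.one_invol _ (k * g ^ 3).2 hsq with e2 | e2
          · rw [show k * g ^ 3 = 1 from Subtype.ext e2, map_one]
          · rw [show k * g ^ 3 = ⟨-1, hP.neg_mem⟩ from Subtype.ext (Units.ext (e2.trans coe_neg_one.symm)), hneg]
        rw [map_mul] at hz
        rw [← map_pow, eq_inv_of_mul_eq_one_left hz]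
        exact inv_eq_of_mul_eq_one_right hm2
      · simp only [Subgroup.coe_mul, InvMemClass.coe_inv, mul_inv_eq_iff_eq_mul, neg_mul, one_mul] at e1
        have h0 : (g : G4).1.trace = -(g : G4).1.trace := by
          calc (g : G4).1.trace = ((k : G4) * g * (k : G4)⁻¹).1.trace := by
                rw [Units.val_mul, Units.val_mul, Matrix.trace_mul_cycle, ← Units.val_mul, inv_mul_cancel,
                  Units.val_one, one_mul]
            _ = _ := by rw [e1, neg_mul, mul_inv_cancel_right, Units.val_neg, Matrix.trace_neg]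
        have : (g : G4).1.trace = 0 := (mul_eq_zero.1
          (show (2 : F) * (g : G4).1.trace = 0 by linear_combination h0)).resolve_left hP.two
        rw [this, zero_pow (by norm_num)]
  have hS : S = ⊤ := by
    by_contra hne
    exact hP.prim S hne (CfsgLib.Sp4Even.realisable_of_traces hP.envelope_top fun g hg => (hmem _).2 (htr ⟨g, hg⟩))
  have hle := CfsgLib.ResThree.card_le_of_forall_pow (F := F) (p := 7) le_rfl fun x => by
    rw [pow_one]; exact (hmem x).1 (hS ▸ Subfield.mem_top x)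
  rw [pow_one] at hle
  exact le_antisymm hle CfsgLib.ResThree.char_le_card

end CfsgLib.Sp4Odd.Q.Seven
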