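import Cfsg.Agent.Lib.Sp4Odd.Q.Stab
import Cfsg.Agent.Lib.Sp4Odd.Q.Cross
import Cfsg.Agent.Lib.MaxSub.ResThree.Dihedral.Fields
import Mathlib.FieldTheory.Finite.Basic

/-!
The special linear group over nine elements in cross characteristic.
-/

set_option autoImplicit false
set_option linter.unusedSectionVars false
set_option maxHeartbeats 1000000

namespace CfsgLib.Sp4Odd.Q.Six

open Matrix Equiv

variable {F : Type*} [Field F] [Fintype F]

local notation "M4" => Matrix (Fin 2 ⊕ Fin 2) (Fin 2 ⊕ Fin 2) F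
local notation "G4" => Matrix.GeneralLinearGroup (Fin 2 ⊕ Fin 2) F

variable {K : Type} [Field K] [Fintype K] {P : Subgroup (Matrix.GeneralLinearGroup (Fin 2 ⊕ Fin 2) F)}

/-- Conjugation by a diagonal matrix. -/
def twist (z : K) (hz : z ≠ 0) : Matrix.SpecialLinearGroup (Fin 2) K →* Matrix.SpecialLinearGroup (Fin 2) K where
  toFun m := ⟨!![m.1 0 0, z * m.1 0 1; z⁻¹ * m.1 1 0, m.1 1 1], by
    have := m.2
    rw [Matrix.det_fin_two] at this ⊢
    simp
    field_simp
    linear_combination this⟩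
  map_one' := Subtype.ext (by simp [Matrix.one_fin_two])
  map_mul' a b := Subtype.ext (by
    show _ = !![_, _; _, _] * !![_, _; _, _]
    ext i j
    fin_cases i <;> fin_cases j <;> simp [Matrix.mul_apply, Fin.sum_univ_two] <;> field_simp)

theorem twist_val (z : K) (hz : z ≠ 0) (m : Matrix.SpecialLinearGroup (Fin 2) K) :
    (twist z hz m).1 = !![m.1 0 0, z * m.1 0 1; z⁻¹ * m.1 1 0, m.1 1 1] := rfl

theorem twist_twist (z : K) (hz : z ≠ 0) (m : Matrix.SpecialLinearGroup (Fin 2) K) :
    twist z⁻¹ (inv_ne_zero hz) (twist z hz m) = m := by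
  apply Subtype.ext
  ext i j
  fin_cases i <;> fin_cases j <;> simp [twist_val, hz]

/-- The twisted representation. -/
def rot (R : Rep K P) (z : K) (hz : z ≠ 0) : Rep K P where
  ρ := R.ρ.comp (twist z hz)
  inj := R.inj.comp fun a b h => by rw [← twist_twist z hz a, h, twist_twist]
  range := by
    rw [MonoidHom.range_comp, MonoidHom.range_eq_top.2, ← MonoidHom.range_eq_map, R.range]
    intro m
    refine ⟨twist z⁻¹ (inv_ne_zero hz) m, ?_⟩
    have := twist_twist z⁻¹ (inv_ne_zero hz) m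
    simpa using this

theorem rot_eU (R : Rep K P) (z : K) (hz : z ≠ 0) : (rot R z hz).ρ (eU 1) = R.ρ (eU z) := by
  show R.ρ (twist z hz (eU 1)) = _
  congr 1
  apply Subtype.ext
  rw [twist_val]
  simp [eU]

theorem exists_sqrt_neg_one (hK : Fintype.card K = 9) : ∃ i : K, i * i = -1 := by
  obtain ⟨i, hi⟩ := (FiniteField.isSquare_neg_one_iff (F := K)).2 (by rw [hK]; norm_num)
  exact ⟨i, hi.symm⟩

theorem three_eq_zero (hK : Fintype.card K = 9) : (3 : K) = 0 := by
  obtain ⟨k, hp, hk⟩ := FiniteField.card K (ringChar K)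
  have : ringChar K ∣ 3 ^ 2 := by
    rw [show (3 : ℕ) ^ 2 = 9 by norm_num, ← hK, hk]; exact dvd_pow_self _ k.ne_zero
  have h3 := (Nat.prime_dvd_prime_iff_eq hp Nat.prime_three).1 (hp.dvd_of_dvd_pow this)
  have h0 : ((ringChar K : ℕ) : K) = 0 := CharP.cast_eq_zero K _
  rw [h3] at h0
  exact_mod_cast h0

/-- Some twist has an element of order three without eigenvalue one. -/
theorem exists_good (R : Rep K P) (hK : Fintype.card K = 9) (h3 : (3 : F) ≠ 0) :
    ∃ R' : Rep K P, (R'.ρ (eU 1)).1 * (R'.ρ (eU 1)).1 + (R'.ρ (eU 1)).1 + 1 = 0 := by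
  classical
  obtain ⟨i, hi⟩ := exists_sqrt_neg_one hK
  have h30 := three_eq_zero hK
  haveI : CharP K 3 := (CharP.charP_iff_prime_eq_zero Nat.prime_three).2 h30
  obtain ⟨v, χ, hv0, hv, h1, hadd, h0⟩ := R.exists_char 3 (by exact_mod_cast h3)
  have hcube : ∀ x, χ x ^ 3 = 1 := fun x => by
    rw [pow_succ, pow_two, ← hadd, ← hadd, show x + x + x = 0 by linear_combination x * h30, h0]
  have hne1 : (1 : K) ≠ -1 := fun e => one_ne_zero (α := K) (by linear_combination h30 - e)
  have hi0 : i ≠ 0 := fun e => by rw [e, mul_zero] at hi; exact one_ne_zero (α := K) (by linear_combination hi)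
  have hi1 : i ≠ 1 ∧ i ≠ -1 := ⟨fun e => hne1 (by rw [e] at hi; linear_combination hi),
    fun e => hne1 (by rw [e] at hi; linear_combination hi)⟩
  let a : Fin 4 → K := ![1, i, 1 + i, 1 - i]
  have hsq : ∀ k, ∃ s ∈ ({1, -1, i, -i} : Finset K), a k * a k = s := by
    intro k
    fin_cases k
    · exact ⟨1, by simp, by simp [a]⟩
    · exact ⟨-1, by simp, by simpa [a] using hi⟩
    · exact ⟨-i, by simp, by show (1 + i) * (1 + i) = -i; linear_combination hi + i * h30⟩
    · exact ⟨i, by simp, by show (1 - i) * (1 - i) = i; linear_combination hi - i * h30⟩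
  have ha0 : ∀ k, a k ≠ 0 := by
    intro k
    fin_cases k
    · exact one_ne_zero
    · exact hi0
    · show (1 : K) + i ≠ 0
      exact fun e => hi1.2 (by linear_combination e)
    · show (1 : K) - i ≠ 0
      exact fun e => hi1.1 (by linear_combination -e)
  have hd : ∀ j k, j ≠ k → a j * a j ≠ a k * a k := by
    have e0 : a 0 * a 0 = 1 := by simp [a]
    have e1 : a 1 * a 1 = -1 := by simpa [a] using hi
    have e2 : a 2 * a 2 = -i := by show (1 + i) * (1 + i) = -i; linear_combination hi + i * h30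
    have e3 : a 3 * a 3 = i := by show (1 - i) * (1 - i) = i; linear_combination hi - i * h30
    have n1 : i ≠ -i := fun e => hi0 (by linear_combination i * h30 - e)
    intro j k hjk h
    fin_cases j <;> fin_cases k <;> simp only [a] at h e0 e1 e2 e3 hjk ⊢ <;> simp at h e0 e1 e2 e3 hjk <;> grind
  choose w hw0 hw using fun k => R.char_conj hv0 hv (a k) (ha0 k)
  have hli := indep_of_chars (fun x => toBar (R.ρ (eU x))) (fun k x => χ (a k * a k * x)) (fun j k e => by
    by_contra hjk
    exact hd j k hjk (char_ne h1 hadd h0 (congrFun e))) w hw0 hw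
  have hspan := hli.span_eq_top_of_card_eq_finrank (by simp)
  -- the kernel is a line
  have hneg : ∀ x, χ x ≠ 1 → χ (-x) ≠ 1 := fun x hx e => hx (by
    have := hadd x (-x); rw [add_neg_cancel, h0, e, mul_one] at this; exact this.symm)
  obtain ⟨z, hz⟩ : ∃ z : K, ∀ k, χ (a k * a k * z) ≠ 1 := by
    by_cases hg : χ i = 1
    · refine ⟨1 + i, fun k h => ?_⟩
      have e11 : χ (1 + i) ≠ 1 := fun e => h1 (by rw [hadd, hg, mul_one] at e; exact e)
      have e1i : χ (1 - i) ≠ 1 := fun e => h1 (by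
        have := hadd (1 - i) i; rw [sub_add_cancel, e, hg, one_mul] at this; exact this)
      obtain ⟨s, hs, hks⟩ := hsq k
      rw [hks] at h
      simp only [Finset.mem_insert, Finset.mem_singleton] at hs
      rcases hs with hs | hs | hs | hs <;> rw [hs] at h
      · rw [one_mul] at h; exact e11 h
      · rw [neg_one_mul] at h; exact hneg _ e11 h
      · rw [show i * (1 + i) = -(1 - i) by linear_combination hi] at h; exact hneg _ e1i h
      · rw [show -i * (1 + i) = 1 - i by linear_combination -hi] at h; exact e1i h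
    · refine ⟨1, fun k h => ?_⟩
      obtain ⟨s, hs, hks⟩ := hsq k
      rw [hks, mul_one] at h
      simp only [Finset.mem_insert, Finset.mem_singleton] at hs
      rcases hs with hs | hs | hs | hs <;> rw [hs] at h
      · exact h1 h
      · exact hneg _ h1 h
      · exact hg h
      · exact hneg _ hg h
  have hz0 : z ≠ 0 := fun e => hz 0 (by rw [e, mul_zero, h0])
  refine ⟨rot R z hz0, ?_⟩
  rw [rot_eU]
  set g := R.ρ (eU z)
  have hbar : toBar g * toBar g + toBar g + 1 = 0 := by
    refine Matrix.toLin'.injective (LinearMap.ext_on_range hspan fun k => ?_)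
    rw [map_zero, LinearMap.zero_apply, Matrix.toLin'_apply, Matrix.add_mulVec, Matrix.add_mulVec, Matrix.one_mulVec,
      ← Matrix.mulVec_mulVec, hw k z, Matrix.mulVec_smul, hw k z, smul_smul, ← add_smul]
    set c := χ (a k * a k * z)
    have hc : c * c + c + 1 = 0 := by
      refine (mul_eq_zero.1 (show (c - 1) * (c * c + c + 1) = 0 from ?_)).resolve_left (sub_ne_zero.2 (hz k))
      linear_combination hcube (a k * a k * z)
    conv_lhs => arg 2; rw [← one_smul (AlgebraicClosure F) (w k)]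
    rw [← add_smul, hc, zero_smul]
  have : (algebraMap F (AlgebraicClosure F)).mapMatrix (g.1 * g.1 + g.1 + 1) = 0 := by
    rw [map_add, map_add, map_mul, map_one]; exact hbar
  exact Matrix.map_injective (algebraMap F (AlgebraicClosure F)).injective (this.trans (by simp))

theorem three_le_fixed (hP : Core P) (h3 : (3 : F) ≠ 0) {u : G4} (hu : u ∈ P) (h : u.1 * u.1 + u.1 + 1 = 0) :
    ∃ s : M4, 3 ≤ Module.finrank F (commW s) ∧ ∀ A, s * A = A * s → ad u A = A := by
  have hinv : (u⁻¹).1 = u.1 * u.1 := by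
    have e : u.1 * (u.1 * u.1) = 1 := by
      have := congrArg (fun X => u.1 * X - X) h
      simp only [mul_add, mul_one, mul_zero, sub_zero] at this
      rw [← sub_eq_zero, ← this]
      abel
    calc (u⁻¹).1 = (u⁻¹).1 * (u.1 * (u.1 * u.1)) := by rw [e, mul_one]
      _ = _ := by rw [← mul_assoc, ← Units.val_mul, inv_mul_cancel, Units.val_one, one_mul]
  have hsq : u.1 * u.1 = -u.1 - 1 := by rw [← sub_eq_zero, ← h]; abel
  refine ⟨u.1 - u.1 * u.1, three_le_commW hP.two (k := -3) ?_ ?_ (neg_ne_zero.2 h3), fun A hA => ?_⟩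
  · rw [adjS_sub, adjS_mul, ← inv_eq_adjS (hP.sp hu), hinv, neg_sub]
    congr 1
    calc u.1 * u.1 * (u.1 * u.1) = u.1 * (u.1 * (u.1 * u.1)) := by simp only [mul_assoc]
      _ = u.1 * 1 := by rw [show u.1 * (u.1 * u.1) = 1 by rw [← hinv, ← Units.val_mul, mul_inv_cancel, Units.val_one]]
      _ = u.1 := mul_one _
  · rw [show u.1 - u.1 * u.1 = (2 : F) • u.1 + 1 by rw [hsq, two_smul]; abel]
    simp only [add_mul, mul_add, Matrix.smul_mul, Matrix.mul_smul, one_mul, mul_one, hsq, smul_sub, smul_neg, smul_smul]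
    match_scalars <;> ring
  · rw [show u.1 - u.1 * u.1 = (2 : F) • u.1 + 1 by rw [hsq, two_smul]; abel] at hA
    simp only [add_mul, mul_add, Matrix.smul_mul, Matrix.mul_smul, one_mul, mul_one, add_left_inj] at hA
    rw [ad_eq_iff]
    exact smul_right_injective M4 hP.two hA

/-- The matrices with the conjugation action. -/
def AdM (F : Type*) := Matrix (Fin 2 ⊕ Fin 2) (Fin 2 ⊕ Fin 2) F

instance : MulAction P (AdM F) where
  smul g A := ad (g : G4) A
  one_smul A := ad_one A
  mul_smul g k A := ad_mul (g : G4) (k : G4) A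

instance : Finite (AdM F) := inferInstanceAs (Finite M4)

/-- Six vectors with the action of all even permutations. -/
theorem exists_frame (hP : Core P) (R : Rep K P) (hK : Fintype.card K = 9) (h3 : (3 : F) ≠ 0) :
    ∃ (ι : Type) (_ : Fintype ι) (_ : DecidableEq ι) (v : ι → M4) (d : F), Frame v d ∧
      (∀ g ∈ P, ∃ σ : Perm ι, σ ∈ alternatingGroup ι ∧ Act v g σ) ∧
      ∀ i, ∃ g ∈ P, ∃ σ : Perm ι, Act v g σ ∧ σ ^ 5 = 1 ∧ σ ≠ 1 ∧ σ i = i := by
  classical
  obtain ⟨R, hu⟩ := exists_good R hK h3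
  obtain ⟨i, hi⟩ := exists_sqrt_neg_one hK
  have h30 := three_eq_zero hK
  have hK2 : (2 : K) ≠ 0 := fun e => one_ne_zero (α := K) (by linear_combination h30 - e)
  -- a conjugate of the unitriangular element
  have hi1 : (1 : K) + i ≠ 0 := fun e => hK2 (by linear_combination hi - (i - 1) * e)
  set c : Matrix.SpecialLinearGroup (Fin 2) K := wU * tU (1 + i) hi1
  have hcf : c * eU 1 * c⁻¹ = fU i := by
    rw [mul_inv_eq_iff_eq_mul, mul_assoc, tU_eU, ← mul_assoc, wU_eU, mul_assoc]
    congr 2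
    linear_combination -hi - i * h30
  have hu' : (R.ρ (fU i)).1 * (R.ρ (fU i)).1 + (R.ρ (fU i)).1 + 1 = 0 := by
    rw [← hcf, map_mul, map_mul, map_inv]
    set g := R.ρ c
    have e := congrArg (fun X => g.1 * X * (g⁻¹).1) hu
    simp only [mul_add, add_mul, mul_zero, zero_mul, mul_one, ← Units.val_mul, mul_inv_cancel, Units.val_one] at e
    rw [← Units.val_mul]
    convert e using 4
    group
  obtain ⟨s, hs, hsf⟩ := three_le_fixed hP h3 (R.mem _) hu
  obtain ⟨t, ht, htf⟩ := three_le_fixed hP h3 (R.mem _) hu'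
  obtain ⟨v0, hv0, hv00, hv0s, hv0t⟩ := exists_common hP.two hs ht
  -- the stabiliser
  have hsmul : ∀ (g : P) (A : AdM F), g • A = ad (g : G4) A := fun _ _ => rfl
  obtain ⟨w0, hw0⟩ : ∃ w0 : AdM F, w0 = v0 := ⟨v0, rfl⟩
  set St := MulAction.stabilizer P w0 with hSt
  let ψ : Matrix.SpecialLinearGroup (Fin 2) K ≃* P := R.equiv
  have hψ : ∀ m, ((ψ m : P) : G4) = R.ρ m := fun _ => rfl
  have ha : ψ (eU 1) ∈ St := MulAction.mem_stabilizer_iff.2 (by rw [hsmul, hψ, hw0]; exact hsf _ hv0s)
  have hb : ψ (fU i) ∈ St := MulAction.mem_stabilizer_iff.2 (by rw [hsmul, hψ, hw0]; exact htf _ hv0t)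
  set a := (eU 1 : Matrix.SpecialLinearGroup (Fin 2) K)
  set b := (fU i : Matrix.SpecialLinearGroup (Fin 2) K)
  set Y := St.comap ψ.toMonoidHom with hY
  have haY : a ∈ Y := ha
  have hbY : b ∈ Y := hb
  set A := a * a * b * a * b with hA
  set B := b * a * a * b * a with hB
  have hab : (a * b).1 = !![1 + i, 1; i, 1] := by
    show !![1, (1 : K); 0, 1] * !![1, 0; i, 1] = _
    simp [add_comm]
  have hAv : A.1 = !![-1 - i, -i; -1 - i, 1 + i] := by
    rw [hA]
    show !![1, (1 : K); 0, 1] * !![1, (1 : K); 0, 1] * !![1, 0; i, 1] * !![1, (1 : K); 0, 1] * !![1, 0; i, 1] = _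
    ext r c
    fin_cases r <;> fin_cases c <;> simp [Matrix.mul_apply, Fin.sum_univ_two] <;> grind
  have hBv : B.1 = !![1 - i, -i; 1 - i, -1 + i] := by
    rw [hB]
    show !![1, 0; i, 1] * !![1, (1 : K); 0, 1] * !![1, (1 : K); 0, 1] * !![1, 0; i, 1] * !![1, (1 : K); 0, 1] = _
    ext r c
    fin_cases r <;> fin_cases c <;> simp [Matrix.mul_apply, Fin.sum_univ_two] <;> grind
  have hAA : A * A = zU := Subtype.ext (by
    rw [Matrix.SpecialLinearGroup.coe_mul, hAv]
    show _ = !![(-1 : K), 0; 0, -1]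
    ext r c
    fin_cases r <;> fin_cases c <;> simp [Matrix.mul_apply, Fin.sum_univ_two] <;> grind)
  have hBB : B * B = zU := Subtype.ext (by
    rw [Matrix.SpecialLinearGroup.coe_mul, hBv]
    show _ = !![(-1 : K), 0; 0, -1]
    ext r c
    fin_cases r <;> fin_cases c <;> simp [Matrix.mul_apply, Fin.sum_univ_two] <;> grind)
  have hABBA : A * B = zU * (B * A) := Subtype.ext (by
    show A.1 * B.1 = (zU : Matrix.SpecialLinearGroup (Fin 2) K).1 * (B.1 * A.1)
    rw [hAv, hBv]
    show _ = !![(-1 : K), 0; 0, -1] * _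
    ext r c
    fin_cases r <;> fin_cases c <;> simp [Matrix.mul_apply, Fin.sum_univ_two] <;> grind)
  have hab5 : (a * b) ^ 5 = zU := Subtype.ext (by
    rw [Matrix.SpecialLinearGroup.coe_pow, hab]
    show _ = !![(-1 : K), 0; 0, -1]
    simp only [pow_succ, pow_zero, one_mul]
    ext r c
    fin_cases r <;> fin_cases c <;> simp [Matrix.mul_apply, Fin.sum_univ_two] <;> grind)
  have hne : ∀ m : Matrix.SpecialLinearGroup (Fin 2) K, m.1 1 0 ≠ 0 → m ≠ 1 ∧ m ≠ zU := fun m hm =>
    ⟨fun e => hm (by rw [e]; simp), fun e => hm (by rw [e]; simp [zU])⟩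
  have hzne : (zU : Matrix.SpecialLinearGroup (Fin 2) K) ≠ 1 := fun e => hK2 (by
    have := congrFun (congrFun (congrArg Subtype.val e) 0) 0
    simp [zU] at this
    linear_combination -this)
  have hAY : A ∈ Y := Y.mul_mem (Y.mul_mem (Y.mul_mem (Y.mul_mem haY haY) hbY) haY) hbY
  have hBY : B ∈ Y := Y.mul_mem (Y.mul_mem (Y.mul_mem (Y.mul_mem hbY haY) haY) hbY) haY
  have hzY : zU ∈ Y := hAA ▸ Y.mul_mem hAY hAY
  -- orders in the stabiliser
  have hA4 : orderOf A = 4 := by
    refine orderOf_eq_prime_pow (p := 2) (n := 1) ?_ ?_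
    · rw [pow_one, pow_two, hAA]; exact hzne
    · rw [show 2 ^ (1 + 1) = 2 * 2 by norm_num, pow_mul, pow_two A, hAA, pow_two, zU_sq]
  have d5 : 5 ∣ Nat.card Y := by
    haveI : Fact (Nat.Prime 5) := ⟨Nat.prime_five⟩
    have h5 : orderOf ((a * b) ^ 2) = 5 := orderOf_eq_prime
      (by rw [← pow_mul, show 2 * 5 = 5 * 2 from rfl, pow_mul, hab5, pow_two, zU_sq]) (fun e => by
        have := congrFun (congrFun (congrArg Subtype.val e) 1) 0
        rw [Matrix.SpecialLinearGroup.coe_pow, hab, pow_two] at this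
        simp [Matrix.mul_apply, Fin.sum_univ_two] at this
        have hi0 : i ≠ 0 := fun e => by rw [e, mul_zero] at hi; exact one_ne_zero (α := K) (by linear_combination hi)
        grind)
    exact h5 ▸ Subgroup.orderOf_dvd_natCard Y (Y.pow_mem (Y.mul_mem haY hbY) 2)
  have d3 : 3 ∣ Nat.card Y := by
    haveI : Fact (Nat.Prime 3) := ⟨Nat.prime_three⟩
    have h3o : orderOf a = 3 := orderOf_eq_prime
      (by rw [pow_succ, pow_two]; simp only [a, eU_mul]; rw [show (1 : K) + 1 + 1 = 0 by linear_combination h30, eU_zero])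
      (fun e => by simpa [a, eU] using congrFun (congrFun (congrArg Subtype.val e) 0) 1)
    exact h3o ▸ Subgroup.orderOf_dvd_natCard Y haY
  have d8 : 8 ∣ Nat.card Y := by
    let Z4 : Subgroup (Matrix.SpecialLinearGroup (Fin 2) K) := Subgroup.zpowers A
    have hsup : Z4 ⊔ Subgroup.zpowers B ≤ Y :=
      sup_le (Subgroup.zpowers_le.2 hAY) (Subgroup.zpowers_le.2 hBY)
    have hBn : B ∈ Subgroup.normalizer (Z4 : Set (Matrix.SpecialLinearGroup (Fin 2) K)) := by
      have hconj : B * A * B⁻¹ = A⁻¹ := by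
        rw [mul_inv_eq_iff_eq_mul, eq_inv_mul_iff_mul_eq, ← mul_assoc]
        calc A * B * A = zU * (B * (A * A)) := by rw [hABBA]; simp only [mul_assoc]
          _ = zU * (B * zU) := by rw [hAA]
          _ = B := by
            apply Subtype.ext
            show (zU : Matrix.SpecialLinearGroup (Fin 2) K).1 * (B.1 * zU.1) = B.1
            rw [show (zU : Matrix.SpecialLinearGroup (Fin 2) K).1 = -1 by simp [zU, Matrix.one_fin_two]]
            simp
      rw [Subgroup.mem_normalizer_iff]
      intro n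
      constructor
      · intro hn
        obtain ⟨k, rfl⟩ := Subgroup.mem_zpowers_iff.1 hn
        refine Subgroup.mem_zpowers_iff.2 ⟨-k, ?_⟩
        rw [← conj_zpow, hconj, _root_.inv_zpow']
      · intro hn
        obtain ⟨k, hk⟩ := Subgroup.mem_zpowers_iff.1 hn
        refine Subgroup.mem_zpowers_iff.2 ⟨-k, ?_⟩
        have : n = B⁻¹ * (B * n * B⁻¹) * B := by group
        rw [this, ← hk]
        have hconj' : B⁻¹ * A * B = A⁻¹ := by
          have h := congrArg (fun X => B⁻¹ * X⁻¹ * B) hconj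
          simp only [mul_assoc, _root_.mul_inv_rev, inv_inv, inv_mul_cancel, mul_one, inv_mul_cancel_left] at h
          exact (by simpa [mul_assoc] using h.symm)
        have hz := conj_zpow (a := B⁻¹) (b := A) (i := k)
        rw [inv_inv, hconj'] at hz
        rw [← hz, _root_.inv_zpow']
    have hBnot : B ∉ Z4 := fun hB' => by
      obtain ⟨k, hk⟩ := Subgroup.mem_zpowers_iff.1 hB'
      have hc : A * B = B * A := by rw [← hk]; exact (Commute.refl A).zpow_right k
      rw [hc] at hABBA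
      exact hzne (mul_eq_right.1 hABBA.symm)
    have hcard4 : Nat.card Z4 = 4 := (Nat.card_zpowers A).trans hA4
    have hlt : Z4 < Z4 ⊔ Subgroup.zpowers B := lt_of_le_of_ne le_sup_left fun e =>
      hBnot (e ▸ (le_sup_right : Subgroup.zpowers B ≤ _) (Subgroup.mem_zpowers B))
    have hp2 : IsPGroup 2 (Z4 ⊔ Subgroup.zpowers B : Subgroup _) :=
      IsPGroup.to_sup_of_normal_left' (IsPGroup.of_card (n := 2) hcard4)
        (IsPGroup.of_card (n := 2) (show Nat.card (Subgroup.zpowers B) = 2 ^ 2 by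
          rw [Nat.card_zpowers]
          refine orderOf_eq_prime_pow (p := 2) (n := 1) ?_ ?_
          · rw [pow_one, pow_two, hBB]; exact hzne
          · rw [show 2 ^ (1 + 1) = 2 * 2 by norm_num, pow_mul, pow_two B, hBB, pow_two, zU_sq]))
        (Subgroup.zpowers_le.2 hBn)
    haveI : Fact (Nat.Prime 2) := ⟨Nat.prime_two⟩
    obtain ⟨n, hn⟩ := hp2.exists_card_eq
    have h4 := Subgroup.card_dvd_of_le hlt.le
    have hne4 : Nat.card (Z4 ⊔ Subgroup.zpowers B : Subgroup _) ≠ 4 := fun e =>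
      hlt.ne (Subgroup.eq_of_le_of_card_ge hlt.le (by rw [e, hcard4]))
    rw [hcard4, hn] at h4
    rw [hn] at hne4
    have h3n : 3 ≤ n := by
      by_contra hn3
      interval_cases n <;> revert h4 hne4 <;> norm_num
    refine Dvd.dvd.trans ?_ (Subgroup.card_dvd_of_le hsup)
    rw [hn]
    exact (show 8 = 2 ^ 3 by norm_num) ▸ pow_dvd_pow 2 h3n
  have hY120 : 120 ∣ Nat.card Y := by
    rw [show (120 : ℕ) = 8 * 15 by norm_num]
    refine Nat.Coprime.mul_dvd_of_dvd_of_dvd (by norm_num) d8 ?_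
    rw [show (15 : ℕ) = 3 * 5 by norm_num]
    exact Nat.Coprime.mul_dvd_of_dvd_of_dvd (by norm_num) d3 d5
  have hcardY : Nat.card Y = Nat.card St := Nat.card_congr ((MulEquiv.subgroupMap ψ Y).trans
    (MulEquiv.subgroupCongr (Subgroup.map_comap_eq_self_of_surjective ψ.surjective St))).toEquiv
  have hP720 : Nat.card P = 720 := by
    rw [← Nat.card_congr ψ.toEquiv, CfsgLib.SLCard.card_SL_two, hK]
    norm_num
  -- the orbit
  set ι := MulAction.orbit P w0 with hι
  have horb : Nat.card ι * Nat.card St = 720 := by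
    rw [← hP720, hι, Nat.card_congr (MulAction.orbitEquivQuotientStabilizer P w0)]
    exact (Subgroup.card_eq_card_quotient_mul_card_subgroup St).symm
  have hdvd : Nat.card ι ∣ 6 := by
    obtain ⟨k, hk⟩ := hcardY ▸ hY120
    rw [hk] at horb
    exact ⟨k, by nlinarith⟩
  set π := MulAction.toPermHom P ι with hπ
  haveI : π.ker.Normal := inferInstance
  have hπne : ¬ (π.ker = ⊤) := fun htop => hv00 (hP.eq_zero_of_fixed hv0 fun g hg => by
    have h : (⟨g, hg⟩ : P) ∈ π.ker := htop ▸ Subgroup.mem_top _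
    have h' := Equiv.ext_iff.1 (MonoidHom.mem_ker.1 h) ⟨w0, MulAction.mem_orbit_self w0⟩
    have h'' : ad g (w0 : M4) = (w0 : M4) := congrArg Subtype.val h'
    rwa [hw0] at h'')
  have hkle : π.ker ≤ Subgroup.center P := by
    rw [hP.center_eq]
    exact (hP.normal_cases π.ker).resolve_right hπne
  have hrange360 : 360 ∣ Nat.card π.range := by
    have e := Subgroup.card_eq_card_quotient_mul_card_subgroup π.ker
    rw [hP720, Nat.card_congr (QuotientGroup.quotientKerEquivRange π).toEquiv] at e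
    have h2 := Subgroup.card_dvd_of_le hkle
    rw [hP.card_center] at h2
    rcases (Nat.dvd_prime Nat.prime_two).1 h2 with e1 | e1 <;> rw [e1] at e
    · rw [show Nat.card π.range = 720 by omega]; norm_num
    · rw [show Nat.card π.range = 360 by omega]
  haveI : Fintype ι := Fintype.ofFinite _
  have hperm : Nat.card (Perm ι) = (Nat.card ι).factorial := Nat.card_perm
  have hcard : Nat.card ι = 6 := by
    have h1 := hrange360.trans (Subgroup.card_subgroup_dvd_card π.range)
    rw [hperm] at h1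
    have h2 := Nat.le_of_dvd (by norm_num) hdvd
    interval_cases Nat.card ι <;> simp [Nat.factorial] at h1 hdvd ⊢
  have hcard' : Fintype.card ι = 6 := by rw [← Nat.card_eq_fintype_card, hcard]
  set e6 := Fintype.equivFinOfCardEq hcard'
  set π2 : P →* Perm (Fin 6) := (Equiv.permCongrHom e6).toMonoidHom.comp π with hπ2
  have hrange2 : 360 ∣ Nat.card π2.range := by
    rw [hπ2, MonoidHom.range_comp, Subgroup.card_map_of_injective (Equiv.permCongrHom e6).injective]
    exact hrange360
  have hperm2 : Nat.card (Perm (Fin 6)) = (Nat.card (Fin 6)).factorial := Nat.card_perm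
  have hcard60 : Nat.card (Fin 6) = 6 := Nat.card_fin 6
  have hcard6 : Fintype.card (Fin 6) = 6 := Fintype.card_fin 6
  haveI : Nontrivial (Fin 6) := Fintype.one_lt_card_iff_nontrivial.1 (by rw [hcard6]; norm_num)
  have hrange : π2.range = alternatingGroup (Fin 6) := by
    refine Equiv.Perm.eq_alternatingGroup_of_index_eq_two ?_
    have h := π2.range.index_mul_card
    rw [hperm2, hcard60, show Nat.factorial 6 = 720 from rfl] at h
    obtain ⟨k, hk⟩ := hrange2
    have hne720 : Nat.card π2.range ≠ 720 := fun e720 => by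
      -- a perfect group has no odd image
      haveI := hP.isPerfect
      have hle : π2.range ≤ alternatingGroup (Fin 6) := by
        rintro _ ⟨x, rfl⟩
        rw [Equiv.Perm.mem_alternatingGroup]
        have : ⊤ ≤ (Equiv.Perm.sign.comp π2).ker := by
          rw [← Group.IsPerfect.commutator_eq_top (G := P), commutator_def, Subgroup.commutator_le]
          intro x _ y _
          rw [MonoidHom.mem_ker, map_commutatorElement, commutatorElement_eq_one_iff_mul_comm, mul_comm]
        exact this (Subgroup.mem_top x)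
      have h2 := Subgroup.card_dvd_of_le hle
      have h3 := nat_card_alternatingGroup (α := (Fin 6))
      rw [hcard60, show Nat.factorial 6 = 720 from rfl] at h3
      rw [h3, e720] at h2
      norm_num at h2
    rw [hk] at h hne720
    have : k = 1 := by
      have hk1 : k ≤ 2 := by
        by_contra hc
        have h0 : 0 < π2.range.index := Nat.pos_of_ne_zero fun e => by rw [e, zero_mul] at h; norm_num at h
        nlinarith
      interval_cases k <;> simp_all
    subst this
    omega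
  -- the vectors
  set v : (Fin 6) → M4 := fun x => ((e6.symm x).1 : M4) with hv
  have hmem : ∀ x, InW (v x) := fun x => by
    obtain ⟨g, hg⟩ := (e6.symm x).2
    show InW ((e6.symm x).1 : M4)
    rw [← show ad (g : G4) (w0 : M4) = ((e6.symm x).1 : M4) from hg, hw0]
    exact ad_mem (hP.sp g.2) hv0
  have hact : ∀ g : P, Act v (g : G4) (π2 g) := fun g x => by
    show ad (g : G4) ((e6.symm x).1 : M4) = ((e6.symm (π2 g x)).1 : M4)
    rw [show e6.symm (π2 g x) = g • e6.symm x by simp [hπ2, hπ, Equiv.permCongr_apply]]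
    rfl
  have hsurj : ∀ σ : Perm (Fin 6), σ ∈ alternatingGroup (Fin 6) → ∃ g : P, π2 g = σ := fun σ hσ => by
    rw [← hrange] at hσ; exact hσ
  have hactP : ∀ g ∈ P, ∃ σ : Perm (Fin 6), σ ∈ alternatingGroup (Fin 6) ∧ Act v g σ := fun g hg =>
    ⟨π2 ⟨g, hg⟩, hrange ▸ ⟨_, rfl⟩, hact ⟨g, hg⟩⟩
  have hinj : Function.Injective v := (fun x y h => e6.symm.injective (Subtype.ext h))
  obtain ⟨x0, x1, hx01⟩ := exists_pair_ne (Fin 6)
  set d := bW (v x0) (v x1)
  have htwo : ∀ x y : (Fin 6), x ≠ y → ∃ g : P, π2 g x0 = x ∧ π2 g x1 = y := by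
    intro x y hxy
    set σ0 : Perm (Fin 6) := swap (swap x0 x x1) y * swap x0 x with hσ0
    have hne : swap x0 x x1 ≠ x := fun e => hx01 ((swap x0 x).injective (by rw [swap_apply_left, e]))
    have e0 : σ0 x0 = x ∧ σ0 x1 = y := by
      rw [hσ0]
      simp only [Equiv.Perm.mul_apply, swap_apply_left]
      exact ⟨swap_apply_of_ne_of_ne hne.symm hxy, trivial⟩
    rcases Int.units_eq_one_or (Equiv.Perm.sign σ0) with hsg | hsg
    · obtain ⟨g, hg⟩ := hsurj σ0 (Equiv.Perm.mem_alternatingGroup.2 hsg)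
      exact ⟨g, hg.symm ▸ e0⟩
    · obtain ⟨m, hm, n, hn, hmn⟩ : ∃ m, (m ≠ x ∧ m ≠ y) ∧ ∃ n, (n ≠ x ∧ n ≠ y) ∧ m ≠ n := by
        have hc : 1 < (Finset.univ \ {x, y} : Finset (Fin 6)).card := by
          rw [Finset.card_sdiff, Finset.inter_univ, Finset.card_univ, hcard6, Finset.card_pair hxy]
          norm_num
        obtain ⟨m, hm, n, hn, hmn⟩ := Finset.one_lt_card.1 hc
        simp only [Finset.mem_sdiff, Finset.mem_insert, Finset.mem_singleton, not_or] at hm hn
        exact ⟨m, hm.2, n, hn.2, hmn⟩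
      obtain ⟨g, hg⟩ := hsurj (swap m n * σ0) (Equiv.Perm.mem_alternatingGroup.2 (by
        rw [map_mul, hsg, Equiv.Perm.sign_swap hmn]; rfl))
      refine ⟨g, ?_, ?_⟩ <;> rw [hg, Equiv.Perm.mul_apply]
      · rw [e0.1, swap_apply_of_ne_of_ne hm.1.symm hn.1.symm]
      · rw [e0.2, swap_apply_of_ne_of_ne hm.2.symm hn.2.symm]
  have hoff : ∀ x y, x ≠ y → bW (v x) (v y) = d := fun x y hxy => by
    obtain ⟨g, e0, e1⟩ := htwo x y hxy
    rw [← e0, ← e1, ← hact g x0, ← hact g x1, bW_ad hP.two (g : G4) (hmem x0) (hmem x1)]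
  have hsum : ∑ x, v x = 0 := hP.eq_zero_of_fixed (wSpace.sum_mem fun x _ => hmem x) fun g hg => by
    rw [map_sum]
    exact (Finset.sum_congr rfl fun x _ => hact ⟨g, hg⟩ x).trans (Equiv.sum_comp (π2 ⟨g, hg⟩) v)
  have hd : d ≠ 0 := fun hd0 => by
    have hall : ∀ x y, bW (v x) (v y) = 0 := fun x y => by
      rcases eq_or_ne x y with rfl | h
      · have h := bW_sum Finset.univ (v x) v
        rw [hsum, bW_zero, ← Finset.add_sum_erase _ _ (Finset.mem_univ x),
          Finset.sum_congr rfl (fun j hj => hoff x j (Finset.ne_of_mem_erase hj).symm), hd0, Finset.sum_const_zero,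
          add_zero] at h
        exact h.symm
      · rw [hoff x y h, hd0]
    have hz := hP.isotropic_zero v hmem hall fun g hg x => ⟨π2 ⟨g, hg⟩ x, hact ⟨g, hg⟩ x⟩
    exact hx01 (hinj ((hz x0).trans (hz x1).symm))
  refine ⟨(Fin 6), inferInstance, inferInstance, v, d, ⟨hP.two, h3, hcard6, hmem, hsum, hoff, hd⟩, hactP, ?_⟩
  intro x
  have hfull : Nat.card (alternatingGroup (Fin 6)) = 360 := by
    have h3 := nat_card_alternatingGroup (α := (Fin 6))
    rw [hcard60, show Nat.factorial 6 = 720 from rfl] at h3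
    omega
  haveI : Fact (Nat.Prime 5) := ⟨Nat.prime_five⟩
  obtain ⟨τ, hτ⟩ := exists_prime_orderOf_dvd_card' (G := alternatingGroup (Fin 6)) 5 (by rw [hfull]; norm_num)
  have hτ' : orderOf (τ : Perm (Fin 6)) = 5 := by rw [Subgroup.orderOf_coe, hτ]
  have hcyc : (τ : Perm (Fin 6)).IsCycle :=
    Equiv.Perm.isCycle_of_prime_order' (hτ' ▸ Nat.prime_five) (by rw [hτ', hcard6]; norm_num)
  obtain ⟨j, hj⟩ : ∃ j, (τ : Perm (Fin 6)) j = j := by
    by_contra hc
    push Not at hc
    have hs := hcyc.orderOf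
    rw [show (τ : Perm (Fin 6)).support = Finset.univ from Finset.eq_univ_of_forall fun k =>
      Equiv.Perm.mem_support.2 (hc k), Finset.card_univ, hcard6, hτ'] at hs
    norm_num at hs
  obtain ⟨k, hk⟩ : ∃ k, k ≠ j ∧ k ≠ x := by
    have hc : ({j, x} : Finset (Fin 6)).card < Fintype.card (Fin 6) := lt_of_le_of_lt Finset.card_le_two (by rw [hcard6]; norm_num)
    obtain ⟨k, -, hk⟩ := Finset.exists_mem_notMem_of_card_lt_card (s := ({j, x} : Finset (Fin 6))) (t := Finset.univ)
      (by rwa [Finset.card_univ])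
    exact ⟨k, by simpa using hk⟩
  obtain ⟨g, hgx⟩ : ∃ g : P, π2 g j = x := by
    rcases eq_or_ne j x with rfl | hjx
    · exact ⟨1, by rw [map_one]; rfl⟩
    obtain ⟨g1, e0, -⟩ := htwo j k hk.1.symm
    obtain ⟨g2, f0, -⟩ := htwo x j hjx.symm
    refine ⟨g2 * g1⁻¹, ?_⟩
    rw [map_mul, map_inv, Equiv.Perm.mul_apply, ← e0, Equiv.Perm.inv_def, Equiv.symm_apply_apply, f0]
  obtain ⟨t, ht⟩ := hsurj τ τ.2
  refine ⟨(g * t * g⁻¹ : P), SetLike.coe_mem _, π2 (g * t * g⁻¹), hact _, ?_, ?_, ?_⟩
  · rw [← map_pow, conj_pow, map_mul, map_mul, map_pow, ht, show (τ : Perm (Fin 6)) ^ 5 = 1 from hτ' ▸ pow_orderOf_eq_one _,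
      mul_one, map_inv, mul_inv_cancel]
  · rw [map_mul, map_mul, map_inv, ht]
    intro e
    rw [conj_eq_one_iff.1 e, orderOf_one] at hτ'
    norm_num at hτ'
  · rw [map_mul, map_mul, map_inv, ht, Equiv.Perm.mul_apply, Equiv.Perm.mul_apply]
    rw [show (π2 g)⁻¹ x = j from (Equiv.Perm.inv_eq_iff_eq).2 hgx.symm, hj, hgx]

/-- The field and the characteristic. -/
theorem conclusion (hP : Core P) (R : Rep K P) (hK : Fintype.card K = 9) {p : ℕ} [Fact p.Prime] [CharP F p]
    (hp3 : p ≠ 3) {H : Subgroup G4} (hH : Cfsg.Geo.IsMaximalIn (Cfsg.spGL 2 F) H)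
    (hnorm : ∀ h ∈ H, ∀ x ∈ P, h * x * h⁻¹ ∈ P) : Fintype.card F = p ∧ 5 ≤ p ∧ p ≠ 7 := by
  classical
  have hp := (Fact.out : p.Prime)
  have h3 : (3 : F) ≠ 0 := fun e => hp3 ((Nat.prime_dvd_prime_iff_eq hp Nat.prime_three).1
    ((CharP.cast_eq_zero_iff F p 3).1 (by exact_mod_cast e)))
  have hp5 : 5 ≤ p := by
    have h2 : p ≠ 2 := fun e => hP.two (by
      subst e
      exact_mod_cast (CharP.cast_eq_zero F 2))
    have h4 : p ≠ 4 := fun e => absurd (e ▸ hp) (by norm_num)
    have := hp.two_le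
    omega
  obtain ⟨ι, _, _, v, d, hf, hact, hfive⟩ := exists_frame hP R hK h3
  refine ⟨?_, hp5, fun hp7 => ?_⟩
  · set S := RingHom.eqLocusField (frobenius F p) (RingHom.id F)
    have hmem : ∀ x : F, x ∈ S ↔ x ^ p = x := fun x => Iff.rfl
    have hS : S = ⊤ := by
      by_contra hne
      exact hP.prim S hne (CfsgLib.Sp4Even.realisable_of_traces hP.envelope_top fun g hg => by
        obtain ⟨σ, hσ, hA⟩ := hact g hg
        exact hf.trace_mem S (hP.sp hg) hA hσ)
    have hle := CfsgLib.ResThree.card_le_of_forall_pow (F := F) (p := p) le_rfl fun x => by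
      rw [pow_one]; exact (hmem x).1 (hS ▸ Subfield.mem_top x)
    rw [pow_one] at hle
    exact le_antisymm hle (CfsgLib.ResThree.char_le_card)
  · subst hp7
    have h70 : (7 : F) = 0 := by exact_mod_cast CharP.cast_eq_zero F 7
    have h50 : (5 : F) ≠ 0 := fun e => hf.h2 (by linear_combination h70 - e)
    let Rt : Set M4 := {A | ∃ (r : F) (k : ι), r * r = 1 ∧ A = r • v k} ∪
      {A | ∃ (r : F) (k l : ι), r * r = 1 ∧ k ≠ l ∧ A = r • (v k - v l)}
    let MR : Subgroup G4 :=
      { carrier := {g | g ∈ Cfsg.spGL 2 F ∧ ∀ A ∈ Rt, ad g A ∈ Rt}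
        one_mem' := ⟨one_mem _, fun A hA => by rwa [ad_one]⟩
        mul_mem' := fun {g k} hg hk =>
          ⟨mul_mem hg.1 hk.1, fun A hA => by rw [ad_mul]; exact hg.2 _ (hk.2 A hA)⟩
        inv_mem' := fun {g} hg => ⟨inv_mem hg.1, fun A hA => by
          have hinjg : Set.InjOn (ad g) Rt := fun X _ Y _ e => by
            have := congrArg (ad g⁻¹) e
            rwa [← ad_mul, ← ad_mul, inv_mul_cancel, ad_one, ad_one] at this
          obtain ⟨B, hB, rfl⟩ := (((Set.toFinite Rt).injOn_iff_bijOn_of_mapsTo (fun X hX => hg.2 X hX)).1 hinjg).surjOn hA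
          rw [← ad_mul, inv_mul_cancel, ad_one]
          exact hB⟩ }
    have hle : H ≤ MR := fun g hg => by
      obtain ⟨hsp, σ, r, hr, hgv⟩ := hf.le_signStab hP hH.1.le hnorm (fun g hg => (hact g hg).imp fun _ h => h.2) hfive hg
      refine ⟨hsp, ?_⟩
      rintro A (⟨s, k, hs, rfl⟩ | ⟨s, k, l, hs, hkl, rfl⟩)
      · exact Or.inl ⟨s * r, σ k, by linear_combination (r * r) * hs + hr, by rw [map_smul, hgv, smul_smul]⟩
      · exact Or.inr ⟨s * r, σ k, σ l, by linear_combination (r * r) * hs + hr, σ.injective.ne hkl,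
          by rw [map_smul, map_sub, hgv, hgv, ← smul_sub, smul_smul]⟩
    have hRt : ∀ A ∈ Rt, ∃ (s t : F) (k l : ι), A = s • v k + t • v l := by
      rintro A (⟨s, k, -, rfl⟩ | ⟨s, k, l, -, -, rfl⟩)
      · exact ⟨s, 0, k, k, by rw [zero_smul, add_zero]⟩
      · exact ⟨s, -s, k, l, by rw [smul_sub, neg_smul, sub_eq_add_neg]⟩
    have hMne : MR ≠ Cfsg.spGL 2 F := fun e => by
      obtain ⟨g, a, b, c, hg, hab, hac, hbc, hval⟩ := hf.exists_far
      rw [← e] at hg
      obtain ⟨s, t, k, l, hkl⟩ := hRt _ (hg.2 (v b) (Or.inl ⟨1, b, one_mul 1, (one_smul F _).symm⟩))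
      rw [hkl, smul_add, smul_smul, smul_smul] at hval
      exact hf.combination_ne hab hac hbc _ _ hval.symm
    have heq : MR = H := (hH.2 MR hle fun g hg => hg.1).resolve_right hMne
    obtain ⟨e6⟩ : Nonempty (Fin 6 ≃ ι) := ⟨(Fintype.equivFinOfCardEq hf.card).symm⟩
    set a := e6 0; set b := e6 1; set c := e6 2
    have hab : a ≠ b := fun h => absurd (e6.injective h) (by decide)
    have hac : a ≠ c := fun h => absurd (e6.injective h) (by decide)
    have hbc : b ≠ c := fun h => absurd (e6.injective h) (by decide)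
    have hq : ∀ x, qW (v x) = -5 * d := fun x => by rw [← bW_self hf.h2, hf.self]
    have hq0 : -5 * d ≠ 0 := mul_ne_zero (neg_ne_zero.2 h50) hf.hd
    obtain ⟨g, hg, -, hgact⟩ := exists_pair hf.h2 (hf.mem a) (hf.mem b) (by rw [hq, hq]) (by rw [hq]; exact hq0)
    let refl : ι → M4 → M4 := fun x A => A - (2 * bW (v x) A / qW (v x)) • v x
    have hr1 : ∀ x k, refl x (v k) = if k = x then -v k else v k - v x := fun x k => by
      split_ifs with hk
      · subst hk
        show v k - _ = _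
        rw [hf.self, hq, show 2 * (-5 * d) / (-5 * d) = (2 : F) by rw [mul_div_assoc, div_self hq0, mul_one], two_smul]
        abel
      · show v k - _ = _
        rw [hf.off x k (Ne.symm hk), hq, show 2 * d / (-5 * d) = (1 : F) by
          rw [div_eq_one_iff_eq hq0]; linear_combination d * h70, one_smul]
    have hlin : ∀ x (r : F) A, refl x (r • A) = r • refl x A := fun x r A => by
      simp only [refl, bW_smul, smul_sub, smul_smul]
      congr 2
      ring
    have hsub : ∀ x A B, refl x (A - B) = refl x A - refl x B := fun x A B => by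
      simp only [refl, bW_sub]
      rw [show 2 * (bW (v x) A - bW (v x) B) / qW (v x) = 2 * bW (v x) A / qW (v x) - 2 * bW (v x) B / qW (v x) by ring,
        sub_smul]
      abel
    have hpres : ∀ x, ∀ A ∈ Rt, refl x A ∈ Rt := by
      rintro x A (⟨r, k, hr, rfl⟩ | ⟨r, k, l, hr, hkl, rfl⟩)
      · rw [hlin, hr1]
        split_ifs with hk
        · exact Or.inl ⟨-r, k, by linear_combination hr, by rw [smul_neg, neg_smul]⟩
        · exact Or.inr ⟨r, k, x, hr, hk, rfl⟩
      · rw [hlin, hsub, hr1, hr1]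
        split_ifs with hk hl hl
        · exact absurd (hk.trans hl.symm) hkl
        · subst hk
          exact Or.inl ⟨-r, l, by linear_combination hr, by
            rw [show -v k - (v l - v k) = -v l by abel, smul_neg, neg_smul]⟩
        · subst hl
          exact Or.inl ⟨r, k, hr, by rw [show v k - v l - -v l = v k by abel]⟩
        · exact Or.inr ⟨r, k, l, hr, hkl, by rw [show v k - v x - (v l - v x) = v k - v l by abel]⟩
    have hmemW : ∀ A ∈ Rt, InW A := by
      rintro A (⟨r, k, -, rfl⟩ | ⟨r, k, l, -, -, rfl⟩)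
      · exact show r • v k ∈ wSpace from Submodule.smul_mem _ _ (hf.mem k)
      · exact show r • (v k - v l) ∈ wSpace from Submodule.smul_mem _ _ (Submodule.sub_mem _ (hf.mem k) (hf.mem l))
    have hgM : g ∈ H := heq ▸ ⟨hg, fun A hA => by
      rw [hgact A (hmemW A hA)]
      exact hpres a _ (hpres b A hA)⟩
    obtain ⟨-, σ, r, -, hσ⟩ := hf.le_signStab hP hH.1.le hnorm (fun g hg => (hact g hg).imp fun _ h => h.2) hfive hgM
    have hgc : ad g (v c) = v c - v b := by
      rw [hgact _ (hf.mem c)]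
      show refl a (refl b (v c)) = _
      rw [hr1, if_neg hbc.symm, hsub, hr1, hr1, if_neg hac.symm, if_neg hab.symm]
      abel
    rw [hσ c] at hgc
    obtain ⟨m, hmb, hmc, hms⟩ : ∃ m, m ≠ b ∧ m ≠ c ∧ m ≠ σ c := by
      have hc : ({b, c, σ c} : Finset ι).card < Fintype.card ι :=
        lt_of_le_of_lt Finset.card_le_three (by rw [hf.card]; norm_num)
      obtain ⟨m, -, hm⟩ := Finset.exists_mem_notMem_of_card_lt_card (s := ({b, c, σ c} : Finset ι)) (t := Finset.univ)
        (by rwa [Finset.card_univ])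
      exact ⟨m, by simpa using hm⟩
    have hs : ∀ (x : ι) (r : F), ∑ i, (Pi.single x r : ι → F) i • v i = r • v x := fun x r => by
      rw [Finset.sum_eq_single x (fun i _ hi => by simp [hi]) (by simp)]
      simp
    set f : ι → F := Pi.single c 1 + Pi.single b (-1) - Pi.single (σ c) r with hfd
    have hsum : ∑ i, f i • v i = 0 := by
      simp only [hfd, Pi.sub_apply, Pi.add_apply, sub_smul, add_smul, Finset.sum_sub_distrib, Finset.sum_add_distrib, hs,
        neg_one_smul, one_smul]
      rw [hgc]; abel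
    have hb0 := hf.coeff_eq hsum b m
    have hc0 := hf.coeff_eq hsum c m
    rcases eq_or_ne (σ c) b with e | e
    · simp [hfd, hmb, hmc, hms, hbc.symm, e] at hc0
    · simp [hfd, hmb, hmc, hms, hbc, Ne.symm e] at hb0

end CfsgLib.Sp4Odd.Q.Six
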