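import Cfsg.Agent.Lib.Sp4Odd.Q.SymSeven
import Cfsg.Agent.Lib.Sp4Odd.Q.Five
import Cfsg.Agent.Lib.Sp4Odd.Q.Six
import Cfsg.Agent.Lib.Sp4Odd.Q.Seven
import Cfsg.Agent.Lib.Sp4Odd.Q.Cross
import Cfsg.Agent.S0254

/-!
Residual maximal subgroups of the four-dimensional symplectic group in odd characteristic whose core has one
involution.
-/

set_option autoImplicit false
set_option linter.unusedSectionVars false

namespace CfsgLib.Sp4Odd.Q

open Matrix

variable {F : Type*} [Field F] [Fintype F]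

local notation "S4" => (Fin 2 ⊕ Fin 2)
local notation "V4" => (Fin 2 ⊕ Fin 2 → F)
local notation "G4" => Matrix.GeneralLinearGroup (Fin 2 ⊕ Fin 2) F

theorem psl_two_congr {K L : Type*} [Field K] [Field L] (e : K ≃+* L) :
    Nonempty (Matrix.ProjectiveSpecialLinearGroup (Fin 2) K ≃* Matrix.ProjectiveSpecialLinearGroup (Fin 2) L) := by
  let φ : Matrix.SpecialLinearGroup (Fin 2) K ≃* Matrix.SpecialLinearGroup (Fin 2) L :=
    { Matrix.SpecialLinearGroup.map e.toRingHom with
      invFun := Matrix.SpecialLinearGroup.map e.symm.toRingHom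
      left_inv := fun A => by ext i j; exact e.symm_apply_apply _
      right_inv := fun A => by ext i j; exact e.apply_symm_apply _ }
  refine ⟨QuotientGroup.congr _ _ φ ?_⟩
  ext x
  simp only [Subgroup.mem_map, Subgroup.mem_center_iff]
  constructor
  · rintro ⟨a, ha, rfl⟩ b
    obtain ⟨c, rfl⟩ := φ.surjective b
    show φ c * φ a = φ a * φ c
    rw [← map_mul, ← map_mul, ha c]
  · intro h
    obtain ⟨a, rfl⟩ := φ.surjective x
    refine ⟨a, fun b => φ.injective ?_, rfl⟩
    rw [map_mul, map_mul]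
    exact h (φ b)

variable {K : Type} [Field K] [Fintype K] {P : Subgroup (Matrix.GeneralLinearGroup (Fin 2 ⊕ Fin 2) F)}

/-- The image of the symmetric cube is realised over the image field. -/
theorem Cube.bijective (hP : Core P) (R : Rep K P) (C : Cube R) : Function.Bijective C.φ := by
  classical
  set S := C.φ.fieldRange with hS
  refine ⟨C.φ.injective, fun y => ?_⟩
  suffices h : S = ⊤ by
    have : y ∈ S := h ▸ Subfield.mem_top y
    exact RingHom.mem_fieldRange.1 this
  by_contra hne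
  refine hP.prim S hne (CfsgLib.Sp4Even.realisable_of_traces hP.envelope_top fun g hg => ?_)
  obtain ⟨m, rfl⟩ := R.exists_eq hg
  let Φ := (Matrix.toLinAlgEquiv' (R := F) (n := S4)).trans (LinearMap.toMatrixAlgEquiv C.B)
  have hΦ : ∀ (M : Matrix S4 S4 F) i j, Φ M i j = C.B.repr (M *ᵥ C.B j) i := fun M i j => by
    simp [Φ, LinearMap.toMatrixAlgEquiv_apply, Matrix.toLinAlgEquiv'_apply]
  have hmul : ∀ a b, (∀ i j, Φ (R.mx a) i j ∈ S) → (∀ i j, Φ (R.mx b) i j ∈ S) → ∀ i j, Φ (R.mx (a * b)) i j ∈ S := by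
    intro a b ha hb i j
    rw [R.mx_mul, map_mul, Matrix.mul_apply]
    exact sum_mem fun k _ => mul_mem (ha i k) (hb k j)
  have h2K : (2 : K) ≠ 0 := fun e => hP.two (by simpa [map_ofNat] using congrArg C.φ e)
  have he : ∀ x i j, Φ (R.mx (eU x)) i j ∈ S := fun x i j => by
    have hx : C.φ x ∈ S := RingHom.mem_fieldRange.2 ⟨x, rfl⟩
    rw [hΦ]
    fin_cases j <;> fin_cases i <;> simp [C.e0, C.e1, C.e2, C.e3, Finsupp.single_apply] <;>
      first
        | exact zero_mem _
        | exact one_mem _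
        | exact hx
        | exact pow_mem hx _
        | exact mul_mem (natCast_mem S 2) hx
        | exact mul_mem (natCast_mem S 3) hx
        | exact mul_mem (natCast_mem S 3) (pow_mem hx _)
  have hw : ∀ i j, Φ (R.mx wU) i j ∈ S := fun i j => by
    rw [hΦ]
    fin_cases j <;> fin_cases i <;> simp [C.w0, C.w1, C.w2, C.w3, Finsupp.single_apply] <;>
      first
        | exact zero_mem _
        | exact one_mem _
        | exact neg_mem (one_mem _)
  have hwi : ∀ i j, Φ (R.mx wU⁻¹) i j ∈ S := fun i j => by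
    have e : R.mx wU⁻¹ = -R.mx wU := by
      have h : (R.ρ wU)⁻¹ = -R.ρ wU := inv_eq_of_mul_eq_one_right (by rw [mul_neg, R.wU_sq hP h2K, neg_neg])
      simp only [Rep.mx, map_inv, h, Units.val_neg]
    rw [e, map_neg, Matrix.neg_apply]
    exact neg_mem (hw i j)
  have hf : ∀ x i j, Φ (R.mx (fU x)) i j ∈ S := fun x => by
    rw [show fU x = wU * eU (-x) * wU⁻¹ by rw [eq_mul_inv_iff_mul_eq, wU_eU, neg_neg]]
    exact hmul _ _ (hmul _ _ hw (he _)) hwi
  have hall : ∀ i j, Φ (R.mx m) i j ∈ S := sl_induction (fun m => ∀ i j, Φ (R.mx m) i j ∈ S) he hf hmul m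
  have ht : (R.ρ m).1.trace = (Φ (R.mx m)).trace := by
    show _ = (LinearMap.toMatrix C.B C.B (Matrix.toLin' (R.mx m))).trace
    rw [← LinearMap.trace_eq_matrix_trace, Matrix.trace_toLin'_eq]
  rw [ht]
  exact sum_mem fun i _ => hall i i

theorem card_le_nine (hP : Core P) (R : Rep K P) (h2K : (2 : K) ≠ 0) (ℓ : ℕ) [CharP K ℓ] (hℓ : (ℓ : F) ≠ 0) :
    Fintype.card K ≤ 9 := by
  classical
  set U : Finset K := Finset.univ.erase 0
  have h := R.card_squares ℓ hℓ (U.image fun a => a * a) fun s hs => by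
    obtain ⟨a, ha, rfl⟩ := Finset.mem_image.1 hs
    exact ⟨a, Finset.ne_of_mem_erase ha, rfl⟩
  have h' := Finset.card_le_mul_card_image (f := fun a : K => a * a) U 2 fun b hb => by
    obtain ⟨a, ha, rfl⟩ := Finset.mem_image.1 hb
    refine le_trans (Finset.card_le_card (t := {a, -a}) fun x hx => ?_) Finset.card_le_two
    rw [Finset.mem_filter] at hx
    rcases mul_self_eq_mul_self_iff.1 hx.2 with e | e <;> simp [e]
  rw [Finset.card_erase_of_mem (Finset.mem_univ 0), Finset.card_univ] at h'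
  omega

theorem quaternion_case (hodd : Odd (Fintype.card F)) {H P : Subgroup G4}
    (hH : Cfsg.Geo.IsMaximalIn (Cfsg.spGL 2 F) H) (hres : Cfsg.Geo.IsResidualCore H P)
    (hinv : ∀ g ∈ P, g * g = 1 → g = 1 ∨ (g : Matrix S4 S4 F) = -1) {p : ℕ} [Fact p.Prime] [CharP F p] :
    (Nonempty ((P ⧸ (Cfsg.Geo.scalars S4 F).subgroupOf P) ≃* alternatingGroup (Fin 6)) ∧
        Fintype.card F = p ∧ 5 ≤ p ∧ p ≠ 7) ∨
      (Nonempty ((P ⧸ (Cfsg.Geo.scalars S4 F).subgroupOf P) ≃* alternatingGroup (Fin 7)) ∧ Fintype.card F = 7) ∨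
      (Nonempty ((P ⧸ (Cfsg.Geo.scalars S4 F).subgroupOf P) ≃* Matrix.ProjectiveSpecialLinearGroup (Fin 2) F) ∧
        5 ≤ p ∧ 7 < Fintype.card F) := by
  classical
  have hp := (Fact.out : p.Prime)
  have hp2 : p ≠ 2 := fun e => by
    subst e
    obtain ⟨n, -, hn⟩ := FiniteField.card F 2
    rw [hn] at hodd
    exact Nat.not_even_iff_odd.2 hodd (Nat.even_pow.2 ⟨even_two, n.ne_zero⟩)
  have hcast : ∀ q : ℕ, q.Prime → q ≠ p → (q : F) ≠ 0 := fun q hq hne e =>
    hne ((Nat.prime_dvd_prime_iff_eq hp hq).1 ((CharP.cast_eq_zero_iff F p q).1 e)).symm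
  have hP : Core P :=
    { two := by simpa using hcast 2 Nat.prime_two (Ne.symm hp2)
      sp := hres.le.trans hH.1.le
      perfect := hres.perfect
      simple := hres.simple
      nonabelian := hres.nonabelian
      absIrred := hres.absIrred
      prim := hres.no_subfield
      one_invol := hinv }
  rcases hP.model with ⟨K, _, _, hKodd, hK3, ⟨f⟩⟩ | hA
  swap
  · refine Or.inr (Or.inl ⟨hA, ?_⟩)
    obtain ⟨e⟩ := hA
    exact Seven.card_eq hP e (p := p)
  obtain ⟨R⟩ := exists_rep f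
  obtain ⟨ℓ, hℓc⟩ := CharP.exists K
  haveI : Fact ℓ.Prime := ⟨(CharP.char_is_prime_or_zero K ℓ).resolve_right (CharP.char_ne_zero_of_finite K ℓ)⟩
  obtain ⟨n, -, hn⟩ := FiniteField.card K ℓ
  have hℓ2 : ℓ ≠ 2 := fun e => by
    rw [hn, e] at hKodd
    exact Nat.not_even_iff_odd.2 hKodd (Nat.even_pow.2 ⟨even_two, n.ne_zero⟩)
  have h2K : (2 : K) ≠ 0 := fun e => hℓ2 ((Nat.prime_dvd_prime_iff_eq Fact.out Nat.prime_two).1
    ((CharP.cast_eq_zero_iff K ℓ 2).1 (by exact_mod_cast e)))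
  rcases eq_or_ne (Fintype.card K) 5 with h5 | h5
  · haveI : Fact (Nat.Prime 5) := ⟨Nat.prime_five⟩
    haveI : CharP K 5 := charP_of_card_eq_prime h5
    exact (Five.not_residual hP (R.map (ZMod.ringEquiv K h5)) hH hres.normal).elim
  have h7le : 5 < Fintype.card K ∧ 7 ≤ Fintype.card K := by
    obtain ⟨k, hk⟩ := hKodd
    omega
  rcases eq_or_ne ℓ p with hℓp | hℓp
  · subst hℓp
    obtain ⟨C⟩ := exists_cube R hP ℓ h7le.1
    have hbij := C.bijective hP
    let e := RingEquiv.ofBijective C.φ hbij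
    have hcard : Fintype.card K = Fintype.card F := Fintype.card_congr e.toEquiv
    have hne7 : Fintype.card F ≠ 7 := fun h7 =>
      SymSeven.not_seven hP R C hbij h7 hH hres.le hres.normal
    obtain ⟨g⟩ := R.psl hP
    obtain ⟨g'⟩ := psl_two_congr e
    refine Or.inr (Or.inr ⟨⟨g.trans g'⟩, ?_, by omega⟩)
    have h3 : ℓ ≠ 3 := fun e3 => C.three (by subst e3; exact_mod_cast CharP.cast_eq_zero F 3)
    have h4 : ℓ ≠ 4 := fun e4 => absurd (e4 ▸ hp) (by norm_num)
    have := hp.two_le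
    omega
  have hle := card_le_nine hP R h2K ℓ (hcast ℓ Fact.out hℓp)
  obtain ⟨k, hk⟩ := hKodd
  rcases (by omega : Fintype.card K = 7 ∨ Fintype.card K = 9) with h | h
  · exfalso
    haveI : Fact (Nat.Prime 7) := ⟨by norm_num⟩
    haveI : CharP K 7 := charP_of_card_eq_prime h
    have hℓ7 : ℓ = 7 := CharP.eq K hℓc inferInstance
    have h70 : (7 : K) = 0 := by exact_mod_cast CharP.cast_eq_zero K 7
    have h3K : (3 : K) ≠ 0 := fun e => one_ne_zero (show (1 : K) = 0 by linear_combination h70 - 2 * e)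
    have hpow : ∀ k : ℕ, eU (1 : K) ^ k = eU (k : K) := fun k => by
      induction k with
      | zero => simp [eU_zero]
      | succ k ih => rw [pow_succ, ih, eU_mul]; push_cast; rfl
    refine hcast 7 (by norm_num) (hℓ7 ▸ hℓp) (seven_char (hP.sp (R.mem (eU 1))) ?_ ?_ ?_)
    · rw [← map_pow, hpow, CharP.cast_eq_zero, eU_zero, map_one]
    · intro e
      have := congrFun (congrFun (congrArg Subtype.val (R.inj (e.trans (map_one R.ρ).symm))) 0) 1
      simp [eU] at this
    · refine isConj_iff.2 ⟨R.ρ (tU 3 h3K), ?_⟩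
      rw [← map_inv, ← map_mul, ← map_mul, ← map_pow, hpow]
      congr 1
      rw [tU_eU, mul_inv_cancel_right]
      congr 1
      push_cast
      linear_combination h70
  · have hℓ3 : ℓ = 3 := by
      have h33 : ℓ ∣ 3 ^ 2 := by
        rw [show 3 ^ 2 = Fintype.card K from h.symm, hn]
        exact dvd_pow_self ℓ n.ne_zero
      exact (Nat.prime_dvd_prime_iff_eq Fact.out Nat.prime_three).1 ((Fact.out : ℓ.Prime).dvd_of_dvd_pow h33)
    obtain ⟨hF, hp5, hp7⟩ := Six.conclusion hP R h (p := p) (fun e => hℓp (hℓ3.trans e.symm)) hH hres.normal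
    obtain ⟨g⟩ := R.psl hP
    obtain ⟨g'⟩ := Cfsg.Agent.S0254.result h
    exact Or.inl ⟨⟨g.trans g'⟩, hF, hp5, hp7⟩

end CfsgLib.Sp4Odd.Q
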