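import Cfsg.Prelude.Def_GeometricClasses
import Cfsg.Agent.Lib.GW.Final
import Cfsg.Agent.Lib.GW.Conseq.RankOne
import Cfsg.Agent.Lib.MaxSub.ResThree.Trace
import Cfsg.Agent.Lib.Sp4Even.Realise
import Cfsg.Agent.Lib.Aschbacher.Basic

/-!
Perfect subgroups of the four-dimensional symplectic group in odd characteristic with a single involution:
basic facts and the structure of the group.
-/

set_option autoImplicit false
set_option linter.unusedSectionVars false

namespace CfsgLib.Sp4Odd.Q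

open Matrix

variable {F : Type*} [Field F]

local notation "S4" => (Fin 2 ⊕ Fin 2)
local notation "M4" => Matrix (Fin 2 ⊕ Fin 2) (Fin 2 ⊕ Fin 2) F
local notation "G4" => Matrix.GeneralLinearGroup (Fin 2 ⊕ Fin 2) F
local notation "Zs" => Cfsg.Geo.scalars (Fin 2 ⊕ Fin 2) F

/-- The adjoint of a matrix for the standard alternating form. -/
def adjS (A : M4) : M4 := -(Matrix.J (Fin 2) F * Aᵀ * Matrix.J (Fin 2) F)

theorem J_mul_J : Matrix.J (Fin 2) F * Matrix.J (Fin 2) F = -1 := Matrix.J_squared _ _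

theorem adjS_mul (A B : M4) : adjS (A * B) = adjS B * adjS A := by
  simp only [adjS, Matrix.transpose_mul, neg_mul, mul_neg, neg_neg]
  calc -(Matrix.J (Fin 2) F * (Bᵀ * Aᵀ) * Matrix.J (Fin 2) F)
      = Matrix.J (Fin 2) F * Bᵀ * (-1) * Aᵀ * Matrix.J (Fin 2) F := by
        simp only [mul_neg, mul_one, neg_mul, mul_assoc]
    _ = Matrix.J (Fin 2) F * Bᵀ * (Matrix.J (Fin 2) F * Matrix.J (Fin 2) F) * Aᵀ * Matrix.J (Fin 2) F := by
        rw [J_mul_J]
    _ = _ := by simp only [mul_assoc]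

theorem adjS_one : adjS (1 : M4) = 1 := by
  simp [adjS, J_mul_J]

theorem adjS_add (A B : M4) : adjS (A + B) = adjS A + adjS B := by
  simp [adjS, mul_add, add_mul, add_comm]

theorem adjS_smul (c : F) (A : M4) : adjS (c • A) = c • adjS A := by
  simp [adjS]

theorem adjS_neg (A : M4) : adjS (-A) = -adjS A := by simp [adjS]

theorem adjS_sub (A B : M4) : adjS (A - B) = adjS A - adjS B := by
  rw [sub_eq_add_neg, adjS_add, adjS_neg, ← sub_eq_add_neg]

theorem adjS_adjS (A : M4) : adjS (adjS A) = A := by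
  simp only [adjS, Matrix.transpose_neg, Matrix.transpose_mul, Matrix.J_transpose, neg_mul, mul_neg, neg_neg,
    Matrix.transpose_transpose]
  calc Matrix.J (Fin 2) F * (Matrix.J (Fin 2) F * (A * Matrix.J (Fin 2) F)) * Matrix.J (Fin 2) F
      = Matrix.J (Fin 2) F * Matrix.J (Fin 2) F * A * (Matrix.J (Fin 2) F * Matrix.J (Fin 2) F) := by
        simp only [mul_assoc]
    _ = (-1 : M4) * A * (-1) := by rw [J_mul_J]
    _ = _ := by simp

theorem trace_adjS (A : M4) : (adjS A).trace = A.trace := by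
  rw [adjS, Matrix.trace_neg, Matrix.trace_mul_cycle, J_mul_J, neg_mul, one_mul, Matrix.trace_neg, neg_neg,
    Matrix.trace_transpose]

theorem single_J_single (M : M4) (i j : S4) :
    (Pi.single i (1 : F) : S4 → F) ⬝ᵥ (M *ᵥ Pi.single j 1) = M i j := by
  simp [Matrix.mulVec_single_one]

theorem transpose_J_mul {g : G4} (hg : g ∈ Cfsg.spGL 2 F) : g.1ᵀ * Matrix.J (Fin 2) F * g.1 = Matrix.J (Fin 2) F := by
  ext i j
  rw [← single_J_single (g.1ᵀ * Matrix.J (Fin 2) F * g.1) i j, ← single_J_single (Matrix.J (Fin 2) F) i j]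
  have h := hg (Pi.single i 1) (Pi.single j 1)
  simp only [Cfsg.sympForm] at h
  rw [← h, ← Matrix.mulVec_mulVec, ← Matrix.mulVec_mulVec, Matrix.dotProduct_mulVec _ g.1ᵀ, Matrix.vecMul_transpose]
  rfl

theorem adjS_mul_self {g : G4} (hg : g ∈ Cfsg.spGL 2 F) : adjS g.1 * g.1 = 1 := by
  rw [adjS, neg_mul, mul_assoc, mul_assoc, ← mul_assoc g.1ᵀ, transpose_J_mul hg, J_mul_J, neg_neg]

theorem inv_eq_adjS {g : G4} (hg : g ∈ Cfsg.spGL 2 F) : (g⁻¹).1 = adjS g.1 := by
  calc (g⁻¹).1 = adjS g.1 * g.1 * (g⁻¹).1 := by rw [adjS_mul_self hg, one_mul]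
    _ = adjS g.1 := by rw [mul_assoc, ← Units.val_mul, mul_inv_cancel, Units.val_one, mul_one]

theorem mem_spGL_of_adjS {g : G4} (hg : adjS g.1 * g.1 = 1) : g ∈ Cfsg.spGL 2 F := by
  have h : g.1ᵀ * Matrix.J (Fin 2) F * g.1 = Matrix.J (Fin 2) F := by
    have := congrArg (fun X => Matrix.J (Fin 2) F * X) hg
    simp only [adjS, mul_one, neg_mul, mul_neg, ← mul_assoc, J_mul_J] at this
    simpa using this
  intro u v
  show (g.1 *ᵥ u) ⬝ᵥ (Matrix.J (Fin 2) F *ᵥ (g.1 *ᵥ v)) = u ⬝ᵥ (Matrix.J (Fin 2) F *ᵥ v)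
  rw [Matrix.mulVec_mulVec, dotProduct_comm, Matrix.dotProduct_mulVec, ← Matrix.mulVec_transpose, Matrix.mulVec_mulVec,
    dotProduct_comm, ← mul_assoc, h]

theorem trace_inv {g : G4} (hg : g ∈ Cfsg.spGL 2 F) : (g⁻¹).1.trace = g.1.trace := by
  rw [inv_eq_adjS hg, trace_adjS]

theorem charpoly_inv {g : G4} (hg : g ∈ Cfsg.spGL 2 F) : (g⁻¹).1.charpoly = g.1.charpoly := by
  let j : G4 := ⟨Matrix.J (Fin 2) F, -Matrix.J (Fin 2) F, by simp [J_mul_J], by simp [J_mul_J]⟩
  rw [inv_eq_adjS hg, show adjS g.1 = j.1 * g.1ᵀ * (j⁻¹).1 by simp [adjS, j], Matrix.coe_units_inv,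
    Matrix.charpoly_units_conj j g.1ᵀ, Matrix.charpoly_transpose]

theorem coe_neg_one : ((-1 : G4) : M4) = -1 := rfl

/-- The hypotheses on the group. -/
structure Core (P : Subgroup (Matrix.GeneralLinearGroup (Fin 2 ⊕ Fin 2) F)) : Prop where
  two : (2 : F) ≠ 0
  sp : P ≤ Cfsg.spGL 2 F
  perfect : ⁅P, P⁆ = P
  simple : IsSimpleGroup (P ⧸ (Cfsg.Geo.scalars (Fin 2 ⊕ Fin 2) F).subgroupOf P)
  nonabelian : ¬ IsMulCommutative (P ⧸ (Cfsg.Geo.scalars (Fin 2 ⊕ Fin 2) F).subgroupOf P)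
  absIrred : Cfsg.Geo.ActsAbsolutelyIrreducibly (Cfsg.Geo.matrixSet P)
  prim : ∀ F₀ : Subfield F, F₀ ≠ ⊤ → ¬ Cfsg.Geo.RealisableOver F₀ (Cfsg.Geo.matrixSet P)
  one_invol : ∀ g ∈ P, g * g = 1 → g = 1 ∨ g.1 = -1

variable {P : Subgroup (Matrix.GeneralLinearGroup (Fin 2 ⊕ Fin 2) F)}

theorem Core.envelope_top (hP : Core P) : CfsgLib.Aschbacher.envelope P = ⊤ :=
  CfsgLib.Aschbacher.envelope_eq_top hP.absIrred

theorem Core.neg_one_ne (hP : Core P) : (-1 : F) ≠ 1 := fun h => hP.two (by linear_combination -h)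

theorem Core.gl_neg_one_ne (hP : Core P) : (-1 : G4) ≠ 1 := fun h => by
  have h' : (-1 : M4) (Sum.inl 0) (Sum.inl 0) = (1 : M4) (Sum.inl 0) (Sum.inl 0) := by
    rw [← coe_neg_one, h, Units.val_one]
  rw [Matrix.neg_apply, Matrix.one_apply_eq] at h'
  exact hP.neg_one_ne h'

theorem Core.isPerfect (hP : Core P) : Group.IsPerfect P :=
  ⟨Subgroup.map_injective P.subtype_injective (by
    rw [Subgroup.map_subtype_commutator, ← MonoidHom.range_eq_map, Subgroup.range_subtype]; exact hP.perfect)⟩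

theorem Core.scalar_cases (hP : Core P) {g : G4} (hg : g ∈ P) (hs : g ∈ Zs) : g = 1 ∨ g = -1 := by
  obtain ⟨c, hc⟩ := (Cfsg.Geo.mem_scalars_iff g).1 hs
  have h := adjS_mul_self (hP.sp hg)
  rw [hc, adjS_smul, adjS_one, smul_mul_smul_comm, one_mul] at h
  have hcc : (c : F) * c = 1 := by simpa using congrFun (congrFun h (Sum.inl 0)) (Sum.inl 0)
  rcases mul_self_eq_one_iff.1 hcc with e | e
  · left; exact Units.ext (by rw [hc, e, one_smul]; rfl)
  · right; exact Units.ext (by rw [hc, e, neg_one_smul]; rfl)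

theorem one_mem_scalars : (1 : G4) ∈ Zs := one_mem _

theorem neg_one_mem_scalars : (-1 : G4) ∈ Zs :=
  (Cfsg.Geo.mem_scalars_iff _).2 ⟨-1, by rw [coe_neg_one, Units.val_neg, Units.val_one, neg_one_smul]⟩

variable [Finite F]

theorem Core.not_odd (hP : Core P) : ¬ Odd (Nat.card P) := fun h => by
  haveI := hP.isPerfect
  haveI := CfsgLib.GW.subsingleton_of_odd h
  exact hP.nonabelian ⟨⟨fun a b => by
    obtain ⟨x, rfl⟩ := QuotientGroup.mk'_surjective _ a
    obtain ⟨y, rfl⟩ := QuotientGroup.mk'_surjective _ b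
    rw [Subsingleton.elim x y]⟩⟩

theorem Core.neg_mem (hP : Core P) : (-1 : G4) ∈ P := by
  haveI : Fact (Nat.Prime 2) := ⟨Nat.prime_two⟩
  obtain ⟨t, ht⟩ := exists_prime_orderOf_dvd_card' (G := P) 2
    (even_iff_two_dvd.1 (Nat.not_odd_iff_even.1 hP.not_odd))
  have h2 : (t : G4) * t = 1 := by
    have h : t ^ 2 = 1 := orderOf_dvd_iff_pow_eq_one.1 (dvd_of_eq ht)
    rw [← Subgroup.coe_mul, ← pow_two, h, Subgroup.coe_one]
  rcases hP.one_invol t t.2 h2 with e | e
  · rw [show t = 1 from Subtype.ext e, orderOf_one] at ht; norm_num at ht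
  · rw [show (-1 : G4) = (t : G4) from Units.ext (e.symm ▸ coe_neg_one)]; exact t.2

theorem Core.center_eq (hP : Core P) : Subgroup.center P = Subgroup.subgroupOf Zs P := by
  refine le_antisymm (fun z hz => ?_) fun z hz => ?_
  · obtain ⟨c, hc⟩ := CfsgLib.ResThree.scalar_of_commute hP.envelope_top (M := z.1.1) (fun g hg =>
      congrArg (fun x : P => x.1.1) (Subgroup.mem_center_iff.1 hz ⟨g, hg⟩))
    have hc0 : c ≠ 0 := by
      rintro rfl
      rw [zero_smul] at hc
      exact z.1.ne_zero hc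
    exact (Cfsg.Geo.mem_scalars_iff z.1).2 ⟨Units.mk0 c hc0, hc⟩
  · rw [Subgroup.mem_center_iff]
    intro g
    rcases hP.scalar_cases z.2 hz with e | e <;>
      exact Subtype.ext (by rw [Subgroup.coe_mul, Subgroup.coe_mul, e]; simp)

theorem Core.card_center (hP : Core P) : Nat.card (Subgroup.center P) = 2 := by
  classical
  rw [hP.center_eq, ← SetLike.coe_sort_coe, Nat.card_coe_set_eq, Set.ncard_eq_two]
  refine ⟨1, ⟨-1, hP.neg_mem⟩, fun h => hP.gl_neg_one_ne (congrArg Subtype.val h).symm, ?_⟩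
  ext z
  constructor
  · intro hz
    rcases hP.scalar_cases z.2 hz with e | e
    · exact Or.inl (Subtype.ext e)
    · exact Or.inr (Subtype.ext e)
  · rintro (rfl | rfl)
    · exact one_mem _
    · exact neg_one_mem_scalars

theorem Core.normal_cases (hP : Core P) (N : Subgroup P) [N.Normal] :
    N ≤ Subgroup.subgroupOf Zs P ∨ N = ⊤ := by
  haveI := hP.simple
  haveI := hP.isPerfect
  rcases (Subgroup.Normal.map (inferInstance : N.Normal) (QuotientGroup.mk' (Subgroup.subgroupOf Zs P))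
    (QuotientGroup.mk'_surjective _)).eq_bot_or_eq_top with h | h
  · left
    rwa [← QuotientGroup.ker_mk' (Subgroup.subgroupOf Zs P), ← Subgroup.map_eq_bot_iff]
  · right
    have hsup : N ⊔ Subgroup.center P = ⊤ := by
      have := congrArg (Subgroup.comap (QuotientGroup.mk' (Subgroup.subgroupOf Zs P))) h
      rwa [Subgroup.comap_map_eq, QuotientGroup.ker_mk', Subgroup.comap_top, ← hP.center_eq] at this
    have hcomm : ∀ a b : P ⧸ N, a * b = b * a := by
      intro a b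
      obtain ⟨x, rfl⟩ := QuotientGroup.mk'_surjective N a
      obtain ⟨y, rfl⟩ := QuotientGroup.mk'_surjective N b
      obtain ⟨n, hn, z, hz, rfl⟩ := Subgroup.mem_sup_of_normal_left.1 (hsup ▸ Subgroup.mem_top x)
      have h1 : QuotientGroup.mk' N n = 1 := (QuotientGroup.eq_one_iff n).2 hn
      rw [map_mul, h1, one_mul, ← map_mul, ← map_mul, Subgroup.mem_center_iff.1 hz y]
    haveI : IsMulCommutative (P ⧸ N) := ⟨⟨hcomm⟩⟩
    haveI : Group.IsPerfect (P ⧸ N) :=
      Group.IsPerfect.ofSurjective (f := QuotientGroup.mk' N) (QuotientGroup.mk'_surjective N)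
    have : Subsingleton (P ⧸ N) := Group.IsPerfect.subsingleton_of_isMulCommutative
    exact QuotientGroup.subgroup_eq_top_of_subsingleton N this

theorem Core.oddCore_eq (hP : Core P) : Cfsg.oddCore P = ⊥ := by
  have h2 : ¬ 2 ∣ Nat.card (Cfsg.oddCore P) := CfsgLib.not_dvd_card_pPrimeCore Nat.prime_two
  rcases hP.normal_cases (Cfsg.oddCore P) with h | h
  · rw [← hP.center_eq] at h
    have hd := Subgroup.card_dvd_of_le h
    rw [hP.card_center] at hd
    rcases (Nat.dvd_prime Nat.prime_two).1 hd with e | e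
    · exact Subgroup.card_eq_one.1 e
    · exact absurd (dvd_of_eq e.symm) h2
  · rw [h, Nat.card_congr Subgroup.topEquiv.toEquiv] at h2
    exact absurd (even_iff_two_dvd.1 (Nat.not_odd_iff_even.1 hP.not_odd)) h2

theorem Core.rank_one (hP : Core P) : Cfsg.PRankLE 2 1 P := by
  intro A _ hA
  refine le_trans (Subgroup.card_le_of_le (?_ : A ≤ Subgroup.center P)) (by rw [hP.card_center, pow_one])
  intro a ha
  rw [hP.center_eq]
  have h2 : (a : G4) * a = 1 := by
    rw [← Subgroup.coe_mul, ← pow_two, hA a ha, Subgroup.coe_one]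
  rcases hP.one_invol a a.2 h2 with e | e
  · show (a : G4) ∈ Zs; rw [e]; exact one_mem _
  · show (a : G4) ∈ Zs
    rw [show (a : G4) = -1 from Units.ext (e.trans coe_neg_one.symm)]
    exact neg_one_mem_scalars

/-- The group is special linear of degree two or the double cover of the alternating group of degree seven. -/
theorem Core.model (hP : Core P) :
    (∃ (K : Type) (_ : Field K) (_ : Fintype K), Odd (Fintype.card K) ∧ 3 < Fintype.card K ∧
        Nonempty (P ≃* Matrix.SpecialLinearGroup (Fin 2) K)) ∨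
      Nonempty (P ⧸ Subgroup.subgroupOf Zs P ≃* alternatingGroup (Fin 7)) := by
  haveI := hP.isPerfect
  let e := QuotientGroup.quotientMulEquivOfEq hP.oddCore_eq |>.trans QuotientGroup.quotientBot
  rcases CfsgLib.GWConseq.rank_one CfsgLib.GW.gwThm hP.rank_one (Nat.not_odd_iff_even.1 hP.not_odd) with
    ⟨K, hK, hKf, ho, h3, ⟨f⟩⟩ | ⟨-, ⟨f⟩, -⟩
  · exact Or.inl ⟨K, hK, hKf, ho, h3, ⟨e.symm.trans f⟩⟩
  · refine Or.inr ⟨?_⟩
    refine ((QuotientGroup.congr (Subgroup.subgroupOf Zs P) (Subgroup.center (P ⧸ Cfsg.oddCore P)) e.symm ?_).trans f)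
    rw [← hP.center_eq]
    ext x
    rw [Subgroup.mem_map, Subgroup.mem_center_iff]
    constructor
    · rintro ⟨y, hy, rfl⟩ g
      rw [Subgroup.mem_center_iff] at hy
      obtain ⟨g, rfl⟩ := e.symm.surjective g
      show e.symm g * e.symm y = e.symm y * e.symm g
      rw [← map_mul, ← map_mul, hy g]
    · intro hx
      refine ⟨e x, Subgroup.mem_center_iff.2 fun g => e.symm.injective ?_, by simp⟩
      simpa using hx (e.symm g)

end CfsgLib.Sp4Odd.Q
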