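import Cfsg.Agent.Lib.Sp4Odd.Q.Model
import Mathlib.GroupTheory.SpecificGroups.Alternating

/-!
Six vectors with vanishing sum and constant inner products in the five-dimensional space, and the symplectic
elements inducing even permutations of them.
-/

set_option autoImplicit false
set_option linter.unusedSectionVars false
set_option maxHeartbeats 1000000

namespace CfsgLib.Sp4Odd.Q

open Matrix Equiv

variable {F : Type*} [Field F]

local notation "M4" => Matrix (Fin 2 ⊕ Fin 2) (Fin 2 ⊕ Fin 2) F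
local notation "G4" => Matrix.GeneralLinearGroup (Fin 2 ⊕ Fin 2) F

/-- Six vectors with vanishing sum and constant inner products. -/
structure Frame {ι : Type} [Fintype ι] (v : ι → Matrix (Fin 2 ⊕ Fin 2) (Fin 2 ⊕ Fin 2) F) (d : F) : Prop where
  h2 : (2 : F) ≠ 0
  h3 : (3 : F) ≠ 0
  card : Fintype.card ι = 6
  mem : ∀ i, InW (v i)
  sum : ∑ i, v i = 0
  off : ∀ i j, i ≠ j → bW (v i) (v j) = d
  hd : d ≠ 0

/-- An element permutes the vectors. -/
def Act {ι : Type} (v : ι → Matrix (Fin 2 ⊕ Fin 2) (Fin 2 ⊕ Fin 2) F) (g : G4) (σ : Perm ι) : Prop :=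
  ∀ i, ad g (v i) = v (σ i)

variable {ι : Type} [Fintype ι] [DecidableEq ι] {v : ι → Matrix (Fin 2 ⊕ Fin 2) (Fin 2 ⊕ Fin 2) F} {d : F}

theorem Act.mul {g g' : G4} {σ σ' : Perm ι} (h : Act v g σ) (h' : Act v g' σ') : Act v (g * g') (σ * σ') :=
  fun i => by rw [ad_mul, h', h]; rfl

theorem Act.one : Act v (1 : G4) (1 : Perm ι) := fun i => ad_one _

theorem Act.inv {g : G4} {σ : Perm ι} (h : Act v g σ) : Act v g⁻¹ σ⁻¹ := fun i => by
  have := congrArg (ad g⁻¹) (h (σ⁻¹ i))
  rw [← ad_mul, inv_mul_cancel, ad_one, show σ (σ⁻¹ i) = i from σ.apply_symm_apply i] at this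
  exact this.symm

theorem Act.neg {g : G4} {σ : Perm ι} (h : Act v g σ) : Act v (-g) σ := fun i => by rw [ad_neg]; exact h i

theorem Frame.six_ne (hf : Frame v d) : (6 : F) ≠ 0 := by
  rw [show (6 : F) = 2 * 3 by norm_num]; exact mul_ne_zero hf.h2 hf.h3

theorem Frame.self (hf : Frame v d) (i : ι) : bW (v i) (v i) = -5 * d := by
  have h := bW_sum Finset.univ (v i) v
  rw [hf.sum, bW_zero, ← Finset.add_sum_erase _ _ (Finset.mem_univ i),
    Finset.sum_congr rfl (fun j hj => hf.off i j (Finset.ne_of_mem_erase hj).symm), Finset.sum_const,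
    Finset.card_erase_of_mem (Finset.mem_univ i), Finset.card_univ, hf.card, nsmul_eq_mul] at h
  push_cast at h
  linear_combination -h

/-- The coefficients of a relation are equal. -/
theorem Frame.coeff_eq (hf : Frame v d) {a : ι → F} (h : ∑ i, a i • v i = 0) (i j : ι) : a i = a j := by
  have key : ∀ k, 6 * a k = ∑ l, a l := by
    intro k
    have h1 := bW_sum Finset.univ (v k) fun l => a l • v l
    rw [h, bW_zero, Finset.sum_congr rfl (fun l _ => show bW (v k) (a l • v l) =
      d * a l + if k = l then -6 * d * a l else 0 by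
        rw [bW_smul]; split_ifs with e
        · rw [← e, hf.self]; ring
        · rw [hf.off _ _ e]; ring), Finset.sum_add_distrib, Finset.sum_ite_eq, if_pos (Finset.mem_univ k),
      ← Finset.mul_sum] at h1
    refine mul_left_cancel₀ hf.hd ?_
    linear_combination h1
  exact mul_left_cancel₀ hf.six_ne ((key i).trans (key j).symm)

theorem Frame.injective (hf : Frame v d) : Function.Injective v := fun i j e => by
  by_contra hij
  have h1 := hf.off i j hij
  rw [← e, hf.self] at h1
  exact mul_ne_zero hf.six_ne hf.hd (by linear_combination -h1)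

theorem Frame.act_unique (hf : Frame v d) {g : G4} {σ σ' : Perm ι} (h : Act v g σ) (h' : Act v g σ') : σ = σ' :=
  Equiv.ext fun i => hf.injective ((h i).symm.trans (h' i))

/-- The vectors span. -/
theorem Frame.exists_coeff (hf : Frame v d) {A : M4} (hA : InW A) : ∃ a : ι → F, ∑ i, a i • v i = A := by
  classical
  obtain ⟨j⟩ : Nonempty ι := Fintype.card_pos_iff.1 (by rw [hf.card]; norm_num)
  let w : {i // i ≠ j} → wSpace (F := F) := fun i => ⟨v i, hf.mem i⟩
  have hli : LinearIndependent F w := by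
    rw [Fintype.linearIndependent_iff]
    intro g hg
    have hg' : ∑ i : {i // i ≠ j}, g i • v i = 0 := by
      simpa [w] using congrArg Subtype.val hg
    set a : ι → F := fun i => if h : i = j then 0 else g ⟨i, h⟩ with ha
    have hsum : ∑ i, a i • v i = 0 := by
      rw [← Finset.add_sum_erase _ _ (Finset.mem_univ j), Finset.sum_subtype (p := fun i => i ≠ j) _ (by simp)]
      simp only [ha, dif_pos, zero_smul, zero_add]
      rw [← hg']
      exact Finset.sum_congr rfl fun i _ => by rw [dif_neg i.2]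
    intro i
    have := hf.coeff_eq hsum i.1 j
    simpa [ha, dif_neg i.2] using this
  have hcard : Fintype.card {i // i ≠ j} = Module.finrank F (wSpace (F := F)) := by
    refine le_antisymm hli.fintype_card_le_finrank ?_
    rw [Fintype.card_subtype_compl, Fintype.card_subtype_eq, hf.card]
    exact finrank_wSpace hf.h2
  haveI : Nonempty {i // i ≠ j} := Fintype.card_pos_iff.1 (by
    rw [Fintype.card_subtype_compl, Fintype.card_subtype_eq, hf.card]; norm_num)
  have htop := hli.span_eq_top_of_card_eq_finrank hcard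
  have hmem : (⟨A, hA⟩ : wSpace (F := F)) ∈ Submodule.span F (Set.range w) := by rw [htop]; exact Submodule.mem_top
  obtain ⟨b, hb⟩ := Submodule.mem_span_range_iff_exists_fun F |>.1 hmem
  refine ⟨fun i => if h : i = j then 0 else b ⟨i, h⟩, ?_⟩
  rw [← Finset.add_sum_erase _ _ (Finset.mem_univ j), Finset.sum_subtype (p := fun i => i ≠ j) _ (by simp)]
  simp only [dif_pos, zero_smul, zero_add]
  rw [← show ((∑ i, b i • w i : wSpace (F := F)) : M4) = A from congrArg Subtype.val hb]
  simp only [Submodule.coe_sum, Submodule.coe_smul, w]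
  exact Finset.sum_congr rfl fun i _ => by rw [dif_neg i.2]

/-- An element fixing all six vectors is plus or minus the identity. -/
theorem Frame.eq_pm_one (hf : Frame v d) {g : G4} (hg : g ∈ Cfsg.spGL 2 F) (h : Act v g 1) : g = 1 ∨ g = -1 := by
  have hc : ∀ A, InW A → g.1 * A = A * g.1 := fun A hA => by
    obtain ⟨a, rfl⟩ := hf.exists_coeff hA
    rw [← ad_eq_iff, map_sum]
    exact Finset.sum_congr rfl fun i _ => by rw [map_smul, h]; rfl
  have hs := scalar_of_comm hf.h2 hc
  set c := g.1 (Sum.inl 0) (Sum.inl 0)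
  have h1 := adjS_mul_self hg
  rw [hs, adjS_smul, adjS_one, smul_mul_smul_comm, one_mul] at h1
  have hcc : c * c = 1 := by simpa using congrFun (congrFun h1 (Sum.inl 0)) (Sum.inl 0)
  rcases mul_self_eq_one_iff.1 hcc with e | e
  · exact Or.inl (Units.ext (by rw [hs, e, one_smul, Units.val_one]))
  · exact Or.inr (Units.ext (by rw [hs, e, neg_one_smul, coe_neg_one]))

theorem Frame.mem_pm_of_act (hf : Frame v d) {g g' : G4} {σ : Perm ι} (hg : g ∈ Cfsg.spGL 2 F)
    (hg' : g' ∈ Cfsg.spGL 2 F) (h : Act v g σ) (h' : Act v g' σ) : g = g' ∨ g = -g' := by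
  rcases hf.eq_pm_one (mul_mem (inv_mem hg') hg) (by simpa using h'.inv.mul h) with e | e
  · exact Or.inl (eq_of_inv_mul_eq_one e).symm
  · exact Or.inr (by rw [← mul_inv_cancel_left g' g, e, mul_neg, mul_one])

theorem Frame.diff_mem (hf : Frame v d) (a b : ι) : InW (v a - v b) :=
  show v a - v b ∈ wSpace from Submodule.sub_mem _ (hf.mem a) (hf.mem b)

theorem Frame.qW_diff (hf : Frame v d) {a b : ι} (h : a ≠ b) : qW (v a - v b) = -12 * d := by
  rw [← bW_self hf.h2, bW_sub, bW_comm (v a - v b), bW_comm (v a - v b), bW_sub, bW_sub, hf.self, hf.self,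
    hf.off a b h, hf.off b a h.symm]
  ring

theorem Frame.twelve_ne (hf : Frame v d) : (-12 : F) * d ≠ 0 := by
  rw [show (-12 : F) = -(2 * 6) by norm_num]
  exact mul_ne_zero (neg_ne_zero.2 (mul_ne_zero hf.h2 hf.six_ne)) hf.hd

/-- The reflection in a difference interchanges two of the vectors. -/
theorem Frame.refl_swap (hf : Frame v d) {a b : ι} (h : a ≠ b) (k : ι) :
    v k - (2 * bW (v a - v b) (v k) / qW (v a - v b)) • (v a - v b) = v (swap a b k) := by
  rw [bW_comm, bW_sub, hf.qW_diff h]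
  have h6 := mul_ne_zero hf.six_ne hf.hd
  have h12 := hf.twelve_ne
  rcases eq_or_ne k a with rfl | hka
  · rw [hf.self, hf.off k b h, swap_apply_left]
    rw [show 2 * (-5 * d - d) / (-12 * d) = (1 : F) by rw [div_eq_one_iff_eq h12]; ring, one_smul]
    abel
  rcases eq_or_ne k b with rfl | hkb
  · rw [hf.self, hf.off k a h.symm, swap_apply_right]
    rw [show 2 * (d - -5 * d) / (-12 * d) = (-1 : F) by rw [div_eq_iff h12]; ring, neg_one_smul]
    abel
  · rw [hf.off k a hka, hf.off k b hkb, swap_apply_of_ne_of_ne hka hkb]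
    simp

/-- Products of two transpositions are induced. -/
theorem Frame.exists_swap_swap (hf : Frame v d) {a b c e : ι} (hab : a ≠ b) (hce : c ≠ e) :
    ∃ g : G4, g ∈ Cfsg.spGL 2 F ∧ g.1 = (-12 * d)⁻¹ • ((v a - v b) * (v c - v e)) ∧
      Act v g (swap a b * swap c e) := by
  obtain ⟨g, hg, hval, hact⟩ := exists_pair hf.h2 (hf.diff_mem a b) (hf.diff_mem c e)
    (by rw [hf.qW_diff hab, hf.qW_diff hce]) (by rw [hf.qW_diff hab]; exact hf.twelve_ne)
  rw [hf.qW_diff hab] at hval
  refine ⟨g, hg, hval, fun i => ?_⟩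
  rw [hact _ (hf.mem i), hf.refl_swap hce, hf.refl_swap hab]
  rfl

section Rational

variable (F₀ : Subfield F)

/-- The span of the normalised even monomials. -/
def monSpan (v : ι → Matrix (Fin 2 ⊕ Fin 2) (Fin 2 ⊕ Fin 2) F) (d : F) :
    Submodule F₀ (Matrix (Fin 2 ⊕ Fin 2) (Fin 2 ⊕ Fin 2) F) :=
  Submodule.span F₀ {M | ∃ (k : ℕ) (L : List ι), L.length = 2 * k ∧ M = (d ^ k)⁻¹ • (L.map v).prod}

theorem monSpan_mul {A B : M4} (hA : A ∈ monSpan F₀ v d) (hB : B ∈ monSpan F₀ v d) :
    A * B ∈ monSpan F₀ v d := by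
  refine Submodule.span_induction (p := fun A _ => A * B ∈ monSpan F₀ v d) ?_ ?_ ?_ ?_ hA
  · rintro _ ⟨k, L, hL, rfl⟩
    refine Submodule.span_induction (p := fun B _ => _ * B ∈ monSpan F₀ v d) ?_ ?_ ?_ ?_ hB
    · rintro _ ⟨k', L', hL', rfl⟩
      refine Submodule.subset_span ⟨k + k', L ++ L', by rw [List.length_append, hL, hL']; ring, ?_⟩
      rw [List.map_append, List.prod_append, smul_mul_smul_comm, ← _root_.mul_inv, pow_add]
    · simp
    · intro x y _ _ hx hy; rw [mul_add]; exact add_mem hx hy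
    · intro c x _ hx; rw [Matrix.mul_smul]; exact Submodule.smul_mem _ c hx
  · simp
  · intro x y _ _ hx hy; rw [add_mul]; exact add_mem hx hy
  · intro c x _ hx; rw [Matrix.smul_mul]; exact Submodule.smul_mem _ c hx

theorem trace_swap (hf : Frame v d) {n : ℕ}
    (ih : ∀ L : List ι, L.length + 2 = 2 * (n + 1) → (L.map v).prod.trace / d ^ n ∈ F₀) (x : ι) :
    ∀ L R : List ι, R.length + L.length + 1 = 2 * (n + 1) →
      ((R.map v).prod * v x * (L.map v).prod).trace / d ^ (n + 1)
        - (-1) ^ L.length * (((R.map v).prod * (L.map v).prod * v x).trace / d ^ (n + 1)) ∈ F₀ := by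
  intro L
  induction L with
  | nil => intro R _; simp
  | cons y L hL =>
    intro R hlen
    have h1 := hL (R ++ [y]) (by simp at hlen ⊢; omega)
    rw [List.map_append, List.prod_append, List.map_singleton, List.prod_singleton] at h1
    rw [List.map_cons, List.prod_cons, List.length_cons, pow_succ]
    have hanti : v x * v y = (2 * bW (v x) (v y)) • (1 : M4) - v y * v x :=
      eq_sub_of_add_eq (anti_eq hf.h2 (hf.mem x) (hf.mem y))
    have e : (R.map v).prod * v x * (v y * (L.map v).prod) =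
        (2 * bW (v x) (v y)) • ((R ++ L).map v).prod - (R.map v).prod * v y * v x * (L.map v).prod := by
      rw [mul_assoc _ (v x), ← mul_assoc (v x), hanti, List.map_append, List.prod_append, sub_mul, mul_sub,
        Matrix.smul_mul, one_mul, Matrix.mul_smul]
      simp only [mul_assoc]
    have hcoef : 2 * bW (v x) (v y) / d ∈ F₀ := by
      rcases eq_or_ne x y with rfl | hxy
      · rw [hf.self, show 2 * (-5 * d) / d = (((-10 : ℤ)) : F) by field_simp [hf.hd]; push_cast; ring]
        exact intCast_mem _ _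
      · rw [hf.off x y hxy, show 2 * d / d = (((2 : ℤ)) : F) by field_simp [hf.hd]; push_cast; ring]
        exact intCast_mem _ _
    have h2 : ((R ++ L).map v).prod.trace / d ^ n ∈ F₀ := ih _ (by simp at hlen ⊢; omega)
    have h3 := F₀.sub_mem (F₀.mul_mem hcoef h2) h1
    convert h3 using 1
    rw [e, Matrix.trace_sub, Matrix.trace_smul, smul_eq_mul]
    simp only [← mul_assoc]
    field_simp [hf.hd]
    ring

theorem trace_list (hf : Frame v d) : ∀ (k : ℕ) (L : List ι), L.length = 2 * k →
    (L.map v).prod.trace / d ^ k ∈ F₀ := by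
  intro k
  induction k with
  | zero =>
    intro L hL
    rw [List.length_eq_zero_iff.1 (by omega : L.length = 0)]
    simp only [List.map_nil, List.prod_nil, Matrix.trace_one, Fintype.card_sum, Fintype.card_fin, pow_zero, div_one]
    exact natCast_mem _ _
  | succ n ih =>
    intro L hL
    obtain ⟨x, L, rfl⟩ : ∃ x L', L = x :: L' := by
      cases L with
      | nil => simp at hL
      | cons a L => exact ⟨a, L, rfl⟩
    have h := trace_swap F₀ hf (n := n) (fun L hL => ih L (by omega)) x L [] (by simpa using hL)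
    simp only [List.map_nil, List.prod_nil, one_mul] at h
    rw [List.map_cons, List.prod_cons]
    have hodd : Odd L.length := ⟨n, by simp at hL; omega⟩
    rw [Odd.neg_one_pow hodd, Matrix.trace_mul_comm (L.map v).prod (v x)] at h
    have h' := F₀.mul_mem (F₀.inv_mem (natCast_mem F₀ 2)) h
    convert h' using 1
    have := hf.h2
    push_cast
    field_simp
    ring

theorem trace_mem_of_monSpan (hf : Frame v d) {M : M4} (hM : M ∈ monSpan F₀ v d) : M.trace ∈ F₀ := by
  refine Submodule.span_induction (p := fun M _ => M.trace ∈ F₀) ?_ ?_ ?_ ?_ hM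
  · rintro _ ⟨k, L, hL, rfl⟩
    rw [Matrix.trace_smul, smul_eq_mul, inv_mul_eq_div]
    exact trace_list F₀ hf k L hL
  · simp [F₀.zero_mem]
  · intro x y _ _ hx hy; rw [Matrix.trace_add]; exact F₀.add_mem hx hy
  · intro c x _ hx
    rw [show (c • x : M4) = (c : F) • x from rfl, Matrix.trace_smul, smul_eq_mul]
    exact F₀.mul_mem c.2 hx

theorem pair_mem (hf : Frame v d) (a b c e : ι) :
    (-12 * d)⁻¹ • ((v a - v b) * (v c - v e)) ∈ monSpan F₀ v d := by
  have hm : ∀ i j : ι, (d ^ 1)⁻¹ • (v i * v j) ∈ monSpan F₀ v d := fun i j =>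
    Submodule.subset_span ⟨1, [i, j], rfl, by simp⟩
  have e : (-12 * d)⁻¹ • ((v a - v b) * (v c - v e)) = (⟨((-12 : ℤ) : F)⁻¹, F₀.inv_mem (intCast_mem _ _)⟩ : F₀) •
      ((d ^ 1)⁻¹ • (v a * v c) - (d ^ 1)⁻¹ • (v a * v e) - (d ^ 1)⁻¹ • (v b * v c) + (d ^ 1)⁻¹ • (v b * v e)) := by
    show _ = ((-12 : ℤ) : F)⁻¹ • (_ : M4)
    rw [pow_one, _root_.mul_inv, ← smul_smul, sub_mul, mul_sub, mul_sub]
    push_cast
    module
  rw [e]
  exact Submodule.smul_mem _ _ (add_mem (sub_mem (sub_mem (hm _ _) (hm _ _)) (hm _ _)) (hm _ _))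

/-- Every even permutation is induced by an element in the span. -/
theorem Frame.exists_even (hf : Frame v d) {σ : Perm ι} (hσ : σ ∈ alternatingGroup ι) :
    ∃ g : G4, g ∈ Cfsg.spGL 2 F ∧ g.1 ∈ monSpan F₀ v d ∧ Act v g σ := by
  rw [← Equiv.Perm.closure_three_cycles_eq_alternating, ← Subgroup.mem_toSubmonoid,
    Subgroup.closure_toSubmonoid_of_finite] at hσ
  induction hσ using Submonoid.closure_induction with
  | mem σ hσ =>
    obtain ⟨a, ha⟩ : σ.support.Nonempty := Finset.card_pos.1 (by rw [hσ.card_support]; norm_num)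
    have h1 : a ≠ σ a := (Equiv.Perm.mem_support.1 ha).symm
    have h2 : σ a ≠ σ (σ a) := (Equiv.Perm.mem_support.1 (Equiv.Perm.apply_mem_support.2 ha)).symm
    obtain ⟨g, hg, hval, hact⟩ := hf.exists_swap_swap h1 h2
    rw [← (Equiv.Perm.IsThreeCycle.eq_swap_mul_swap_iff_mem_support hσ).2 ha] at hact
    exact ⟨g, hg, hval ▸ pair_mem F₀ hf _ _ _ _, hact⟩
  | one => exact ⟨1, one_mem _, Submodule.subset_span ⟨0, [], rfl, by simp⟩, Act.one⟩
  | mul σ τ _ _ hs ht =>
    obtain ⟨g, hg, hgs, hga⟩ := hs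
    obtain ⟨k, hk, hks, hka⟩ := ht
    exact ⟨g * k, mul_mem hg hk, by rw [Units.val_mul]; exact monSpan_mul F₀ hgs hks, hga.mul hka⟩

/-- Elements inducing even permutations have traces in every subfield. -/
theorem Frame.trace_mem (hf : Frame v d) {g : G4} (hg : g ∈ Cfsg.spGL 2 F) {σ : Perm ι} (h : Act v g σ)
    (hσ : σ ∈ alternatingGroup ι) : g.1.trace ∈ F₀ := by
  obtain ⟨k, hk, hks, hka⟩ := hf.exists_even F₀ hσ
  rcases hf.mem_pm_of_act hg hk h hka with rfl | rfl
  · exact trace_mem_of_monSpan F₀ hf hks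
  · rw [Units.val_neg, Matrix.trace_neg]; exact F₀.neg_mem (trace_mem_of_monSpan F₀ hf hks)

end Rational

/-- A vector fixed by an element inducing a permutation of order five is a multiple of one of the six. -/
theorem Frame.fixed_of_five (hf : Frame v d) {g : G4} {σ : Perm ι} (h : Act v g σ) (h5 : σ ^ 5 = 1) (h1 : σ ≠ 1)
    {A : M4} (hA : InW A) (hfix : ad g A = A) : ∃ (j : ι) (r : F), σ j = j ∧ A = r • v j := by
  classical
  haveI : Fact (Nat.Prime 5) := ⟨by norm_num⟩
  have ho : orderOf σ = 5 := orderOf_eq_prime h5 h1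
  have hcyc : σ.IsCycle := Equiv.Perm.isCycle_of_prime_order' (ho ▸ Nat.prime_five) (by rw [ho, hf.card]; norm_num)
  obtain ⟨j, hj⟩ : ∃ j, σ j = j := by
    by_contra hc
    push Not at hc
    have hs := hcyc.orderOf
    rw [show σ.support = Finset.univ from Finset.eq_univ_of_forall fun i => Equiv.Perm.mem_support.2 (hc i),
      Finset.card_univ, hf.card, ho] at hs
    norm_num at hs
  have hsupp : σ.support = Finset.univ.erase j := by
    refine Finset.eq_of_subset_of_card_le (fun i hi => Finset.mem_erase.2 ⟨fun e =>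
      Equiv.Perm.mem_support.1 hi (e ▸ hj), Finset.mem_univ i⟩) ?_
    rw [Finset.card_erase_of_mem (Finset.mem_univ j), Finset.card_univ, hf.card, ← hcyc.orderOf, ho]
  obtain ⟨a, rfl⟩ := hf.exists_coeff hA
  have hrel : ∑ i, (a (σ⁻¹ i) - a i) • v i = 0 := by
    simp only [sub_smul, Finset.sum_sub_distrib]
    rw [sub_eq_zero]
    refine Eq.trans ?_ hfix
    rw [map_sum, Finset.sum_congr rfl (fun i _ => show ad g (a i • v i) = a i • v (σ i) by rw [map_smul, h i])]
    exact (Equiv.sum_comp σ fun i => a (σ⁻¹ i) • v i).symm.trans (by simp)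
  have hinv : ∀ i, a (σ⁻¹ i) = a i := fun i => by
    have := hf.coeff_eq hrel i j
    rw [show σ⁻¹ j = j from (Equiv.Perm.inv_eq_iff_eq).2 hj.symm, sub_self, sub_eq_zero] at this
    exact this
  have hσ' : ∀ i, a (σ i) = a i := fun i => by simpa using (hinv (σ i)).symm
  have hpow : ∀ (n : ℕ) i, a ((σ ^ n) i) = a i := fun n => by
    induction n with
    | zero => simp
    | succ n ih => intro i; rw [pow_succ', Equiv.Perm.mul_apply, hσ', ih]
  obtain ⟨k, hk⟩ : (Finset.univ.erase j).Nonempty := Finset.card_pos.1 (by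
    rw [Finset.card_erase_of_mem (Finset.mem_univ j), Finset.card_univ, hf.card]; norm_num)
  have hconst : ∀ i, i ≠ j → a i = a k := fun i hi => by
    obtain ⟨n, hn⟩ := hcyc.exists_pow_eq (x := k) (y := i)
      (Equiv.Perm.mem_support.1 (hsupp ▸ hk)) (Equiv.Perm.mem_support.1 (hsupp ▸ Finset.mem_erase.2 ⟨hi, Finset.mem_univ i⟩))
    rw [← hn, hpow]
  refine ⟨j, a j - a k, hj, ?_⟩
  have e : ∑ i, a i • v i = ∑ i, (a i - a k) • v i := by
    simp only [sub_smul, Finset.sum_sub_distrib, ← Finset.smul_sum, hf.sum, smul_zero, sub_zero]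
  rw [e]
  exact Finset.sum_eq_single j (fun i _ hi => by rw [hconst i hi, sub_self, zero_smul]) (by simp)

end CfsgLib.Sp4Odd.Q
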