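import Cfsg.Agent.Lib.Sp4Odd.Q.Basic

/-!
The five-dimensional space of self-adjoint matrices of trace zero.
-/

set_option autoImplicit false
set_option linter.unusedSectionVars false
set_option maxHeartbeats 1000000

namespace CfsgLib.Sp4Odd.Q

open Matrix

variable {F : Type*} [Field F]

local notation "S4" => (Fin 2 ⊕ Fin 2)
local notation "M4" => Matrix (Fin 2 ⊕ Fin 2) (Fin 2 ⊕ Fin 2) F
local notation "V4" => (Fin 2 ⊕ Fin 2 → F)
local notation "G4" => Matrix.GeneralLinearGroup (Fin 2 ⊕ Fin 2) F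
local notation "o" => (Sum.inl 0 : Fin 2 ⊕ Fin 2)

/-- Self-adjoint matrices of trace zero. -/
def InW (A : M4) : Prop := adjS A = A ∧ A.trace = 0

/-- The space of these matrices. -/
def wSpace : Submodule F (Matrix (Fin 2 ⊕ Fin 2) (Fin 2 ⊕ Fin 2) F) where
  carrier := {A | InW A}
  add_mem' := fun {A B} hA hB =>
    ⟨by rw [adjS_add, hA.1, hB.1], by rw [Matrix.trace_add, hA.2, hB.2, add_zero]⟩
  zero_mem' := ⟨by simp [adjS], by simp⟩
  smul_mem' := fun c A hA => ⟨by rw [adjS_smul, hA.1], by rw [Matrix.trace_smul, hA.2, smul_zero]⟩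

/-- Coordinates. -/
def toW : (Fin 5 → F) →ₗ[F] Matrix (Fin 2 ⊕ Fin 2) (Fin 2 ⊕ Fin 2) F where
  toFun c := Matrix.fromBlocks !![c 0, c 1; c 2, -c 0] !![0, c 3; -c 3, 0] !![0, c 4; -c 4, 0]
    !![c 0, c 2; c 1, -c 0]
  map_add' a b := by
    rw [Matrix.fromBlocks_add]
    congr 1 <;> ext i j <;> fin_cases i <;> fin_cases j <;> simp [add_comm]
  map_smul' r a := by
    rw [RingHom.id_apply, Matrix.fromBlocks_smul]
    congr 1 <;> ext i j <;> fin_cases i <;> fin_cases j <;> simp

theorem toW_mem (c : Fin 5 → F) : InW (toW c) := by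
  refine ⟨?_, ?_⟩
  · ext (i | i) (j | j) <;> fin_cases i <;> fin_cases j <;>
      simp [toW, adjS, Matrix.J, Matrix.fromBlocks_transpose, Matrix.fromBlocks_multiply]
  · simp [toW, Matrix.trace, Matrix.diag, Fintype.sum_sum_type, Fin.sum_univ_two]

theorem eq_toW (h2 : (2 : F) ≠ 0) {A : M4} (hA : InW A) :
    A = toW ![A o o, A o (Sum.inl 1), A (Sum.inl 1) o, A o (Sum.inr 1), A (Sum.inr 0) (Sum.inl 1)] := by
  have he : ∀ i j, adjS A i j = A i j := fun i j => congrFun (congrFun hA.1 i) j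
  have h00 := he (Sum.inr 0) (Sum.inr 0)
  have h01 := he (Sum.inr 0) (Sum.inr 1)
  have h10 := he (Sum.inr 1) (Sum.inr 0)
  have h11 := he (Sum.inr 1) (Sum.inr 1)
  have k00 := he (Sum.inl 0) (Sum.inr 0)
  have k10 := he (Sum.inl 1) (Sum.inr 0)
  have k11 := he (Sum.inl 1) (Sum.inr 1)
  have l00 := he (Sum.inr 0) (Sum.inl 0)
  have l10 := he (Sum.inr 1) (Sum.inl 0)
  have l11 := he (Sum.inr 1) (Sum.inl 1)
  have ht := hA.2
  simp [adjS, Matrix.J, Matrix.mul_apply, Fintype.sum_sum_type, Fin.sum_univ_two, Matrix.one_apply,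
    Matrix.transpose_apply, Matrix.trace, Matrix.diag] at h00 h01 h10 h11 k00 k10 k11 l00 l10 l11 ht
  ext (i | i) (j | j) <;> fin_cases i <;> fin_cases j <;> simp [toW]
  all_goals first
    | linear_combination h00
    | linear_combination -h00
    | linear_combination h01
    | linear_combination -h01
    | linear_combination h10
    | linear_combination -h10
    | linear_combination h11
    | linear_combination -h11
    | linear_combination k10
    | linear_combination -k10
    | linear_combination l10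
    | linear_combination -l10
    | (refine (mul_right_inj' h2).1 ?_; linear_combination ht + h00 + h11)
    | (refine (mul_right_inj' h2).1 ?_; linear_combination ht - h00 - h11)
    | (refine (mul_right_inj' h2).1 ?_; linear_combination ht + h00 - h11)
    | (refine (mul_right_inj' h2).1 ?_; linear_combination ht - h00 + h11)
    | (refine (mul_right_inj' h2).1 ?_; linear_combination k00)
    | (refine (mul_right_inj' h2).1 ?_; linear_combination -k00)
    | (refine (mul_right_inj' h2).1 ?_; linear_combination k11)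
    | (refine (mul_right_inj' h2).1 ?_; linear_combination -k11)
    | (refine (mul_right_inj' h2).1 ?_; linear_combination l00)
    | (refine (mul_right_inj' h2).1 ?_; linear_combination -l00)
    | (refine (mul_right_inj' h2).1 ?_; linear_combination l11)
    | (refine (mul_right_inj' h2).1 ?_; linear_combination -l11)

theorem finrank_wSpace (h2 : (2 : F) ≠ 0) : Module.finrank F (wSpace (F := F)) ≤ 5 := by
  have hle : wSpace ≤ LinearMap.range (toW (F := F)) := fun A hA => ⟨_, (eq_toW h2 hA).symm⟩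
  exact (Submodule.finrank_mono hle).trans ((LinearMap.finrank_range_le _).trans (by simp))

/-- The quadratic value. -/
def qW (A : M4) : F := (A * A) o o

/-- The bilinear value. -/
def bW (A C : M4) : F := ((A * C + C * A) o o) / 2

theorem sq_eq (h2 : (2 : F) ≠ 0) {A : M4} (hA : InW A) : A * A = qW A • (1 : M4) := by
  rw [qW, eq_toW h2 hA]
  ext (i | i) (j | j) <;> fin_cases i <;> fin_cases j <;>
    simp [toW, Matrix.fromBlocks_multiply] <;> ring

theorem anti_eq (h2 : (2 : F) ≠ 0) {A C : M4} (hA : InW A) (hC : InW C) :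
    A * C + C * A = (2 * bW A C) • (1 : M4) := by
  have h := sq_eq h2 (wSpace.add_mem hA hC)
  rw [add_mul, mul_add, mul_add, sq_eq h2 hA, sq_eq h2 hC] at h
  have e : A * C + C * A = (qW (A + C) - qW A - qW C) • (1 : M4) := by
    rw [sub_smul, sub_smul, ← h]; abel
  rw [bW, e]
  simp [h2]
  field_simp

theorem bW_comm (A C : M4) : bW A C = bW C A := by rw [bW, bW, add_comm]

theorem bW_self (h2 : (2 : F) ≠ 0) (A : M4) : bW A A = qW A := by
  simp only [bW, qW, Matrix.add_apply]
  field_simp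
  ring

theorem bW_add (A C D : M4) : bW A (C + D) = bW A C + bW A D := by
  simp only [bW, mul_add, add_mul, Matrix.add_apply]; ring

theorem bW_smul (c : F) (A C : M4) : bW A (c • C) = c * bW A C := by
  simp only [bW, Matrix.mul_smul, Matrix.smul_mul, Matrix.add_apply, Matrix.smul_apply, smul_eq_mul]; ring

theorem bW_sub (A C D : M4) : bW A (C - D) = bW A C - bW A D := by
  simp only [bW, mul_sub, sub_mul, Matrix.add_apply, Matrix.sub_apply]; ring

theorem bW_zero (A : M4) : bW A 0 = 0 := by simp [bW]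

theorem bW_sum {κ : Type*} (s : Finset κ) (A : M4) (w : κ → M4) :
    bW A (∑ i ∈ s, w i) = ∑ i ∈ s, bW A (w i) := by
  classical
  induction s using Finset.induction_on with
  | empty => simp [bW_zero]
  | insert a s ha ih => rw [Finset.sum_insert ha, Finset.sum_insert ha, bW_add, ih]

/-- Conjugation. -/
def ad (g : G4) : M4 →ₗ[F] M4 where
  toFun A := g.1 * A * (g⁻¹).1
  map_add' A B := by rw [mul_add, add_mul]
  map_smul' c A := by rw [RingHom.id_apply, Matrix.mul_smul, Matrix.smul_mul]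

theorem ad_apply (g : G4) (A : M4) : ad g A = g.1 * A * (g⁻¹).1 := rfl

theorem ad_mul (g h : G4) (A : M4) : ad (g * h) A = ad g (ad h A) := by
  simp only [ad_apply, _root_.mul_inv_rev, Units.val_mul, mul_assoc]

theorem ad_one (A : M4) : ad (1 : G4) A = A := by simp [ad_apply]

theorem ad_neg (g : G4) (A : M4) : ad (-g) A = ad g A := by
  rw [ad_apply, ad_apply, inv_neg]
  simp

theorem ad_neg_one (A : M4) : ad (-1 : G4) A = A := by rw [ad_neg, ad_one]

theorem ad_mem {g : G4} (hg : g ∈ Cfsg.spGL 2 F) {A : M4} (hA : InW A) : InW (ad g A) := by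
  refine ⟨?_, ?_⟩
  · rw [ad_apply, adjS_mul, adjS_mul, hA.1, ← inv_eq_adjS hg, ← inv_eq_adjS (inv_mem hg), inv_inv, mul_assoc]
  · rw [ad_apply, Matrix.trace_mul_cycle, ← Units.val_mul, inv_mul_cancel, Units.val_one, one_mul, hA.2]

theorem ad_prod (g : G4) (A C : M4) : ad g A * ad g C = ad g (A * C) := by
  simp only [ad_apply, mul_assoc]
  rw [← mul_assoc (g⁻¹).1 g.1, ← Units.val_mul, inv_mul_cancel, Units.val_one, one_mul]

theorem ad_scalar (g : G4) (c : F) : ad g (c • (1 : M4)) = c • 1 := by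
  rw [map_smul, ad_apply, mul_one, ← Units.val_mul, mul_inv_cancel, Units.val_one]

theorem bW_ad (h2 : (2 : F) ≠ 0) (g : G4) {A C : M4} (hA : InW A) (hC : InW C) :
    bW (ad g A) (ad g C) = bW A C := by
  rw [bW, ad_prod, ad_prod, ← map_add, anti_eq h2 hA hC, ad_scalar]
  simp [h2]

theorem ad_eq_iff {g : G4} {A : M4} : ad g A = A ↔ g.1 * A = A * g.1 := by
  rw [ad_apply]
  constructor
  · intro h
    calc g.1 * A = g.1 * A * (g⁻¹).1 * g.1 := by
          rw [mul_assoc _ (g⁻¹).1, ← Units.val_mul, inv_mul_cancel, Units.val_one, mul_one]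
      _ = _ := by rw [h]
  · intro h
    rw [h, mul_assoc, ← Units.val_mul, mul_inv_cancel, Units.val_one, mul_one]

/-- A matrix commuting with all of the space is scalar. -/
theorem scalar_of_comm (h2 : (2 : F) ≠ 0) {M : M4} (h : ∀ A, InW A → M * A = A * M) :
    M = M o o • (1 : M4) := by
  have e := fun k : Fin 5 => h _ (toW_mem (F := F) (Pi.single k 1))
  have f := fun k i j => congrFun (congrFun (e k) i) j
  have a1 := f 0; have a2 := f 1; have a3 := f 2; have a4 := f 3; have a5 := f 4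
  simp [toW, Matrix.mul_apply, Fintype.sum_sum_type, Fin.sum_univ_two, Pi.single_apply, Fin.forall_fin_succ,
    Sum.forall] at a1 a2 a3 a4 a5
  ext (i | i) (j | j) <;> fin_cases i <;> fin_cases j <;> simp [Matrix.one_apply]
  all_goals grind

/-- Transposing a rank two matrix built from two vectors. -/
def tMat (a b : V4) : M4 :=
  Matrix.vecMulVec a (Matrix.J (Fin 2) F *ᵥ b) - Matrix.vecMulVec b (Matrix.J (Fin 2) F *ᵥ a)

theorem tMat_mulVec (a b x : V4) :
    tMat a b *ᵥ x = Cfsg.sympForm 2 F x b • a - Cfsg.sympForm 2 F x a • b := by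
  rw [tMat, Matrix.sub_mulVec, Matrix.vecMulVec_mulVec, Matrix.vecMulVec_mulVec, op_smul_eq_smul, op_smul_eq_smul]
  simp only [Cfsg.sympForm, dotProduct_comm x]

theorem form_antisymm (a b : V4) : Cfsg.sympForm 2 F a b = -Cfsg.sympForm 2 F b a := by
  simp only [Cfsg.sympForm]
  rw [Matrix.dotProduct_mulVec, ← Matrix.mulVec_transpose, Matrix.J_transpose, Matrix.neg_mulVec,
    neg_dotProduct, dotProduct_comm]

theorem form_smul (a b : V4) (c : F) : Cfsg.sympForm 2 F a (c • b) = c * Cfsg.sympForm 2 F a b := by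
  simp [Cfsg.sympForm, Matrix.mulVec_smul]

theorem form_add (a b b' : V4) :
    Cfsg.sympForm 2 F a (b + b') = Cfsg.sympForm 2 F a b + Cfsg.sympForm 2 F a b' := by
  simp [Cfsg.sympForm, Matrix.mulVec_add]

theorem form_self (h2 : (2 : F) ≠ 0) (a : V4) : Cfsg.sympForm 2 F a a = 0 := by
  refine (mul_right_inj' h2).1 ?_
  linear_combination form_antisymm a a

theorem form_adjS (M : M4) (a b : V4) :
    Cfsg.sympForm 2 F (M *ᵥ a) b = Cfsg.sympForm 2 F a (adjS M *ᵥ b) := by
  simp only [Cfsg.sympForm]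
  rw [dotProduct_comm, Matrix.dotProduct_mulVec, ← Matrix.mulVec_transpose, Matrix.mulVec_mulVec, dotProduct_comm,
    Matrix.mulVec_mulVec]
  congr 2
  rw [adjS, mul_neg, ← mul_assoc, ← mul_assoc, J_mul_J, neg_mul, neg_mul, one_mul, neg_neg]

theorem tMat_adjS (a b : V4) : adjS (tMat a b) = tMat a b := by
  simp only [tMat, adjS, Matrix.transpose_sub, Matrix.transpose_vecMulVec, mul_sub, sub_mul,
    Matrix.mul_vecMulVec, Matrix.vecMulVec_mul]
  have e : ∀ v : V4, v ᵥ* Matrix.J (Fin 2) F = -(Matrix.J (Fin 2) F *ᵥ v) := fun v => by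
    rw [← Matrix.mulVec_transpose, Matrix.J_transpose, Matrix.neg_mulVec]
  rw [e, e, Matrix.mulVec_mulVec, Matrix.mulVec_mulVec, J_mul_J]
  ext i j
  simp [Matrix.vecMulVec_apply, Matrix.neg_mulVec]
  try ring

theorem trace_tMat (a b : V4) : (tMat a b).trace = 2 * Cfsg.sympForm 2 F a b := by
  rw [tMat, Matrix.trace_sub, Matrix.trace_vecMulVec, Matrix.trace_vecMulVec]
  show Cfsg.sympForm 2 F a b - Cfsg.sympForm 2 F b a = _
  rw [form_antisymm b a]; ring

/-- The members commuting with a given matrix. -/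
def commW (s : M4) : Submodule F (Matrix (Fin 2 ⊕ Fin 2) (Fin 2 ⊕ Fin 2) F) where
  carrier := {A | InW A ∧ s * A = A * s}
  add_mem' := fun {A B} hA hB => ⟨wSpace.add_mem hA.1 hB.1, by rw [mul_add, add_mul, hA.2, hB.2]⟩
  zero_mem' := ⟨wSpace.zero_mem, by simp⟩
  smul_mem' := fun c A hA => ⟨wSpace.smul_mem c hA.1, by rw [Matrix.mul_smul, Matrix.smul_mul, hA.2]⟩

/-- A skew matrix with non-zero scalar square commutes with three dimensions of the space. -/
theorem three_le_commW (h2 : (2 : F) ≠ 0) {s : M4} {k : F} (hs : adjS s = -s) (hk : s * s = k • (1 : M4))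
    (hk0 : k ≠ 0) : 3 ≤ Module.finrank F (commW s) := by
  have hss : ∀ x : V4, s *ᵥ (s *ᵥ x) = k • x := fun x => by
    rw [Matrix.mulVec_mulVec, hk, Matrix.smul_mulVec, Matrix.one_mulVec]
  have hskew : ∀ a b : V4, Cfsg.sympForm 2 F (s *ᵥ a) b = -Cfsg.sympForm 2 F a (s *ᵥ b) := fun a b => by
    rw [form_adjS, hs, Matrix.neg_mulVec, show -(s *ᵥ b) = (-1 : F) • (s *ᵥ b) by simp, form_smul]; ring
  set B : V4 → V4 → F := fun x y => Cfsg.sympForm 2 F x (s *ᵥ y) with hB
  have Bsymm : ∀ x y, B x y = B y x := fun x y => by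
    simp only [hB]; rw [form_antisymm y (s *ᵥ x), hskew]; ring
  have Bs : ∀ x, B (s *ᵥ x) x = 0 := fun x => by
    simp only [hB]; rw [hskew, hss, form_smul, form_self h2, mul_zero, neg_zero]
  have Badd : ∀ x y z, B x (y + z) = B x y + B x z := fun x y z => by
    simp only [hB]; rw [Matrix.mulVec_add, form_add]
  have Bnd : ∀ x, (∀ y, B x y = 0) → x = 0 := fun x hx => by
    have h1 : ∀ y, Cfsg.sympForm 2 F x y = 0 := fun y => by
      have := hx (k⁻¹ • (s *ᵥ y))
      simp only [hB] at this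
      rwa [Matrix.mulVec_smul, hss, smul_smul, inv_mul_cancel₀ hk0, one_smul] at this
    funext i
    have := h1 (-(Matrix.J (Fin 2) F *ᵥ Pi.single i 1))
    simp only [Cfsg.sympForm] at this
    rw [Matrix.mulVec_neg, Matrix.mulVec_mulVec, J_mul_J, Matrix.neg_mulVec, neg_neg, Matrix.one_mulVec,
      dotProduct_single, mul_one] at this
    exact this
  obtain ⟨u, hu⟩ : ∃ u, B u u ≠ 0 := by
    by_contra h
    push Not at h
    have hall : ∀ x y, B x y = 0 := fun x y => by
      have h1 := h (x + y)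
      rw [Badd, Bsymm (x + y) x, Bsymm (x + y) y, Badd, Badd, h, h, zero_add, add_zero, Bsymm y x, ← two_mul] at h1
      exact (mul_eq_zero.1 h1).resolve_left h2
    have := Bnd (Pi.single o 1) (hall _)
    simpa using congrFun this o
  set h := B u u with hh
  have fus : Cfsg.sympForm 2 F u (s *ᵥ u) = h := rfl
  set π : M4 := h⁻¹ • tMat u (s *ᵥ u) with hπ
  have hπu : π *ᵥ u = u := by
    rw [hπ, Matrix.smul_mulVec, tMat_mulVec, fus, form_self h2, zero_smul, sub_zero, smul_smul, inv_mul_cancel₀ hu,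
      one_smul]
  have hπsu : π *ᵥ (s *ᵥ u) = s *ᵥ u := by
    rw [hπ, Matrix.smul_mulVec, tMat_mulVec, form_self h2, zero_smul, zero_sub, form_antisymm, fus, neg_smul, neg_neg,
      smul_smul, inv_mul_cancel₀ hu, one_smul]
  have hcomm : s * π = π * s := by
    refine Matrix.toLin'.injective (LinearMap.ext fun x => ?_)
    simp only [Matrix.toLin'_apply, ← Matrix.mulVec_mulVec]
    rw [hπ, Matrix.smul_mulVec, Matrix.smul_mulVec, tMat_mulVec, tMat_mulVec, Matrix.mulVec_smul, Matrix.mulVec_sub,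
      Matrix.mulVec_smul, Matrix.mulVec_smul, hss, hskew x (s *ᵥ u), hskew x u, hss, form_smul]
    module
  -- a vector orthogonal to both
  set L : V4 → Prop := fun x => Cfsg.sympForm 2 F x u = 0 ∧ Cfsg.sympForm 2 F x (s *ᵥ u) = 0 with hL
  have hfix : ∀ x, L x → π *ᵥ x = 0 := fun x hx => by
    rw [hπ, Matrix.smul_mulVec, tMat_mulVec, hx.1, hx.2]; simp
  have hker : ∀ x, L (x - π *ᵥ x) := fun x => by
    have ha : adjS π = π := by rw [hπ, adjS_smul, tMat_adjS]
    have e : ∀ y, π *ᵥ y = y → Cfsg.sympForm 2 F (x - π *ᵥ x) y = 0 := fun y hy => by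
      rw [form_antisymm, sub_eq_add_neg, form_add, show -(π *ᵥ x) = (-1 : F) • (π *ᵥ x) by simp, form_smul]
      have : Cfsg.sympForm 2 F y (π *ᵥ x) = Cfsg.sympForm 2 F y x := by
        conv_rhs => rw [← hy, form_adjS, ha]
      rw [this]; ring
    exact ⟨e _ hπu, e _ hπsu⟩
  obtain ⟨v, hvL, hv⟩ : ∃ v, L v ∧ B v v ≠ 0 := by
    by_contra hne
    push Not at hne
    have hadd : ∀ x y, L x → L y → L (x + y) := fun x y hx hy => by
      refine ⟨?_, ?_⟩
      · rw [form_antisymm, form_add, form_antisymm u x, form_antisymm u y, hx.1, hy.1]; simp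
      · rw [form_antisymm, form_add, form_antisymm _ x, form_antisymm _ y, hx.2, hy.2]; simp
    have hortho : ∀ x y, L x → L y → B x y = 0 := fun x y hx hy => by
      have h1 := hne (x + y) (hadd x y hx hy)
      rw [Badd, Bsymm (x + y) x, Bsymm (x + y) y, Badd, Badd, hne x hx, hne y hy, zero_add, add_zero, Bsymm y x,
        ← two_mul] at h1
      exact (mul_eq_zero.1 h1).resolve_left h2
    have hzero : ∀ x, L x → x = 0 := fun x hx => Bnd x fun y => by
      have e : y = (y - π *ᵥ y) + π *ᵥ y := by abel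
      rw [e, Badd, hortho x _ hx (hker y), zero_add]
      have hpy : π *ᵥ y = (h⁻¹ * Cfsg.sympForm 2 F y (s *ᵥ u)) • u
          + (-(h⁻¹ * Cfsg.sympForm 2 F y u)) • (s *ᵥ u) := by
        rw [hπ, Matrix.smul_mulVec, tMat_mulVec]; module
      simp only [hB]
      rw [hpy, Matrix.mulVec_add, Matrix.mulVec_smul, Matrix.mulVec_smul, hss, form_add, form_smul, form_smul,
        form_smul, hx.1, hx.2]
      ring
    have hπ1 : π = 1 := by
      refine Matrix.toLin'.injective (LinearMap.ext fun x => ?_)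
      simpa [Matrix.one_mulVec] using (sub_eq_zero.1 (hzero _ (hker x))).symm
    have := congrArg Matrix.trace hπ1
    rw [hπ, Matrix.trace_smul, trace_tMat, fus, Matrix.trace_one, smul_eq_mul, mul_comm 2 h, inv_mul_cancel_left₀ hu,
      Fintype.card_sum, Fintype.card_fin] at this
    exact h2 (by push_cast at this; linear_combination -this)
  have hvs : Cfsg.sympForm 2 F (s *ᵥ v) u = 0 ∧ Cfsg.sympForm 2 F (s *ᵥ v) (s *ᵥ u) = 0 := by
    refine ⟨by rw [hskew, hvL.2, neg_zero], ?_⟩
    rw [hskew, hss, form_smul, hvL.1, mul_zero, neg_zero]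
  let Φ : M4 → M4 := fun T => T + k⁻¹ • (s * T * s)
  have hΦ : ∀ T, adjS T = T → T.trace = 0 → Φ T ∈ commW s := fun T hT htT => by
    refine ⟨⟨?_, ?_⟩, ?_⟩
    · simp only [Φ, adjS_add, adjS_smul, adjS_mul, hT, hs, neg_mul, mul_neg, neg_neg, mul_assoc]
    · simp only [Φ]
      rw [Matrix.trace_add, Matrix.trace_smul, Matrix.trace_mul_cycle, hk, Matrix.smul_mul, one_mul,
        Matrix.trace_smul, htT, smul_zero, smul_zero, add_zero]
    · simp only [Φ, mul_add, add_mul, Matrix.mul_smul, Matrix.smul_mul]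
      rw [show s * (s * T * s) = (s * s) * T * s by simp only [mul_assoc],
        show s * T * s * s = s * T * (s * s) by simp only [mul_assoc], hk]
      simp only [Matrix.smul_mul, Matrix.mul_smul, one_mul, mul_one, smul_smul, inv_mul_cancel₀ hk0, one_smul]
      abel
  set A1 : M4 := (2 : F) • π - 1 with hA1d
  have hA1 : A1 ∈ commW s := by
    refine ⟨⟨?_, ?_⟩, ?_⟩
    · rw [hA1d, adjS_sub, adjS_smul, adjS_one, hπ, adjS_smul, tMat_adjS]
    · rw [hA1d, Matrix.trace_sub, Matrix.trace_smul, hπ, Matrix.trace_smul, trace_tMat, fus, Matrix.trace_one,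
        Fintype.card_sum, Fintype.card_fin]
      simp only [smul_eq_mul]
      rw [mul_comm 2 h, inv_mul_cancel_left₀ hu]
      push_cast; ring
    · rw [hA1d, mul_sub, sub_mul, Matrix.mul_smul, Matrix.smul_mul, hcomm, mul_one, one_mul]
  have hT : ∀ w, L w → Φ (tMat u w) ∈ commW s ∧ Φ (tMat u w) *ᵥ u = (h / k) • (s *ᵥ w) := fun w hw => by
    have hfuw : Cfsg.sympForm 2 F u w = 0 := by rw [form_antisymm, hw.1, neg_zero]
    refine ⟨hΦ _ (tMat_adjS _ _) (by rw [trace_tMat, hfuw, mul_zero]), ?_⟩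
    simp only [Φ, Matrix.add_mulVec, Matrix.smul_mulVec, ← Matrix.mulVec_mulVec, tMat_mulVec, form_self h2, hfuw,
      zero_smul, sub_zero, Matrix.mulVec_sub, Matrix.mulVec_smul]
    rw [form_antisymm (s *ᵥ u) w, hw.2, neg_zero, zero_smul, zero_sub, form_antisymm (s *ᵥ u) u, fus, neg_smul,
      neg_neg, smul_smul, zero_add, div_eq_inv_mul]
  obtain ⟨m2, e2⟩ := hT v hvL
  obtain ⟨m3, e3⟩ := hT (s *ᵥ v) hvs
  rw [hss, smul_smul, div_mul_cancel₀ _ hk0] at e3
  let w : Fin 3 → commW s := ![⟨A1, hA1⟩, ⟨_, m2⟩, ⟨_, m3⟩]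
  have hli : LinearIndependent F w := by
    rw [Fintype.linearIndependent_iff]
    intro g hg
    have hg' : g 0 • A1 + g 1 • Φ (tMat u v) + g 2 • Φ (tMat u (s *ᵥ v)) = 0 := by
      simpa [w, Fin.sum_univ_three] using congrArg Subtype.val hg
    have hx := congrArg (fun M : M4 => M *ᵥ u) hg'
    simp only [Matrix.add_mulVec, Matrix.smul_mulVec, e2, e3, Matrix.zero_mulVec, hA1d, Matrix.sub_mulVec, hπu,
      Matrix.one_mulVec] at hx
    have key : ∀ z, Cfsg.sympForm 2 F z u * g 0 + (h / k) * g 1 * Cfsg.sympForm 2 F z (s *ᵥ v)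
        + h * g 2 * Cfsg.sympForm 2 F z v = 0 := fun z => by
      have := congrArg (fun y => Cfsg.sympForm 2 F z y) hx
      simp only [smul_sub, smul_smul, sub_eq_add_neg, form_add, form_smul,
        show ∀ y : V4, -y = (-1 : F) • y from fun y => by simp] at this
      rw [show Cfsg.sympForm 2 F z 0 = 0 by simp [Cfsg.sympForm]] at this
      linear_combination this
    have k1 := key (s *ᵥ u)
    rw [form_antisymm (s *ᵥ u) u, fus, form_antisymm (s *ᵥ u) (s *ᵥ v), hvs.2, form_antisymm (s *ᵥ u) v, hvL.2] at k1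
    have k2 := key v
    rw [hvL.1, form_self h2, show Cfsg.sympForm 2 F v (s *ᵥ v) = B v v from rfl] at k2
    have k3 := key (s *ᵥ v)
    rw [hvs.1, form_self h2, hskew v v, show Cfsg.sympForm 2 F v (s *ᵥ v) = B v v from rfl] at k3
    intro i
    fin_cases i
    · exact (mul_eq_zero.1 (show h * g 0 = 0 by linear_combination -k1)).resolve_left hu
    · have hne : h / k * B v v ≠ 0 := mul_ne_zero (div_ne_zero hu hk0) hv
      exact (mul_eq_zero.1 (show h / k * B v v * g 1 = 0 by linear_combination k2)).resolve_left hne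
    · exact (mul_eq_zero.1 (show h * B v v * g 2 = 0 by linear_combination -k3)).resolve_left (mul_ne_zero hu hv)
  simpa using hli.fintype_card_le_finrank

theorem commW_le (s : M4) : commW s ≤ wSpace := fun _ h => h.1

/-- Two such subspaces meet. -/
theorem exists_common (h2 : (2 : F) ≠ 0) {s t : M4} (hs : 3 ≤ Module.finrank F (commW s))
    (ht : 3 ≤ Module.finrank F (commW t)) : ∃ A, InW A ∧ A ≠ 0 ∧ s * A = A * s ∧ t * A = A * t := by
  have h := Submodule.finrank_sup_add_finrank_inf_eq (commW s) (commW t)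
  have hle := (Submodule.finrank_mono (sup_le (commW_le s) (commW_le t))).trans (finrank_wSpace h2)
  have hpos : 0 < Module.finrank F (commW s ⊓ commW t : Submodule F _) := by omega
  haveI := Module.nontrivial_of_finrank_pos hpos
  obtain ⟨⟨A, hA⟩, hA0⟩ := exists_ne (0 : (commW s ⊓ commW t : Submodule F _))
  exact ⟨A, hA.1.1, fun e => hA0 (Subtype.ext e), hA.1.2, hA.2.2⟩

/-- A common eigenvector for the value zero of anticommuting square zero matrices. -/
theorem exists_common_kernel {κ : Type*} (s : Finset κ) (A : κ → M4) (h : ∀ i, A i * A i = 0)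
    (hanti : ∀ i j, A i * A j = -(A j * A i)) : ∃ v : V4, v ≠ 0 ∧ ∀ i ∈ s, A i *ᵥ v = 0 := by
  classical
  induction s using Finset.induction_on with
  | empty => exact ⟨Pi.single o 1, fun e => by simpa using congrFun e o, by simp⟩
  | insert a s ha ih =>
    obtain ⟨v, hv, hs⟩ := ih
    by_cases hav : A a *ᵥ v = 0
    · exact ⟨v, hv, by simpa [hav] using hs⟩
    · refine ⟨A a *ᵥ v, hav, fun i hi => ?_⟩
      rw [Matrix.mulVec_mulVec]
      rcases Finset.mem_insert.1 hi with rfl | hi
      · rw [h, Matrix.zero_mulVec]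
      · rw [hanti, Matrix.neg_mulVec, ← Matrix.mulVec_mulVec, hs i hi, Matrix.mulVec_zero, neg_zero]

/-- Conjugation by the product of two members of the space. -/
theorem mul_conj (h2 : (2 : F) ≠ 0) {A C : M4} (hA : InW A) (hC : InW C) :
    A * C * A = (2 * bW A C) • A - qW A • C := by
  have h := anti_eq h2 hA hC
  calc A * C * A = (A * C + C * A) * A - C * (A * A) := by rw [add_mul, mul_assoc C A A]; abel
    _ = _ := by rw [h, sq_eq h2 hA, Matrix.smul_mul, one_mul, Matrix.mul_smul, mul_one]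

/-- The symplectic element given by a product of two members of the space. -/
theorem exists_pair (h2 : (2 : F) ≠ 0) {a b : M4} (ha : InW a) (hb : InW b) (hab : qW a = qW b) (hq : qW a ≠ 0) :
    ∃ g : G4, g ∈ Cfsg.spGL 2 F ∧ g.1 = (qW a)⁻¹ • (a * b) ∧ ∀ C, InW C → ad g C =
      C - (2 * bW b C / qW b) • b - (2 * bW a (C - (2 * bW b C / qW b) • b) / qW a) • a := by
  have e1 : (qW a)⁻¹ • (a * b) * ((qW a)⁻¹ • (b * a)) = 1 := by
    rw [smul_mul_smul_comm, show a * b * (b * a) = a * (b * b) * a by simp only [mul_assoc], sq_eq h2 hb]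
    rw [Matrix.mul_smul, mul_one, Matrix.smul_mul, sq_eq h2 ha, smul_smul, smul_smul, ← hab]
    rw [show (qW a)⁻¹ * (qW a)⁻¹ * qW a * qW a = 1 by field_simp, one_smul]
  have e2 : (qW a)⁻¹ • (b * a) * ((qW a)⁻¹ • (a * b)) = 1 := by
    rw [smul_mul_smul_comm, show b * a * (a * b) = b * (a * a) * b by simp only [mul_assoc], sq_eq h2 ha]
    rw [Matrix.mul_smul, mul_one, Matrix.smul_mul, sq_eq h2 hb, smul_smul, smul_smul, ← hab]
    rw [show (qW a)⁻¹ * (qW a)⁻¹ * qW a * qW a = 1 by field_simp, one_smul]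
  refine ⟨⟨_, _, e1, e2⟩, mem_spGL_of_adjS ?_, rfl, fun C hC => ?_⟩
  · show adjS ((qW a)⁻¹ • (a * b)) * _ = 1
    rw [adjS_smul, adjS_mul, ha.1, hb.1]; exact e2
  · show (qW a)⁻¹ • (a * b) * C * ((qW a)⁻¹ • (b * a)) = _
    rw [Matrix.smul_mul, smul_mul_smul_comm,
      show a * b * C * (b * a) = a * (b * C * b) * a by simp only [mul_assoc], mul_conj h2 hb hC]
    have hb' : b ∈ wSpace := hb
    have hC' : C ∈ wSpace := hC
    have hD : InW ((2 * bW b C) • b - qW b • C) := show (2 * bW b C) • b - qW b • C ∈ wSpace from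
      Submodule.sub_mem _ (Submodule.smul_mem _ _ hb') (Submodule.smul_mem _ _ hC')
    rw [mul_conj h2 ha hD, bW_sub, bW_smul, bW_smul, bW_sub, bW_smul, ← hab]
    match_scalars <;> field_simp <;> ring

end CfsgLib.Sp4Odd.Q
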