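import Cfsg.Agent.Lib.Sp4Odd.Q.Siegel

/-!
The defining characteristic: the representation is the symmetric cube.
-/

set_option autoImplicit false
set_option linter.unusedSectionVars false
set_option maxHeartbeats 1000000

namespace CfsgLib.Sp4Odd.Q

open Matrix Module

variable {F : Type*} [Field F]

local notation "M4" => Matrix (Fin 2 ⊕ Fin 2) (Fin 2 ⊕ Fin 2) F
local notation "V4" => (Fin 2 ⊕ Fin 2 → F)
local notation "fs" => Cfsg.sympForm 2 F

theorem perp_le_perp {a b z : V4} (hz : fs z a ≠ 0) (h : ∀ v, fs v a = 0 → fs v b = 0) :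
    b = (fs z b / fs z a) • a := by
  rw [← sub_eq_zero]
  refine form_nondeg' fun y => ?_
  have hy := h (y - (fs y a / fs z a) • z) (by rw [form_sub_left, form_smul_left]; field_simp; ring)
  rw [form_sub_left, form_smul_left] at hy
  rw [form_sub, form_smul]
  field_simp at hy ⊢
  linear_combination hy

section

variable {K : Type} [Field K] [Fintype K]

theorem exists_pyth (h2 : (2 : K) ≠ 0) (h5 : 5 < Fintype.card K) :
    ∃ x y : K, x ≠ 0 ∧ y ≠ 0 ∧ x * x + 1 = y * y := by
  classical
  obtain ⟨u, -, hu⟩ := Finset.exists_mem_notMem_of_card_lt_card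
    (s := insert (0 : K) (Polynomial.nthRoots 4 (1 : K)).toFinset) (t := Finset.univ) (by
      rw [Finset.card_univ]
      have := Finset.card_insert_le (0 : K) (Polynomial.nthRoots 4 (1 : K)).toFinset
      have := (Polynomial.nthRoots 4 (1 : K)).toFinset_card_le
      have := Polynomial.card_nthRoots 4 (1 : K)
      omega)
  simp only [Finset.mem_insert, Multiset.mem_toFinset, Polynomial.mem_nthRoots (show 0 < 4 by norm_num), not_or] at hu
  obtain ⟨hu0, hu4⟩ := hu
  refine ⟨(u - u⁻¹) / 2, (u + u⁻¹) / 2, fun e => hu4 ?_, fun e => hu4 ?_, ?_⟩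
  · field_simp at e
    linear_combination (u ^ 2 + 1) * e
  · field_simp at e
    linear_combination (u ^ 2 - 1) * e
  · have h4 : (4 : K) ≠ 0 := fun e => h2 (mul_self_eq_zero.1 (by linear_combination e))
    field_simp
    ring

/-- An additive map with incompatible multipliers on squares vanishes. -/
theorem additive_zero (g : K → F) (hadd : ∀ x y, g (x + y) = g x + g y) (χ : K → F) {x y : K} (hx : x ≠ 0)
    (hy : y ≠ 0) (hxy : x * x + 1 = y * y) (hne : χ (x * x) + 1 ≠ χ (y * y))
    (h : ∀ u, u ≠ 0 → ∀ z, g (u * u * z) = χ (u * u) * g z) (z : K) : g z = 0 := by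
  have e := h y hy z
  rw [← hxy, add_mul, one_mul, hadd, h x hx z] at e
  rw [hxy] at e
  have : (χ (x * x) + 1 - χ (y * y)) * g z = 0 := by linear_combination e
  exact (mul_eq_zero.1 this).resolve_left (sub_ne_zero.2 hne)

end

variable {K : Type} [Field K] {P : Subgroup (Matrix.GeneralLinearGroup (Fin 2 ⊕ Fin 2) F)}

/-- The symmetric cube shape. -/
structure Cube (R : Rep K P) where
  B : Module.Basis (Fin 4) F (Fin 2 ⊕ Fin 2 → F)
  φ : K →+* F
  e0 : ∀ x, R.mx (eU x) *ᵥ B 0 = B 0
  e1 : ∀ x, R.mx (eU x) *ᵥ B 1 = B 1 + φ x • B 0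
  e2 : ∀ x, R.mx (eU x) *ᵥ B 2 = B 2 + (2 * φ x) • B 1 + (φ x ^ 2) • B 0
  e3 : ∀ x, R.mx (eU x) *ᵥ B 3 = B 3 + (3 * φ x) • B 2 + (3 * φ x ^ 2) • B 1 + (φ x ^ 3) • B 0
  w0 : R.mx wU *ᵥ B 0 = -B 3
  w1 : R.mx wU *ᵥ B 1 = B 2
  w2 : R.mx wU *ᵥ B 2 = -B 1
  w3 : R.mx wU *ᵥ B 3 = B 0
  f01 : Cfsg.sympForm 2 F (B 0) (B 1) = 0
  f02 : Cfsg.sympForm 2 F (B 0) (B 2) = 0
  f13 : Cfsg.sympForm 2 F (B 1) (B 3) = 0
  f23 : Cfsg.sympForm 2 F (B 2) (B 3) = 0
  f03 : Cfsg.sympForm 2 F (B 0) (B 3) = -3 * Cfsg.sympForm 2 F (B 1) (B 2)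
  f12 : Cfsg.sympForm 2 F (B 1) (B 2) ≠ 0
  three : (3 : F) ≠ 0

theorem exists_cube [Finite F] [Fintype K] (R : Rep K P) (hP : Core P) (p : ℕ) [Fact p.Prime] [CharP F p] [CharP K p]
    (h5 : 5 < Fintype.card K) : Nonempty (Cube R) := by
  classical
  have h2 := hP.two
  have hp2 : p ≠ 2 := fun e => h2 (by subst e; exact_mod_cast CharP.cast_eq_zero F 2)
  have h2K : (2 : K) ≠ 0 := fun e => hp2 ((Nat.prime_dvd_prime_iff_eq Fact.out Nat.prime_two).1
    ((CharP.cast_eq_zero_iff K p 2).1 (by exact_mod_cast e)))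
  have hdiff : ∀ z : K, ∃ u v : K, z = u * u - v * v := fun z => by
    refine ⟨(z + 1) / 2, (z - 1) / 2, ?_⟩
    field_simp
    ring
  obtain ⟨x₀, y₀, hx₀, hy₀, hxy⟩ := exists_pyth h2K h5
  -- the fixed line and its orthogonal
  obtain ⟨a, ha, ha0⟩ := R.exists_fixed p
  have haE : ∀ x, R.mx (eU x) *ᵥ a = a := ha
  have hfix : ∀ v ∈ R.fixed, ∃ r : F, v = r • a := fun v hv => by
    have h1 := R.finrank_fixed hP h2K p
    obtain ⟨r, hr⟩ := (finrank_eq_one_iff_of_nonzero' (⟨a, ha⟩ : R.fixed) (fun e => ha0 (congrArg Subtype.val e))).1 h1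
      ⟨v, hv⟩
    exact ⟨r, (congrArg Subtype.val hr).symm⟩
  have hform : ∀ m u v, fs (R.mx m *ᵥ u) (R.mx m *ᵥ v) = fs u v := R.form hP
  have hea : ∀ x z, fs (R.mx (eU x) *ᵥ z) a = fs z a := fun x z => by
    conv_lhs => rw [← haE x]
    exact hform _ z a
  have haa : fs a a = 0 := form_self h2 a
  have hadd : ∀ x y v, R.mx (eU (x + y)) *ᵥ v = R.mx (eU x) *ᵥ (R.mx (eU y) *ᵥ v) := fun x y v => by
    rw [← R.mx_apply, eU_mul]
  obtain ⟨z₄, hz₄⟩ : ∃ z, fs z a ≠ 0 := by
    by_contra! h
    exact ha0 (form_nondeg' h)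
  -- not all of the orthogonal is moved along the line
  have hψ : ¬ ∀ x, ∀ v, fs v a = 0 → ∃ r : F, R.mx (eU x) *ᵥ v = v + r • a := by
    intro hall
    set u : K → V4 := fun x => R.mx (eU x) *ᵥ z₄ - z₄ with hu
    have hua : ∀ x, fs (u x) a = 0 := fun x => by rw [hu, form_sub_left, hea, sub_self]
    have hE4 : ∀ x, R.mx (eU x) *ᵥ z₄ = z₄ + u x := fun x => by simp [hu]
    have hval : ∀ x v, fs v a = 0 → R.mx (eU x) *ᵥ v = v + (fs v (u x) / fs z₄ a) • a := fun x v hv => by
      obtain ⟨r, hr⟩ := hall x v hv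
      rw [hr]
      have e := hform (eU x) v z₄
      rw [hr, hE4, form_add_left, form_smul_left, form_add, form_add, form_antisymm a (u x), hua, neg_zero, add_zero,
        form_antisymm a z₄] at e
      have hr' : fs v (u x) = r * fs z₄ a := by linear_combination e
      rw [hr', mul_div_cancel_right₀ _ hz₄]
    have hcomm : ∀ x y, fs (u x) (u y) = 0 := fun x y => by
      have e1 := hadd x y z₄
      have e2 := hadd y x z₄
      rw [hE4 y, Matrix.mulVec_add, hval x (u y) (hua y), hE4 x] at e1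
      rw [hE4 x, Matrix.mulVec_add, hval y (u x) (hua x), hE4 y, add_comm y x, e1] at e2
      have e3 : (fs (u y) (u x) / fs z₄ a) • a = (fs (u x) (u y) / fs z₄ a) • a := by
        linear_combination (norm := module) e2
      have e4 := smul_left_injective F ha0 e3
      rw [div_left_inj' hz₄, form_antisymm (u y) (u x)] at e4
      exact (mul_eq_zero.1 (show (2 : F) * fs (u x) (u y) = 0 by linear_combination -e4)).resolve_left h2
    obtain ⟨v, hva, hvA, hvu⟩ : ∃ v, fs v a = 0 ∧ (∀ r : F, v ≠ r • a) ∧ ∀ x, fs v (u x) = 0 := by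
      by_cases hall' : ∀ x, ∃ r : F, u x = r • a
      · obtain ⟨⟨v, hv⟩, hv'⟩ : ∃ v : perp a, v ∉ Submodule.span F {(⟨a, haa⟩ : perp a)} := by
          by_contra! h
          have := finrank_le_one (⟨a, haa⟩ : perp a) fun w => by
            obtain ⟨r, hr⟩ := Submodule.mem_span_singleton.1 (h w)
            exact ⟨r, hr⟩
          rw [finrank_perp ha0] at this
          omega
        refine ⟨v, hv, fun r e => hv' (Submodule.mem_span_singleton.2 ⟨r, Subtype.ext e.symm⟩), fun x => ?_⟩
        obtain ⟨r, hr⟩ := hall' x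
        rw [hr, form_smul, show fs v a = 0 from hv, mul_zero]
      · push Not at hall'
        obtain ⟨x, hx⟩ := hall'
        exact ⟨u x, hua x, hx, fun y => hcomm x y⟩
    obtain ⟨r, hr⟩ := hfix v (fun x => by rw [hval x v hva, hvu x, zero_div, zero_smul, add_zero])
    exact hvA r hr
  -- the plane
  let U2 : Submodule F V4 :=
    { carrier := {v | fs v a = 0 ∧ ∀ x, ∃ r : F, R.mx (eU x) *ᵥ v = v + r • a}
      zero_mem' := ⟨form_zero_left a, fun x => ⟨0, by simp⟩⟩
      add_mem' := fun {u v} hu hv => ⟨by rw [form_add_left, hu.1, hv.1, add_zero], fun x => by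
        obtain ⟨r, hr⟩ := hu.2 x
        obtain ⟨s, hs⟩ := hv.2 x
        exact ⟨r + s, by rw [Matrix.mulVec_add, hr, hs]; module⟩⟩
      smul_mem' := fun k {v} hv => ⟨by rw [form_smul_left, hv.1, mul_zero], fun x => by
        obtain ⟨r, hr⟩ := hv.2 x
        exact ⟨k * r, by rw [Matrix.mulVec_smul, hr]; module⟩⟩ }
  have hU2mem : ∀ v, v ∈ U2 ↔ fs v a = 0 ∧ ∀ x, ∃ r : F, R.mx (eU x) *ᵥ v = v + r • a := fun v => Iff.rfl
  have haU : a ∈ U2 := ⟨haa, fun x => ⟨0, by rw [haE, zero_smul, add_zero]⟩⟩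
  obtain ⟨c₀, hc₀, hc₀A, hc₀E⟩ := exists_common_zero (fun x : K => R.mx (eU x) - 1) p (R.nilpotent p) R.eU_comm
    (A := Submodule.span F {a}) (B := perp a)
    (fun h => by
      have := Submodule.finrank_mono h
      rw [finrank_perp ha0, finrank_span_singleton ha0] at this
      omega)
    (fun x v hv => by
      obtain ⟨r, rfl⟩ := Submodule.mem_span_singleton.1 hv
      rw [Matrix.sub_mulVec, Matrix.one_mulVec, Matrix.mulVec_smul, haE, sub_self]
      exact Submodule.zero_mem _)
    (fun x v hv => by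
      show fs _ a = 0
      rw [Matrix.sub_mulVec, Matrix.one_mulVec, form_sub_left, hea, sub_self])
    Finset.univ
  have hc₀U : c₀ ∈ U2 := ⟨hc₀, fun x => by
    obtain ⟨r, hr⟩ := Submodule.mem_span_singleton.1 (hc₀E x (Finset.mem_univ x))
    refine ⟨r, ?_⟩
    rw [hr, Matrix.sub_mulVec, Matrix.one_mulVec, add_sub_cancel]⟩
  have hind : ∀ c, c ∈ U2 → (∀ r : F, c ≠ r • a) → ∀ v ∈ U2, ∃ r s : F, v = r • a + s • c := by
    intro c hc hcA v hv
    have hle : Submodule.span F {a, c} ≤ U2 := Submodule.span_le.2 (by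
      rintro y (rfl | rfl)
      · exact haU
      · exact hc)
    have hlt : U2 < perp a := lt_of_le_of_ne (fun y hy => hy.1) fun e => hψ fun x v hv' =>
      ((hU2mem v).1 (e ▸ hv')).2 x
    have h1 := Submodule.finrank_lt_finrank_of_lt hlt
    rw [finrank_perp ha0] at h1
    have h2' : finrank F (Submodule.span F ({a, c} : Set V4)) = 2 := by
      have hli : LinearIndependent F ![a, c] := (LinearIndependent.pair_iff' ha0).2 fun r e => hcA r e.symm
      have := finrank_span_eq_card hli
      rwa [Matrix.range_cons, Matrix.range_cons, Matrix.range_empty, Set.union_empty, Set.singleton_union,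
        Fintype.card_fin] at this
    have heq := Submodule.eq_of_le_of_finrank_le hle (by omega)
    rw [← heq] at hv
    obtain ⟨r, s, hrs⟩ := Submodule.mem_span_pair.1 hv
    exact ⟨r, s, hrs.symm⟩
  have hc₀A' : ∀ r : F, c₀ ≠ r • a := fun r e => hc₀A (Submodule.mem_span_singleton.2 ⟨r, e.symm⟩)
  have hdec : ∀ e, fs e a = 0 → e ∉ U2 → ∀ v, fs v a = 0 → ∃ r s t : F, v = r • a + s • c₀ + t • e := by
    intro e hea' heU v hv
    have hlt : U2 < U2 ⊔ Submodule.span F {e} := lt_of_le_of_ne le_sup_left fun h => heU (by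
      rw [h]; exact Submodule.mem_sup_right (Submodule.mem_span_singleton_self e))
    have hle : U2 ⊔ Submodule.span F {e} ≤ perp a :=
      sup_le (fun y hy => hy.1) (by rw [Submodule.span_singleton_le_iff_mem]; exact hea')
    have h1 := Submodule.finrank_lt_finrank_of_lt hlt
    have h2' : 2 ≤ finrank F U2 := by
      have hli : LinearIndependent F ![(⟨a, haU⟩ : U2), ⟨c₀, hc₀U⟩] :=
        (LinearIndependent.pair_iff' (fun h => ha0 (congrArg Subtype.val h))).2 fun r h =>
          hc₀A' r (congrArg Subtype.val h).symm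
      simpa using hli.fintype_card_le_finrank
    have heq := Submodule.eq_of_le_of_finrank_le hle (by rw [finrank_perp ha0]; omega)
    have hv' : v ∈ U2 ⊔ Submodule.span F {e} := heq ▸ hv
    obtain ⟨y, hy, z, hz, rfl⟩ := Submodule.mem_sup.1 hv'
    obtain ⟨r, s, rfl⟩ := hind c₀ hc₀U hc₀A' y hy
    obtain ⟨t, rfl⟩ := Submodule.mem_span_singleton.1 hz
    exact ⟨r, s, t, rfl⟩
  -- diagonal elements
  set b := R.mx wU *ᵥ a with hb
  have hWb : R.mx wU *ᵥ b = -a := R.wsq_vec hP h2K a
  let T : ∀ l : K, l ≠ 0 → M4 := fun l hl => R.mx (tU l hl)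
  have hTE : ∀ l hl x v, R.mx (eU (l * l * x)) *ᵥ (T l hl *ᵥ v) = T l hl *ᵥ (R.mx (eU x) *ᵥ v) := fun l hl x v => by
    rw [← R.mx_apply, ← tU_eU l hl, R.mx_apply]
  have hTW : ∀ l hl v, T l hl *ᵥ (R.mx wU *ᵥ v) = R.mx wU *ᵥ (T l⁻¹ (inv_ne_zero hl) *ᵥ v) := fun l hl v => by
    rw [← R.mx_apply, tU_wU l hl, R.mx_apply]
  have hTT : ∀ l hl v, T l hl *ᵥ (T l⁻¹ (inv_ne_zero hl) *ᵥ v) = v := fun l hl v => by
    have e : tU l hl * tU l⁻¹ (inv_ne_zero hl) = 1 := Subtype.ext (by
      show !![l, 0; 0, l⁻¹] * !![l⁻¹, 0; 0, l⁻¹⁻¹] = _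
      simp [Matrix.one_fin_two, hl])
    rw [← R.mx_apply, e, R.mx_one, Matrix.one_mulVec]
  have hTa : ∀ l hl, ∃ μ : F, T l hl *ᵥ a = μ • a := fun l hl => hfix _ fun x => by
    have e : x = l * l * ((l * l)⁻¹ * x) := by field_simp
    rw [e, hTE, haE]
  choose μ hμ using hTa
  have hμμ : ∀ l hl, μ l hl * μ l⁻¹ (inv_ne_zero hl) = 1 := fun l hl => by
    have h := hTT l hl a
    rw [hμ, Matrix.mulVec_smul, hμ, smul_smul] at h
    have := smul_left_injective F ha0 (h.trans (one_smul F a).symm)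
    linear_combination this
  have hTb : ∀ l hl, T l hl *ᵥ b = μ l⁻¹ (inv_ne_zero hl) • b := fun l hl => by
    rw [hb, hTW, hμ, Matrix.mulVec_smul]
  have hTperp : ∀ l hl v, fs v a = 0 → fs (T l hl *ᵥ v) a = 0 := fun l hl v hv => by
    have h := hform (tU l hl) v a
    rw [show R.mx (tU l hl) *ᵥ a = μ l hl • a from hμ l hl, form_smul, hv] at h
    exact (mul_eq_zero.1 h).resolve_left (left_ne_zero_of_mul_eq_one (hμμ l hl))
  have hTU : ∀ l hl v, v ∈ U2 → T l hl *ᵥ v ∈ U2 := fun l hl v hv => ⟨hTperp l hl v hv.1, fun x => by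
    obtain ⟨r, hr⟩ := hv.2 ((l * l)⁻¹ * x)
    refine ⟨r * μ l hl, ?_⟩
    rw [show x = l * l * ((l * l)⁻¹ * x) by field_simp, hTE, hr, Matrix.mulVec_add, Matrix.mulVec_smul, hμ, smul_smul]⟩
  -- the Weyl image of the line leaves the orthogonal
  have hab : fs a b ≠ 0 := by
    intro hab0
    have hba : fs b a = 0 := by rw [form_antisymm, hab0, neg_zero]
    by_cases hbU : b ∈ U2
    · obtain ⟨r, s, hrs⟩ := hind c₀ hc₀U hc₀A' b hbU
      have hs : s ≠ 0 := fun hs => ha0 (R.w_fixed hP h2K ha (by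
        show b ∈ R.fixed
        rw [hrs, hs, zero_smul, add_zero]
        exact R.fixed.smul_mem r ha))
      have hWU : ∀ v ∈ U2, R.mx wU *ᵥ v ∈ U2 := fun v hv => by
        obtain ⟨r', s', rfl⟩ := hind c₀ hc₀U hc₀A' v hv
        have hWc : R.mx wU *ᵥ c₀ = s⁻¹ • (-a - r • b) := by
          rw [eq_inv_smul_iff₀ hs, ← Matrix.mulVec_smul, show s • c₀ = b - r • a by rw [hrs]; abel, Matrix.mulVec_sub,
            hWb, Matrix.mulVec_smul]
        rw [Matrix.mulVec_add, Matrix.mulVec_smul, Matrix.mulVec_smul, hWc]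
        exact U2.add_mem (U2.smul_mem _ hbU) (U2.smul_mem _ (U2.smul_mem _ (U2.sub_mem (U2.neg_mem haU) (U2.smul_mem _ hbU))))
      rcases R.invariant_cases hP U2 (fun x v hv => by
          obtain ⟨r', hr'⟩ := hv.2 x
          rw [hr']
          exact U2.add_mem hv (U2.smul_mem _ haU)) hWU h2K with e | e
      · exact ha0 ((Submodule.eq_bot_iff _).1 e a haU)
      · exact hz₄ ((hU2mem z₄).1 (e ▸ Submodule.mem_top)).1
    · have hcb : fs c₀ b ≠ 0 := fun h => by
        have hbA := perp_le_perp hz₄ (b := b) fun v hv => by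
          obtain ⟨r, s, t, rfl⟩ := hdec b hba hbU v hv
          rw [form_add_left, form_add_left, form_smul_left, form_smul_left, form_smul_left, hab0, h, form_self h2]
          ring
        exact hbU (hbA ▸ U2.smul_mem _ haU)
      choose α hα using hc₀U.2
      have hα0 : ∀ x, α x = 0 := additive_zero α (fun x y => smul_left_injective F ha0 (by
          have h := hadd x y c₀
          rw [hα, hα y, Matrix.mulVec_add, hα x, Matrix.mulVec_smul, haE] at h
          show α (x + y) • a = (α x + α y) • a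
          linear_combination (norm := module) h)) (fun _ => 1) hx₀ hy₀ hxy (by
            intro h; exact one_ne_zero (add_eq_left.1 h)) fun l hl x => by
        obtain ⟨r, ν, hrν⟩ := hind c₀ hc₀U hc₀A' _ (hTU l hl c₀ hc₀U)
        have hf : fs (T l hl *ᵥ c₀) (T l hl *ᵥ b) = fs c₀ b := hform _ _ _
        rw [hrν, hTb, form_add_left, form_smul_left, form_smul_left, form_smul, form_smul, hab0] at hf
        have hνμ : ν * μ l⁻¹ (inv_ne_zero hl) = 1 := mul_right_cancel₀ hcb (by linear_combination hf)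
        have hν : ν = μ l hl := by linear_combination μ l hl * hνμ - ν * hμμ l hl
        have h := hTE l hl x c₀
        rw [hrν, hα x, Matrix.mulVec_add, Matrix.mulVec_add, Matrix.mulVec_smul, Matrix.mulVec_smul, Matrix.mulVec_smul,
          haE, hα, hrν, hμ] at h
        have h' : (ν * α (l * l * x)) • a = (α x * μ l hl) • a := by linear_combination (norm := module) h
        have h'' := smul_left_injective F ha0 h'
        rw [hν] at h''
        rw [one_mul]
        exact mul_left_cancel₀ (left_ne_zero_of_mul_eq_one (hμμ l hl)) (by linear_combination h'')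
      obtain ⟨r, hr⟩ := hfix c₀ fun x => by rw [hα, hα0, zero_smul, add_zero]
      exact hc₀A' r hr
  have hba : fs b a ≠ 0 := by rw [form_antisymm]; exact neg_ne_zero.2 hab
  -- normalise the second vector
  set c := c₀ - (fs c₀ b / fs a b) • a with hc
  have hcU : c ∈ U2 := U2.sub_mem hc₀U (U2.smul_mem _ haU)
  have hcA : ∀ r : F, c ≠ r • a := fun r e => hc₀A' (r + fs c₀ b / fs a b) (by
    rw [add_smul, ← e, hc, sub_add_cancel])
  have hcb : fs c b = 0 := by rw [hc, form_sub_left, form_smul_left, div_mul_cancel₀ _ hab, sub_self]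
  have hca : fs c a = 0 := hcU.1
  have hac : fs a c = 0 := by rw [form_antisymm, hca, neg_zero]
  have hdec' : ∀ e, fs e a = 0 → fs e b = 0 → fs c e ≠ 0 → ∀ v, fs v a = 0 → ∃ r s t : F,
      v = r • a + s • c + t • e := fun e hea' heb hce v hv => by
    have heU : e ∉ U2 := fun he => hce (by
      obtain ⟨r, s, rfl⟩ := hind c hcU hcA e he
      rw [form_add, form_smul, form_smul, hca, form_self h2]; ring)
    obtain ⟨r, s, t, rfl⟩ := hdec e hea' heU v hv
    exact ⟨r + s * (fs c₀ b / fs a b), s, t, by rw [hc]; module⟩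
  choose α hα using hcU.2
  have hαadd : ∀ x y, α (x + y) = α x + α y := fun x y => smul_left_injective F ha0 (by
    have h := hadd x y c
    rw [hα, hα y, Matrix.mulVec_add, hα x, Matrix.mulVec_smul, haE] at h
    show α (x + y) • a = (α x + α y) • a
    linear_combination (norm := module) h)
  have hTc : ∀ l hl, ∃ ν : F, T l hl *ᵥ c = ν • c := fun l hl => by
    obtain ⟨r, ν, hrν⟩ := hind c hcU hcA _ (hTU l hl c hcU)
    have hf : fs (T l hl *ᵥ c) (T l hl *ᵥ b) = fs c b := hform _ _ _
    rw [hrν, hTb, form_add_left, form_smul_left, form_smul_left, form_smul, form_smul, hcb] at hf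
    have hr : r = 0 := by
      have h : r * (μ l⁻¹ (inv_ne_zero hl) * fs a b) = 0 := by linear_combination hf
      exact (mul_eq_zero.1 h).resolve_right (mul_ne_zero (right_ne_zero_of_mul_eq_one (hμμ l hl)) hab)
    exact ⟨ν, by rw [hrν, hr, zero_smul, zero_add]⟩
  choose ν hν using hTc
  have hc0 : c ≠ 0 := fun e => hcA 0 (by rw [e, zero_smul])
  have hνν : ∀ l hl, ν l hl * ν l⁻¹ (inv_ne_zero hl) = 1 := fun l hl => by
    have h := hTT l hl c
    rw [hν, Matrix.mulVec_smul, hν, smul_smul] at h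
    have := smul_left_injective F hc0 (h.trans (one_smul F c).symm)
    linear_combination this
  have hνne : ∀ l hl, ν l hl ≠ 0 := fun l hl => left_ne_zero_of_mul_eq_one (hνν l hl)
  have hαT : ∀ l hl x, ν l hl * α (l * l * x) = μ l hl * α x := fun l hl x => by
    have h := hTE l hl x c
    rw [hν, hα x, Matrix.mulVec_add, Matrix.mulVec_smul, Matrix.mulVec_smul, hα, hν, hμ] at h
    exact smul_left_injective F ha0 (show (ν l hl * α (l * l * x)) • a = (μ l hl * α x) • a by
      linear_combination (norm := module) h)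
  -- the third vector
  have hthird : ∀ e, fs e a = 0 → fs e b = 0 → fs c e ≠ 0 → ∃ β γ : K → F,
      (∀ x, R.mx (eU x) *ᵥ e = e + β x • c + γ x • a) ∧ ∀ l hl x, β (l * l * x) = ν l hl * ν l hl * β x := by
    intro e hea' heb hce
    have hex : ∀ x, ∃ β γ : F, R.mx (eU x) *ᵥ e = e + β • c + γ • a := fun x => by
      obtain ⟨r, s, t, h⟩ := hdec' e hea' heb hce (R.mx (eU x) *ᵥ e) (by rw [hea, hea'])
      have hf := hform (eU x) c e
      rw [hα, h, form_add_left, form_smul_left, form_add, form_add, form_add, form_add, form_smul, form_smul, form_smul,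
        form_smul, form_smul, form_smul, form_self h2 c, hca, hac, haa, form_antisymm a e, hea'] at hf
      have ht : t = 1 := mul_right_cancel₀ hce (by linear_combination hf)
      exact ⟨s, r, by rw [h, ht, one_smul]; abel⟩
    choose β γ hβ using hex
    refine ⟨β, γ, hβ, fun l hl x => ?_⟩
    obtain ⟨r, s, t, h⟩ := hdec' e hea' heb hce (T l hl *ᵥ e) (hTperp l hl e hea')
    have hf : fs (T l hl *ᵥ c) (T l hl *ᵥ e) = fs c e := hform _ _ _
    rw [hν, h, form_smul_left, form_add, form_add, form_smul, form_smul, form_smul, hca, form_self h2] at hf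
    have ht : ν l hl * t = 1 := mul_right_cancel₀ hce (by linear_combination hf)
    have hE := hTE l hl x e
    rw [h, hβ x] at hE
    simp only [Matrix.mulVec_add, Matrix.mulVec_smul, haE, hα, hβ, hν, hμ, h] at hE
    have hfe := congrArg (fun v => fs v e) hE
    simp only [form_add_left, form_smul_left, form_self h2 e, form_antisymm a e, hea', neg_zero, mul_zero, add_zero,
      zero_add] at hfe
    refine mul_left_cancel₀ (right_ne_zero_of_mul_eq_one ht) (mul_right_cancel₀ hce ?_)
    linear_combination hfe - (β x * ν l hl * fs c e) * ht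
  set d := R.mx wU *ᵥ c with hd
  have hda : fs d a = 0 := by
    have h := hform wU c b
    rw [hWb, hcb, ← neg_one_smul F a, form_smul] at h
    linear_combination -h
  have hdb : fs d b = 0 := by rw [hd, hb, hform, hca]
  have hTd : ∀ l hl, T l hl *ᵥ d = ν l⁻¹ (inv_ne_zero hl) • d := fun l hl => by
    rw [hd, hTW, hν, Matrix.mulVec_smul]
  have hcd : fs c d ≠ 0 := by
    intro hcd0
    obtain ⟨e, hea', heb, hce⟩ : ∃ e, fs e a = 0 ∧ fs e b = 0 ∧ fs c e ≠ 0 := by
      by_contra! h
      have := perp_le_perp hz₄ (b := c) fun v hv => by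
        have h' := h (v - (fs v b / fs a b) • a) (by rw [form_sub_left, form_smul_left, haa, hv]; ring)
          (by rw [form_sub_left, form_smul_left, div_mul_cancel₀ _ hab, sub_self])
        rw [form_sub, form_smul, hca, mul_zero, sub_zero] at h'
        rw [form_antisymm, h', neg_zero]
      exact hcA _ this
    obtain ⟨r, s, t, hrst⟩ := hdec' e hea' heb hce d hda
    have ht : t = 0 := by
      have h := congrArg (fs c) hrst
      rw [hcd0, form_add, form_add, form_smul, form_smul, form_smul, hca, form_self h2] at h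
      exact (mul_eq_zero.1 (show t * fs c e = 0 by linear_combination -h)).resolve_right hce
    have hr : r = 0 := by
      have h := congrArg (fun v => fs v b) hrst
      simp only [hdb, form_add_left, form_smul_left, hcb, heb] at h
      exact (mul_eq_zero.1 (show r * fs a b = 0 by linear_combination -h)).resolve_right hab
    rw [hr, ht, zero_smul, zero_smul, zero_add, add_zero] at hrst
    have hs : s ≠ 0 := fun hs => hc0 (R.w_injective hP h2K (by
      rw [← hd, hrst, hs, zero_smul, Matrix.mulVec_zero]))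
    obtain ⟨β, γ, hβ, hβT⟩ := hthird e hea' heb hce
    have hβadd : ∀ x y, β (x + y) = β x + β y := fun x y => by
      have h := congrArg (fun v => fs v e) (hadd x y e)
      simp only [hβ, Matrix.mulVec_add, Matrix.mulVec_smul, haE, hα, form_add_left, form_smul_left, form_self h2 e,
        form_antisymm a e, hea', neg_zero, mul_zero, add_zero, zero_add] at h
      exact mul_right_cancel₀ hce (by linear_combination h)
    have hβ0 := additive_zero β hβadd (fun _ => 1) hx₀ hy₀ hxy (by
        intro h; exact one_ne_zero (add_eq_left.1 h)) fun l hl x => by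
      have h := hTd l hl
      rw [hrst, Matrix.mulVec_smul, hν, smul_smul, smul_smul] at h
      have h' : ν l⁻¹ (inv_ne_zero hl) = ν l hl :=
        mul_left_cancel₀ hs (by linear_combination -(smul_left_injective F hc0 h))
      rw [one_mul, hβT l hl x]
      have := hνν l hl
      rw [h'] at this
      rw [this, one_mul]
    refine hψ fun x v hv => ?_
    obtain ⟨r, s, t, rfl⟩ := hdec' e hea' heb hce v hv
    exact ⟨s * α x + t * γ x, by
      rw [Matrix.mulVec_add, Matrix.mulVec_add, Matrix.mulVec_smul, Matrix.mulVec_smul, Matrix.mulVec_smul, haE, hα, hβ,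
        hβ0]
      module⟩
  obtain ⟨β, γ, hβ, hβT⟩ := hthird d hda hdb hcd
  have had : fs a d = 0 := by rw [form_antisymm, hda, neg_zero]
  have hdc : fs d c ≠ 0 := by rw [form_antisymm]; exact neg_ne_zero.2 hcd
  have hbc : fs b c = 0 := by rw [form_antisymm, hcb, neg_zero]
  have hbd : fs b d = 0 := by rw [form_antisymm, hdb, neg_zero]
  have hco : ∀ r s t u : F, r • a + s • c + t • d + u • b = 0 → r = 0 ∧ s = 0 ∧ t = 0 ∧ u = 0 := by
    intro r s t u h
    have hb' := congrArg (fun v => fs v b) h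
    have ha' := congrArg (fun v => fs v a) h
    have hc' := congrArg (fun v => fs v c) h
    have hd' := congrArg (fun v => fs v d) h
    simp only [form_add_left, form_smul_left, form_zero_left, form_self h2, haa, hac, had, hca, hcb, hda, hdb, hbc, hbd,
      mul_zero, add_zero, zero_add] at ha' hb' hc' hd'
    exact ⟨(mul_eq_zero.1 hb').resolve_right hab, (mul_eq_zero.1 hd').resolve_right hcd,
      (mul_eq_zero.1 hc').resolve_right hdc, (mul_eq_zero.1 ha').resolve_right hba⟩
  have hexb : ∀ x, ∃ A G D : F, R.mx (eU x) *ᵥ b = b + A • d + G • c + D • a := fun x => by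
    obtain ⟨r, s, t, h⟩ := hdec' d hda hdb hcd (R.mx (eU x) *ᵥ b - b) (by rw [form_sub_left, hea, sub_self])
    exact ⟨t, s, r, by rw [sub_eq_iff_eq_add.1 h]; module⟩
  choose A G D hbE using hexb
  -- relations
  have hA : ∀ x, A x * fs c d = -(α x * fs a b) := fun x => by
    have h := hform (eU x) c b
    simp only [hα, hbE, form_add, form_add_left, form_smul, form_smul_left, form_self h2, haa, hac, had, hca, hcb,
      mul_zero, add_zero, zero_add] at h
    linear_combination h
  have hab2 : ∀ x y, β (x + y) = β x + β y ∧ γ (x + y) = γ x + γ y + β y * α x := fun x y => by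
    have h := hadd x y d
    simp only [hβ, Matrix.mulVec_add, Matrix.mulVec_smul, haE, hα] at h
    obtain ⟨h1, h2', -, -⟩ := hco (γ (x + y) - (γ x + γ y + β y * α x)) (β (x + y) - (β x + β y)) 0 0 (by
      linear_combination (norm := module) h)
    exact ⟨sub_eq_zero.1 h2', sub_eq_zero.1 h1⟩
  have hab3 : ∀ x y, G (x + y) = G x + G y + A y * β x ∧ D (x + y) = D x + D y + A y * γ x + G y * α x := fun x y => by
    have h := hadd x y b
    simp only [hbE, hβ, Matrix.mulVec_add, Matrix.mulVec_smul, haE, hα] at h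
    obtain ⟨h1, h2', -, -⟩ := hco (D (x + y) - (D x + D y + A y * γ x + G y * α x))
      (G (x + y) - (G x + G y + A y * β x)) (A (x + y) - (A x + A y)) 0 (by
      linear_combination (norm := module) h)
    exact ⟨sub_eq_zero.1 h2', sub_eq_zero.1 h1⟩
  have hγT : ∀ l hl x, ν l⁻¹ (inv_ne_zero hl) * γ (l * l * x) = μ l hl * γ x := fun l hl x => by
    have h := hTE l hl x d
    simp only [hTd, hβ, Matrix.mulVec_add, Matrix.mulVec_smul, hν, hμ] at h
    exact sub_eq_zero.1 (hco (ν l⁻¹ (inv_ne_zero hl) * γ (l * l * x) - μ l hl * γ x)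
      (ν l⁻¹ (inv_ne_zero hl) * β (l * l * x) - ν l hl * β x) 0 0 (by linear_combination (norm := module) h)).1
  have hbT : ∀ l hl x, μ l⁻¹ (inv_ne_zero hl) * G (l * l * x) = ν l hl * G x ∧
      μ l⁻¹ (inv_ne_zero hl) * D (l * l * x) = μ l hl * D x := fun l hl x => by
    have h := hTE l hl x b
    simp only [hTb, hTd, hbE, Matrix.mulVec_add, Matrix.mulVec_smul, hν, hμ] at h
    obtain ⟨h1, h2', -, -⟩ := hco (μ l⁻¹ (inv_ne_zero hl) * D (l * l * x) - μ l hl * D x)
      (μ l⁻¹ (inv_ne_zero hl) * G (l * l * x) - ν l hl * G x)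
      (μ l⁻¹ (inv_ne_zero hl) * A (l * l * x) - ν l⁻¹ (inv_ne_zero hl) * A x) 0 (by
        linear_combination (norm := module) h)
    exact ⟨sub_eq_zero.1 h2', sub_eq_zero.1 h1⟩
  have hα0 : α 0 = 0 := by
    have := hαadd 0 0
    rw [add_zero] at this
    linear_combination -this
  have hαsub : ∀ x y, α (x - y) = α x - α y := fun x y => by
    have := hαadd (x - y) y
    rw [sub_add_cancel] at this
    linear_combination -this
  have hα1 : α 1 ≠ 0 := fun h1 => by
    have hsq : ∀ u : K, α (u * u) = 0 := fun u => by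
      rcases eq_or_ne u 0 with rfl | hu
      · rw [mul_zero, hα0]
      · have h := hαT u hu 1
        rw [mul_one, h1, mul_zero] at h
        exact (mul_eq_zero.1 h).resolve_left (hνne u hu)
    obtain ⟨r, hr⟩ := hfix c fun x => by
      obtain ⟨u, v, rfl⟩ := hdiff x
      rw [hα, hαsub, hsq, hsq, sub_zero, zero_smul, add_zero]
    exact hcA r hr
  let φf : K → F := fun x => α x / α 1
  have hφα : ∀ x, α x = φf x * α 1 := fun x => (div_mul_cancel₀ _ hα1).symm
  have hφsq : ∀ u z, φf (u * u * z) = φf (u * u) * φf z := fun u z => by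
    rcases eq_or_ne u 0 with rfl | hu
    · simp [φf, hα0]
    have h1 := hαT u hu 1
    have h2' := hαT u hu z
    rw [mul_one] at h1
    simp only [φf]
    rw [div_mul_div_comm, div_eq_div_iff hα1 (mul_ne_zero hα1 hα1)]
    refine mul_left_cancel₀ (hνne u hu) ?_
    linear_combination α 1 * α 1 * h2' - α 1 * α z * h1
  have hφmul : ∀ x z, φf (x * z) = φf x * φf z := fun x z => by
    obtain ⟨u, v, rfl⟩ := hdiff x
    have e1 : φf (u * u - v * v) = φf (u * u) - φf (v * v) := by simp [φf, hαsub, sub_div]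
    have e2 : φf ((u * u - v * v) * z) = φf (u * u * z) - φf (v * v * z) := by simp [φf, sub_mul, hαsub, sub_div]
    rw [e2, hφsq, hφsq, e1, sub_mul]
  let φ : K →+* F :=
    { toFun := φf
      map_one' := div_self hα1
      map_mul' := hφmul
      map_zero' := by simp [φf, hα0]
      map_add' := fun x y => by simp [φf, hαadd, add_div] }
  have hφ : ∀ x, α x = φ x * α 1 := hφα
  have hνφ : ∀ l hl, μ l hl = ν l hl * φ (l * l) := fun l hl => by
    have h := hαT l hl 1
    rw [mul_one, hφ (l * l)] at h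
    exact mul_right_cancel₀ hα1 (by linear_combination -h)
  have hβ1 : ∀ x, β x = φ x * β 1 := fun x => by
    have h1 := (hab2 x 1).2
    have h2' := (hab2 1 x).2
    rw [add_comm (1 : K) x, h1, hφ x] at h2'
    exact mul_right_cancel₀ hα1 (by linear_combination -h2')
  have hβne : β 1 ≠ 0 := fun h => hψ fun x v hv => by
    obtain ⟨r, s, t, rfl⟩ := hdec' d hda hdb hcd v hv
    exact ⟨s * α x + t * γ x, by
      rw [Matrix.mulVec_add, Matrix.mulVec_add, Matrix.mulVec_smul, Matrix.mulVec_smul, Matrix.mulVec_smul, haE, hα, hβ,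
        hβ1, h]
      module⟩
  have hν2 : ∀ l hl, ν l hl * ν l hl = φ (l * l) := fun l hl => by
    have h := hβT l hl 1
    rw [mul_one, hβ1] at h
    exact mul_right_cancel₀ hβne (by linear_combination -h)
  have hA1 : ∀ x, A x = φ x * A 1 := fun x => mul_right_cancel₀ hcd (by
    rw [hA, mul_assoc, hA, hφ x]; ring)
  have hA1ne : A 1 ≠ 0 := fun h => by
    have := hA 1
    rw [h, zero_mul, eq_comm, neg_eq_zero] at this
    exact mul_ne_zero hα1 hab this
  have hxy' : φ (x₀ * x₀) + 1 = φ (y₀ * y₀) := by rw [← hxy, map_add, map_one]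
  have hφx : φ (x₀ * x₀) ≠ 0 := (map_ne_zero φ).2 (mul_ne_zero hx₀ hx₀)
  have hφy : φ (y₀ * y₀) ≠ 0 := (map_ne_zero φ).2 (mul_ne_zero hy₀ hy₀)
  -- quadratic entries
  have hquad : ∀ (g : K → F) (k : F), (∀ x y, g (x + y) = g x + g y + 2 * k * (φ x * φ y)) →
      (∀ l, l ≠ 0 → ∀ x, g (l * l * x) = φ (l * l) ^ 2 * g x) → ∀ x, g x = k * φ x ^ 2 := fun g k hg hgT x =>
    sub_eq_zero.1 (additive_zero (fun x => g x - k * φ x ^ 2) (fun x y => by simp only [hg, map_add]; ring)
      (fun z => φ z ^ 2) hx₀ hy₀ hxy (fun h => by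
        rw [← hxy'] at h
        exact mul_ne_zero h2 hφx (by linear_combination -h))
      (fun u hu z => by simp only [hgT u hu, map_mul]; ring) x)
  have hγ : ∀ x, γ x = α 1 * β 1 / 2 * φ x ^ 2 := hquad γ _ (fun x y => by
      rw [(hab2 x y).2, hβ1 y, hφ x]; field_simp) fun l hl x => by
    refine mul_left_cancel₀ (right_ne_zero_of_mul_eq_one (hνν l hl)) ?_
    rw [hγT l hl, hνφ, ← hν2 l hl]
    linear_combination (-(ν l hl * ν l hl * ν l hl * γ x)) * hνν l hl
  have hG : ∀ x, G x = A 1 * β 1 / 2 * φ x ^ 2 := hquad G _ (fun x y => by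
      rw [(hab3 x y).1, hA1 y, hβ1 x]; field_simp) fun l hl x => by
    refine mul_left_cancel₀ (right_ne_zero_of_mul_eq_one (hμμ l hl)) ?_
    have h := hμμ l hl
    rw [hνφ l hl] at h
    rw [(hbT l hl x).1, ← hν2 l hl] at *
    linear_combination (-(ν l hl * G x)) * h
  set m := A 1 * α 1 * β 1 / 2 with hm
  have hDadd : ∀ x y, D (x + y) = D x + D y + m * (φ y * φ x ^ 2 + φ y ^ 2 * φ x) := fun x y => by
    rw [(hab3 x y).2, hA1 y, hγ x, hG y, hφ x, hm]
    field_simp
    ring
  have hm0 : m ≠ 0 := div_ne_zero (mul_ne_zero (mul_ne_zero hA1ne hα1) hβne) h2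
  have h3 : (3 : F) ≠ 0 := fun h3 => by
    have hp3 : p = 3 := (Nat.prime_dvd_prime_iff_eq Fact.out Nat.prime_three).1
      ((CharP.cast_eq_zero_iff F p 3).1 (by exact_mod_cast h3))
    have h3K : (1 : K) + 1 + 1 = 0 := by
      have : ((3 : ℕ) : K) = 0 := (CharP.cast_eq_zero_iff K p 3).2 (hp3 ▸ dvd_rfl)
      push_cast at this
      linear_combination this
    have e1 := hDadd 1 1
    have e2 := hDadd (1 + 1) 1
    have e0 := hDadd 0 0
    simp only [map_one, map_zero, map_add, add_zero] at e0 e1 e2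
    rw [h3K, e1] at e2
    have : (2 : F) * (2 * (2 * m)) = 0 := by linear_combination -e2 - e0 - D 1 * h3
    exact mul_ne_zero h2 (mul_ne_zero h2 (mul_ne_zero h2 hm0)) this
  have hD : ∀ x, D x = m / 3 * φ x ^ 3 := fun x =>
    sub_eq_zero.1 (additive_zero (fun x => D x - m / 3 * φ x ^ 3) (fun x y => by
        simp only [hDadd, map_add]; field_simp; ring)
      (fun z => φ z ^ 3) hx₀ hy₀ hxy (fun h => by
        rw [← hxy'] at h
        exact mul_ne_zero (mul_ne_zero h3 hφx) (by rw [hxy']; exact hφy : φ (x₀ * x₀) + 1 ≠ 0)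
          (by linear_combination -h))
      (fun u hu z => by
        have hμ2 : μ u hu * μ u hu = φ (u * u) ^ 3 := by
          rw [hνφ u hu]; linear_combination (φ (u * u) ^ 2) * hν2 u hu
        have h' : D (u * u * z) = φ (u * u) ^ 3 * D z := by
          refine mul_left_cancel₀ (right_ne_zero_of_mul_eq_one (hμμ u hu)) ?_
          rw [(hbT u hu z).2]
          linear_combination (-(μ u hu * D z)) * hμμ u hu + (μ u⁻¹ (inv_ne_zero hu) * D z) * hμ2
        simp only [h', map_mul]; ring) x)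
  -- the relation of Weyl and unitriangular elements
  have hrel : eU (1 : K) * wU * eU 1 = wU * eU (-1) * wU := Subtype.ext (by
    show !![(1 : K), 1; 0, 1] * !![0, 1; -1, 0] * !![1, 1; 0, 1] = !![0, 1; -1, 0] * !![1, -1; 0, 1] * !![0, 1; -1, 0]
    ext i j
    fin_cases i <;> fin_cases j <;> simp [Matrix.mul_apply, Fin.sum_univ_two])
  have hneg : A (-1) = -A 1 ∧ G (-1) = G 1 ∧ D (-1) = -D 1 := by
    refine ⟨?_, ?_, ?_⟩
    · rw [hA1 (-1), map_neg, map_one]; ring
    · rw [hG (-1), hG 1, map_neg, map_one]; ring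
    · rw [hD (-1), hD 1, map_neg, map_one]; ring
  have hWd : R.mx wU *ᵥ d = -c := R.wsq_vec hP h2K c
  have hval : G 1 = A 1 ∧ D 1 = -1 := by
    have h := congrArg (fun g => R.mx g *ᵥ a) hrel
    simp only [R.mx_apply, haE] at h
    simp only [← hb, hbE, Matrix.mulVec_add, Matrix.mulVec_smul, hWb, hWd, ← hd, hneg] at h
    obtain ⟨h1, h2', -, -⟩ := hco (D 1 + 1) (G 1 - A 1) (A 1 - G 1) (1 + D 1) (by
      linear_combination (norm := module) h)
    exact ⟨sub_eq_zero.1 h2', eq_neg_of_add_eq_zero_left h1⟩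
  have hb2 : β 1 = 2 := by
    have h := hG 1
    rw [hval.1, map_one, one_pow, mul_one] at h
    field_simp at h
    linear_combination -h
  have hA3 : A 1 * α 1 = -3 := by
    have h := hD 1
    rw [hval.2, map_one, one_pow, mul_one, hm, hb2] at h
    field_simp at h
    linear_combination -h
  let vec : Fin 4 → V4 := ![a, (α 1)⁻¹ • c, (α 1)⁻¹ • d, -b]
  have hvec : LinearIndependent F vec := Fintype.linearIndependent_iff.2 fun g hg => by
    simp only [vec, Fin.sum_univ_four, Matrix.cons_val] at hg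
    obtain ⟨h0, h1, h2', h3'⟩ := hco (g 0) (g 1 * (α 1)⁻¹) (g 2 * (α 1)⁻¹) (-g 3) (by
      linear_combination (norm := module) hg)
    have hi : (α 1)⁻¹ ≠ 0 := inv_ne_zero hα1
    intro i
    fin_cases i
    · exact h0
    · exact (mul_eq_zero.1 h1).resolve_right hi
    · exact (mul_eq_zero.1 h2').resolve_right hi
    · exact neg_eq_zero.1 h3'
  let B := basisOfLinearIndependentOfCardEqFinrank hvec (by
    rw [Module.finrank_fintype_fun_eq_card, Fintype.card_sum, Fintype.card_fin, Fintype.card_fin])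
  have hB : ∀ i, B i = vec i := fun i => by simp [B]
  have hB0 : B 0 = a := hB 0
  have hB1 : B 1 = (α 1)⁻¹ • c := hB 1
  have hB2 : B 2 = (α 1)⁻¹ • d := hB 2
  have hB3 : B 3 = -b := hB 3
  have hγ' : ∀ x, γ x = α 1 * φ x ^ 2 := fun x => by rw [hγ, hb2]; field_simp
  have hG' : ∀ x, G x = A 1 * φ x ^ 2 := fun x => by rw [hG, hb2]; field_simp
  have hD' : ∀ x, D x = -φ x ^ 3 := fun x => by
    rw [hD, show m / 3 = -1 by rw [hm, hb2]; field_simp; linear_combination hA3]; ring
  refine ⟨⟨B, φ, fun x => ?_, fun x => ?_, fun x => ?_, fun x => ?_, ?_, ?_, ?_, ?_, ?_, ?_, ?_, ?_, ?_, ?_, h3⟩⟩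
  · rw [hB0, haE]
  · rw [hB1, hB0, Matrix.mulVec_smul, hα, hφ x, smul_add, smul_smul]
    congr 2
    field_simp
  · rw [hB2, hB1, hB0, Matrix.mulVec_smul, hβ, hβ1 x, hb2, hγ', smul_add, smul_add, smul_smul, smul_smul, smul_smul]
    congr 2
    · congr 1; ring
    · congr 1; field_simp
  · rw [hB3, hB2, hB1, hB0, Matrix.mulVec_neg, hbE, hA1 x, hG', hD', smul_smul, smul_smul,
      show 3 * φ x * (α 1)⁻¹ = -(φ x * A 1) by field_simp; linear_combination φ x * hA3,
      show 3 * φ x ^ 2 * (α 1)⁻¹ = -(A 1 * φ x ^ 2) by field_simp; linear_combination φ x ^ 2 * hA3]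
    module
  · rw [hB0, hB3, neg_neg]
  · rw [hB1, hB2, Matrix.mulVec_smul]
  · rw [hB2, hB1, Matrix.mulVec_smul, hWd, smul_neg]
  · rw [hB3, hB0, Matrix.mulVec_neg, hWb, neg_neg]
  · rw [hB0, hB1, form_smul, hac, mul_zero]
  · rw [hB0, hB2, form_smul, had, mul_zero]
  · rw [hB1, hB3, ← neg_one_smul F b, form_smul, form_smul_left, hcb]; ring
  · rw [hB2, hB3, ← neg_one_smul F b, form_smul, form_smul_left, hdb]; ring
  · rw [hB0, hB1, hB2, hB3, ← neg_one_smul F b, form_smul, form_smul_left, form_smul]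
    have h := hA 1
    field_simp
    linear_combination -(α 1) * h + fs c d * hA3
  · rw [hB1, hB2, form_smul_left, form_smul]
    exact mul_ne_zero (inv_ne_zero hα1) (mul_ne_zero (inv_ne_zero hα1) hcd)

end CfsgLib.Sp4Odd.Q
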