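import Cfsg.Agent.Lib.Sp4Odd.Q.Model
import Cfsg.Agent.Lib.SL2Hom

/-!
A representation of the special linear group of degree two as the whole group.
-/

set_option autoImplicit false
set_option linter.unusedSectionVars false

namespace CfsgLib.Sp4Odd.Q

open Matrix

variable {F : Type*} [Field F]

local notation "M4" => Matrix (Fin 2 ⊕ Fin 2) (Fin 2 ⊕ Fin 2) F
local notation "G4" => Matrix.GeneralLinearGroup (Fin 2 ⊕ Fin 2) F

section SL

variable {K : Type} [Field K]

/-- Upper unitriangular. -/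
def eU (x : K) : Matrix.SpecialLinearGroup (Fin 2) K := ⟨!![1, x; 0, 1], by simp [Matrix.det_fin_two]⟩

/-- Lower unitriangular. -/
def fU (x : K) : Matrix.SpecialLinearGroup (Fin 2) K := ⟨!![1, 0; x, 1], by simp [Matrix.det_fin_two]⟩

/-- Diagonal. -/
def tU (a : K) (ha : a ≠ 0) : Matrix.SpecialLinearGroup (Fin 2) K :=
  ⟨!![a, 0; 0, a⁻¹], by simp [Matrix.det_fin_two, ha]⟩

/-- The Weyl element. -/
def wU : Matrix.SpecialLinearGroup (Fin 2) K := ⟨!![0, 1; -1, 0], by simp [Matrix.det_fin_two]⟩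

/-- Minus the identity. -/
def zU : Matrix.SpecialLinearGroup (Fin 2) K := ⟨!![-1, 0; 0, -1], by simp [Matrix.det_fin_two]⟩

theorem eU_mul (x y : K) : eU x * eU y = eU (x + y) :=
  Subtype.ext (by show !![1, x; 0, 1] * !![1, y; 0, 1] = !![1, x + y; 0, 1]; simp [add_comm])

theorem fU_mul (x y : K) : fU x * fU y = fU (x + y) :=
  Subtype.ext (by show !![1, 0; x, 1] * !![1, 0; y, 1] = !![1, 0; x + y, 1]; simp [add_comm])

theorem eU_zero : eU (0 : K) = 1 := Subtype.ext (by simp [eU, Matrix.one_fin_two])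

theorem fU_zero : fU (0 : K) = 1 := Subtype.ext (by simp [fU, Matrix.one_fin_two])

theorem eU_inv (x : K) : (eU x)⁻¹ = eU (-x) := inv_eq_of_mul_eq_one_right (by rw [eU_mul, add_neg_cancel, eU_zero])

theorem tU_eU (a : K) (ha : a ≠ 0) (x : K) : tU a ha * eU x = eU (a * a * x) * tU a ha :=
  Subtype.ext (by
    show !![a, 0; 0, a⁻¹] * !![1, x; 0, 1] = !![1, a * a * x; 0, 1] * !![a, 0; 0, a⁻¹]
    ext i j
    fin_cases i <;> fin_cases j <;> simp [Matrix.mul_apply, Fin.sum_univ_two]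
    field_simp)

theorem tU_wU (a : K) (ha : a ≠ 0) : tU a ha * wU = wU * tU a⁻¹ (inv_ne_zero ha) :=
  Subtype.ext (by
    show !![a, 0; 0, a⁻¹] * !![0, 1; -1, 0] = !![0, 1; -1, 0] * !![a⁻¹, 0; 0, a⁻¹⁻¹]
    simp)

theorem wU_eU (x : K) : wU * eU x = fU (-x) * wU :=
  Subtype.ext (by
    show !![0, 1; -1, 0] * !![1, x; 0, 1] = !![1, 0; -x, 1] * !![0, 1; -1, 0]
    simp)

theorem wU_fU (x : K) : wU * fU x = eU (-x) * wU :=
  Subtype.ext (by
    show !![0, 1; -1, 0] * !![1, 0; x, 1] = !![1, -x; 0, 1] * !![0, 1; -1, 0]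
    simp)

theorem wU_sq : (wU : Matrix.SpecialLinearGroup (Fin 2) K) * wU = zU :=
  Subtype.ext (by show !![0, 1; -1, 0] * !![0, 1; -1, 0] = !![(-1 : K), 0; 0, -1]; simp)

theorem zU_sq : (zU : Matrix.SpecialLinearGroup (Fin 2) K) * zU = 1 :=
  Subtype.ext (by show !![-1, 0; 0, -1] * !![-1, 0; 0, -1] = (1 : Matrix (Fin 2) (Fin 2) K); simp [Matrix.one_fin_two])

theorem wU_eq (x : K) (hx : x = 1) : (wU : Matrix.SpecialLinearGroup (Fin 2) K) = eU x * fU (-1) * eU x :=
  Subtype.ext (by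
    subst hx
    show !![0, 1; -1, 0] = !![(1 : K), 1; 0, 1] * !![1, 0; -1, 1] * !![1, 1; 0, 1]
    simp)

/-- Induction over the unitriangular elements. -/
theorem sl_induction (C : Matrix.SpecialLinearGroup (Fin 2) K → Prop) (he : ∀ x, C (eU x)) (hf : ∀ x, C (fU x))
    (hmul : ∀ a b, C a → C b → C (a * b)) (g : Matrix.SpecialLinearGroup (Fin 2) K) : C g := by
  refine SL2.transvection_induction C (fun i j h c => ?_) hmul g
  fin_cases i <;> fin_cases j
  · exact absurd rfl h
  · convert he c using 1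
    apply Subtype.ext
    show Matrix.transvection 0 1 c = !![1, c; 0, 1]
    ext a b
    fin_cases a <;> fin_cases b <;> simp [Matrix.transvection, Matrix.single_apply]
  · convert hf c using 1
    apply Subtype.ext
    show Matrix.transvection 1 0 c = !![1, 0; c, 1]
    ext a b
    fin_cases a <;> fin_cases b <;> simp [Matrix.transvection, Matrix.single_apply]
  · exact absurd rfl h

end SL

/-- A faithful representation onto the group. -/
structure Rep (K : Type) [Field K] (P : Subgroup (Matrix.GeneralLinearGroup (Fin 2 ⊕ Fin 2) F)) where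
  ρ : Matrix.SpecialLinearGroup (Fin 2) K →* Matrix.GeneralLinearGroup (Fin 2 ⊕ Fin 2) F
  inj : Function.Injective ρ
  range : ρ.range = P

variable {K : Type} [Field K] {P : Subgroup (Matrix.GeneralLinearGroup (Fin 2 ⊕ Fin 2) F)}

theorem Rep.mem (R : Rep K P) (m : Matrix.SpecialLinearGroup (Fin 2) K) : R.ρ m ∈ P :=
  (SetLike.ext_iff.1 R.range _).1 ⟨m, rfl⟩

theorem Rep.exists_eq (R : Rep K P) {g : G4} (hg : g ∈ P) : ∃ m, R.ρ m = g := by
  rw [← R.range] at hg; exact hg

/-- Transport along an isomorphism of fields. -/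
noncomputable def Rep.map (R : Rep K P) {L : Type} [Field L] (e : L ≃+* K) : Rep L P where
  ρ := R.ρ.comp (Matrix.SpecialLinearGroup.map (e : L →+* K))
  inj := by
    rw [MonoidHom.coe_comp]
    refine R.inj.comp fun a b h => Subtype.ext ?_
    have h' := congrArg Subtype.val h
    exact Matrix.map_injective e.injective h'
  range := by
    rw [MonoidHom.range_comp, MonoidHom.range_eq_top.2, ← MonoidHom.range_eq_map, R.range]
    intro b
    refine ⟨Matrix.SpecialLinearGroup.map (e.symm : K →+* L) b, Subtype.ext ?_⟩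
    show (b.1.map e.symm).map e = b.1
    ext i j; simp

theorem exists_rep {K : Type} [Field K] (f : P ≃* Matrix.SpecialLinearGroup (Fin 2) K) : Nonempty (Rep K P) :=
  ⟨{ ρ := P.subtype.comp f.symm.toMonoidHom
     inj := P.subtype_injective.comp f.symm.injective
     range := by
       rw [MonoidHom.range_comp, MonoidHom.range_eq_top.2 f.symm.surjective, ← MonoidHom.range_eq_map,
         Subgroup.range_subtype] }⟩

theorem Rep.zU (R : Rep K P) (hP : Core P) (h2 : (2 : K) ≠ 0) : R.ρ CfsgLib.Sp4Odd.Q.zU = -1 := by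
  have hsq : R.ρ CfsgLib.Sp4Odd.Q.zU * R.ρ CfsgLib.Sp4Odd.Q.zU = 1 := by rw [← map_mul, zU_sq, map_one]
  rcases hP.one_invol _ (R.mem _) hsq with e | e
  · rw [← map_one R.ρ] at e
    have h := congrFun (congrFun (congrArg Subtype.val (R.inj e)) 0) 0
    simp [CfsgLib.Sp4Odd.Q.zU] at h
    exact absurd (by linear_combination -h : (2 : K) = 0) h2
  · exact Units.ext (e.trans coe_neg_one.symm)

theorem Rep.wU_sq (R : Rep K P) (hP : Core P) (h2 : (2 : K) ≠ 0) : R.ρ wU * R.ρ wU = -1 := by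
  rw [← map_mul, CfsgLib.Sp4Odd.Q.wU_sq, R.zU hP h2]

/-- A matrix commuting with the unitriangular images is scalar. -/
theorem Rep.scalar (R : Rep K P) [Finite F] (hP : Core P) {M : M4} (he : ∀ x, (R.ρ (eU x)).1 * M = M * (R.ρ (eU x)).1)
    (hf : ∀ x, (R.ρ (fU x)).1 * M = M * (R.ρ (fU x)).1) : ∃ c : F, M = c • (1 : M4) := by
  refine CfsgLib.ResThree.scalar_of_commute hP.envelope_top fun g hg => ?_
  obtain ⟨m, rfl⟩ := R.exists_eq hg
  refine sl_induction (fun m => (R.ρ m).1 * M = M * (R.ρ m).1) he hf (fun a b ha hb => ?_) m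
  rw [map_mul, Units.val_mul, mul_assoc, hb, ← mul_assoc, ha, mul_assoc]

/-- Only zero in the space is fixed by the whole group. -/
theorem Core.eq_zero_of_fixed [Finite F] (hP : Core P) {A : M4} (hA : InW A) (h : ∀ g ∈ P, ad g A = A) : A = 0 := by
  obtain ⟨c, rfl⟩ := CfsgLib.ResThree.scalar_of_commute hP.envelope_top fun g hg => ad_eq_iff.1 (h g hg)
  have ht := hA.2
  rw [Matrix.trace_smul, Matrix.trace_one, Fintype.card_sum, Fintype.card_fin, smul_eq_mul] at ht
  rcases mul_eq_zero.1 ht with e | e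
  · rw [e, zero_smul]
  · push_cast at e
    exact absurd (show (2 : F) * 2 = 0 by linear_combination e) (mul_ne_zero hP.two hP.two)

/-- An element whose square is minus one is skew. -/
theorem adjS_of_sq_neg {g : G4} (hg : g ∈ Cfsg.spGL 2 F) (h : g * g = -1) : adjS g.1 = -g.1 := by
  rw [← inv_eq_adjS hg, show g⁻¹ = -g from inv_eq_of_mul_eq_one_right (by rw [mul_neg, h, neg_neg]), Units.val_neg]

theorem Core.three_of_sq_neg (hP : Core P) {g : G4} (hg : g ∈ P) (h : g * g = -1) :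
    3 ≤ Module.finrank F (commW g.1) :=
  three_le_commW hP.two (adjS_of_sq_neg (hP.sp hg) h) (k := -1)
    (by rw [← Units.val_mul, h, coe_neg_one, neg_one_smul]) (neg_ne_zero.2 one_ne_zero)

/-- No invariant family of mutually orthogonal isotropic members. -/
theorem Core.isotropic_zero [Finite F] (hP : Core P) {κ : Type*} [Fintype κ] (A : κ → M4) (hA : ∀ i, InW (A i))
    (h : ∀ i j, bW (A i) (A j) = 0) (hinv : ∀ g ∈ P, ∀ i, ∃ j, ad g (A i) = A j) : ∀ i, A i = 0 := by
  have hanti : ∀ i j, A i * A j = -(A j * A i) := fun i j => eq_neg_of_add_eq_zero_left (by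
    rw [anti_eq hP.two (hA i) (hA j), h, mul_zero, zero_smul])
  have hsq : ∀ i, A i * A i = 0 := fun i => by
    rw [sq_eq hP.two (hA i), ← bW_self hP.two, h, zero_smul]
  obtain ⟨v, hv0, hv⟩ := exists_common_kernel Finset.univ A hsq hanti
  let U : Submodule F (Fin 2 ⊕ Fin 2 → F) := ⨅ i, LinearMap.ker (Matrix.toLin' (A i))
  have hU : ∀ x, x ∈ U ↔ ∀ i, A i *ᵥ x = 0 := fun x => by simp [U]
  rcases hP.absIrred.1 U (by
      rintro _ ⟨g, hg, rfl⟩ y ⟨x, hx, rfl⟩
      rw [SetLike.mem_coe, hU] at hx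
      rw [hU]
      intro i
      obtain ⟨j, hj⟩ := hinv g⁻¹ (inv_mem hg) i
      rw [Matrix.toLin'_apply, Matrix.mulVec_mulVec]
      have : A i * g.1 = g.1 * A j := by
        rw [← hj, ad_apply, inv_inv, ← mul_assoc, ← mul_assoc, ← Units.val_mul, mul_inv_cancel, Units.val_one, one_mul]
      rw [this, ← Matrix.mulVec_mulVec, hx j, Matrix.mulVec_zero]) with e | e
  · exact absurd ((Submodule.eq_bot_iff _).1 e v ((hU v).2 fun i => hv i (Finset.mem_univ i))) hv0
  · intro i
    refine Matrix.ext_of_mulVec_single fun j => ?_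
    rw [(hU _).1 (e ▸ Submodule.mem_top) i, Matrix.zero_mulVec]

end CfsgLib.Sp4Odd.Q

namespace CfsgLib.Sp4Odd.Q

open Matrix

variable {F : Type*} [Field F] [Finite F] {K : Type} [Field K]
  {P : Subgroup (Matrix.GeneralLinearGroup (Fin 2 ⊕ Fin 2) F)}

/-- The isomorphism with the special linear group. -/
noncomputable def Rep.equiv (R : Rep K P) : Matrix.SpecialLinearGroup (Fin 2) K ≃* P :=
  (MonoidHom.ofInjective R.inj).trans (MulEquiv.subgroupCongr R.range)

theorem Rep.psl (R : Rep K P) (hP : Core P) :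
    Nonempty ((P ⧸ (Cfsg.Geo.scalars (Fin 2 ⊕ Fin 2) F).subgroupOf P) ≃*
      Matrix.ProjectiveSpecialLinearGroup (Fin 2) K) := by
  refine ⟨(QuotientGroup.congr _ _ R.equiv ?_).symm⟩
  rw [← hP.center_eq]
  ext x
  rw [Subgroup.mem_map, Subgroup.mem_center_iff]
  constructor
  · rintro ⟨y, hy, rfl⟩ g
    rw [Subgroup.mem_center_iff] at hy
    obtain ⟨m, rfl⟩ := R.equiv.surjective g
    show R.equiv m * R.equiv y = R.equiv y * R.equiv m
    rw [← map_mul, ← map_mul, hy m]
  · intro hx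
    refine ⟨R.equiv.symm x, Subgroup.mem_center_iff.2 fun m => R.equiv.injective ?_, by simp⟩
    simpa using hx (R.equiv m)

end CfsgLib.Sp4Odd.Q
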