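import Mathlib.Data.ZMod.Basic
import Mathlib.Data.List.GetD

/-!
A set of 120 points of projective three-space over the field with seven elements and three maps preserving it.
-/

set_option autoImplicit false

namespace CfsgLib.Sp4Odd.Q.SymSeven

/-- Coordinate quadruples. -/
abbrev Q := ZMod 7 × ZMod 7 × ZMod 7 × ZMod 7

def eS : Q → Q := fun (a, b, c, d) => (a + b + c + d, b + 2 * c + 3 * d, c + 3 * d, d)

def wS : Q → Q := fun (a, b, c, d) => (d, -c, b, -a)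

def kS : Q → Q := fun (a, b, c, d) => (a + 2 * d, b, c, 2 * a + 5 * d)

def tS : Q → Q := fun (a, b, c, d) => (a + d, b, c, d)

def smulQ (r : ZMod 7) : Q → Q := fun (a, b, c, d) => (r * a, r * b, r * c, r * d)

def pts : List Q := [(0, 0, 0, 1), (0, 1, 0, 3), (0, 1, 0, 5), (0, 1, 0, 6), (0, 1, 1, 0), (0, 1, 1, 1), (0, 1, 1, 5), (0, 1, 2, 0), (0, 1, 2, 4), (0, 1, 2, 6), (0, 1, 3, 0), (0, 1, 3, 2), (0, 1, 3, 3), (0, 1, 4, 0), (0, 1, 4, 2), (0, 1, 4, 3), (0, 1, 5, 0), (0, 1, 5, 4), (0, 1, 5, 6), (0, 1, 6, 0), (0, 1, 6, 1), (0, 1, 6, 5), (1, 0, 0, 0), (1, 0, 0, 1), (1, 0, 0, 2), (1, 0, 0, 3), (1, 0, 0, 6), (1, 0, 1, 1), (1, 0, 2, 1), (1, 0, 3, 0), (1, 0, 3, 2), (1, 0, 4, 1), (1, 0, 5, 0), (1, 0, 5, 2), (1, 0, 6, 0), (1, 0, 6, 2), (1, 1, 0, 3), (1, 1, 1, 0), (1, 1, 1, 2), (1, 1, 2, 6), (1, 1, 3, 3), (1, 1, 3, 5), (1, 1, 4, 1), (1, 1, 4, 3), (1, 1, 5, 0), (1,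 1, 5, 1), (1, 1, 5, 2), (1, 1, 5, 5), (1, 1, 5, 6), (1, 1, 6, 5), (1, 2, 0, 3), (1, 2, 1, 6), (1, 2, 2, 1), (1, 2, 2, 3), (1, 2, 3, 5), (1, 2, 4, 0), (1, 2, 4, 2), (1, 2, 5, 3), (1, 2, 5, 5), (1, 2, 6, 0), (1, 2, 6, 1), (1, 2, 6, 2), (1, 2, 6, 5), (1, 2, 6, 6), (1, 3, 0, 6), (1, 3, 1, 1), (1, 3, 1, 6), (1, 3, 2, 0), (1, 3, 2, 2), (1, 3, 3, 0), (1, 3, 3, 1), (1, 3, 3, 2), (1, 3, 3, 3), (1, 3, 3, 4), (1, 3, 4, 3), (1, 3, 5, 4), (1, 3, 6, 4), (1, 3, 6, 6), (1, 4, 0, 3), (1, 4, 1, 1), (1, 4, 1, 3), (1, 4, 2, 0), (1, 4, 2, 2), (1, 4, 3, 0), (1, 4, 3, 1), (1, 4, 3, 2), (1, 4, 3, 5), (1, 4, 3, 6), (1, 4, 4, 6), (1, 4, 5, 5), (1, 4, 6, 3), (1, 4, 6, 5), (1, 5, 0, 6), (1, 5, 1, 3), (1, 5, 2, 1), (1, 5, 2, 6), (1, 5, 3, 4), (1, 5, 4, 0), (1, 5, 4, 2), (1, 5, 5, 4), (1, 5, 5, 6), (1, 5, 6, 0), (1, 5, 6, 1), (1, 5, 6, 2), (1, 5, 6, 3), (1, 5, 6, 4), (1, 6, 0, 6), (1,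 6, 1, 0), (1, 6, 1, 2), (1, 6, 2, 3), (1, 6, 3, 4), (1, 6, 3, 6), (1, 6, 4, 1), (1, 6, 4, 6), (1, 6, 5, 0), (1, 6, 5, 1), (1, 6, 5, 2), (1, 6, 5, 3), (1, 6, 5, 4), (1, 6, 6, 4)]

def eSWit : List (ZMod 7 × ℕ) := [(1, 70), (4, 113), (6, 103), (5, 17), (2, 97), (3, 62), (4, 15), (3, 83), (3, 3), (2, 40), (4, 34), (6, 47), (2, 21), (5, 114), (1, 11), (1, 90), (6, 67), (3, 66), (5, 76), (6, 4), (1, 52), (5, 23), (1, 22), (2, 99), (3, 53), (4, 88), (4, 6), (3, 91), (4, 30), (4, 101), (6, 58), (6, 64), (6, 81), (1, 56), (5, 13), (2, 60), (5, 61), (3, 44), (5, 106), (3, 68), (1, 57), (3, 105), (5, 1), (2, 54), (4, 10), (1, 27), (2, 94), (5, 42), (6, 115), (6, 24), (6, 75), (3, 98), (6, 95), (1, 43), (4, 80), (3, 19), (2, 45), (4, 26), (6, 38), (2, 29), (3, 41), (4, 96), (1, 2), (1, 87), (3, 35), (6, 111), (4, 86), (6, 32), (1, 108), (2, 16), (1, 102), (2, 79), (3,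 112), (4, 28), (4, 100), (6, 74), (6, 12), (2, 117), (1, 109), (2, 8), (2, 89), (1, 7), (2, 31), (1, 69), (2, 73), (3, 72), (6, 71), (6, 0), (1, 51), (1, 49), (4, 9), (2, 92), (5, 118), (3, 65), (2, 119), (6, 5), (6, 104), (3, 59), (5, 39), (1, 110), (3, 85), (5, 55), (6, 48), (2, 20), (1, 93), (2, 82), (6, 84), (1, 37), (3, 25), (5, 46), (3, 18), (2, 36), (5, 50), (3, 116), (5, 107), (6, 63), (1, 14), (1, 78), (2, 33), (3, 77)]

def wSWit : List (ZMod 7 × ℕ) := [(1, 22), (3, 32), (5, 29), (6, 34), (6, 19), (1, 107), (5, 83), (5, 10), (4, 67), (6, 59), (4, 7), (2, 55), (3, 114), (3, 16), (2, 97), (3, 44), (2, 13), (4, 81), (6, 101), (1, 4), (1, 37), (5, 69), (6, 0), (1, 26), (2, 25), (3, 24), (6, 23), (1, 106), (1, 92), (4, 2), (2, 50), (1, 64), (2, 1), (2, 36), (1, 3), (2, 78), (3, 33), (6, 20), (2, 74), (6, 60), (3, 116), (5, 96), (1, 66), (3, 46), (2,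 15), (1, 51), (2, 43), (5, 110), (6, 102), (5, 73), (3, 30), (6, 45), (1, 95), (3, 85), (5, 105), (3, 11), (2, 93), (3, 71), (5, 119), (1, 9), (1, 39), (2, 80), (5, 76), (6, 115), (6, 31), (1, 111), (6, 42), (5, 8), (2, 117), (4, 21), (1, 87), (2, 57), (3, 108), (4, 49), (3, 38), (4, 91), (4, 62), (6, 112), (3, 35), (1, 113), (3, 61), (5, 17), (2, 109), (4, 6), (1, 88), (2, 53), (5, 99), (6, 70), (6, 84), (5, 118), (3, 103), (5, 75), (6, 28), (3, 56), (1, 100), (6, 52), (4, 41), (3, 14), (2, 104), (4, 86), (6, 94), (1, 18), (1, 48), (2, 90), (3, 98), (4, 54), (6, 27), (6, 5), (2, 72), (3, 82), (4, 47), (6, 65), (1, 77), (6, 79), (2, 12), (1, 63), (2, 40), (3, 68), (4, 89), (4, 58)]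

def kSWit : List (ZMod 7 × ℕ) := [(2, 26), (6, 106), (3, 92), (5, 64), (1, 4), (2, 88), (3, 100), (1, 7), (1, 39), (5, 77), (1, 10), (4, 63), (6, 113), (1, 13), (4, 51), (6, 111), (1, 16), (1, 48), (5, 66), (1, 19), (2, 87), (3, 95), (1, 24), (3, 22), (5, 23), (3, 0), (6, 25), (3, 32), (3, 29), (1, 30), (5, 28), (3, 34), (1, 33), (5, 27), (1, 35), (5, 31), (1, 1), (1, 38), (5, 70), (6, 117), (1, 12), (4, 62), (3, 101), (1, 15), (1, 46), (3, 97), (5, 65), (4, 54), (6, 109), (4, 58), (2, 2), (6, 104), (3, 69), (2, 6), (4, 91), (1, 56), (5, 115), (2, 21), (4, 86), (1, 61), (3, 67), (5, 112), (4, 89), (6, 93), (6, 78), (3, 44), (6, 90), (1, 68), (5, 60), (1, 71), (3, 37), (5, 52), (3, 5), (2, 99), (3, 20), (2, 105), (2, 96), (6, 80), (4, 3), (3, 114), (4, 9), (1, 82), (5, 102), (1, 85), (3, 107), (5, 94), (4, 49), (6, 74), (6, 72), (4, 41), (4, 18), (4, 47),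 (6, 50), (5, 11), (3, 83), (6, 57), (2, 118), (1, 98), (5, 45), (2, 119), (6, 53), (1, 103), (3, 81), (5, 42), (5, 14), (2, 110), (6, 36), (1, 108), (5, 84), (6, 17), (2, 75), (6, 43), (3, 59), (6, 40), (1, 116), (3, 55), (5, 79), (6, 8), (2, 76), (2, 73)]

def check (f : Q → Q) (w : List (ZMod 7 × ℕ)) : Bool :=
  decide (pts.map f = w.map fun e => smulQ e.1 (pts.getD e.2 (0, 0, 0, 0))) &&
    w.all fun e => decide (e.2 < 120 ∧ e.1 ≠ 0)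

set_option maxHeartbeats 2000000 in
theorem check_e : check eS eSWit = true := by decide +kernel

set_option maxHeartbeats 2000000 in
theorem check_w : check wS wSWit = true := by decide +kernel

set_option maxHeartbeats 2000000 in
theorem check_k : check kS kSWit = true := by decide +kernel

theorem mem_of_check {f : Q → Q} {w : List (ZMod 7 × ℕ)} (h : check f w = true) {q : Q} (hq : q ∈ pts) :
    ∃ r : ZMod 7, r ≠ 0 ∧ ∃ q' ∈ pts, f q = smulQ r q' := by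
  obtain ⟨h1, h2⟩ := Bool.and_eq_true_iff.1 h
  have h1 := of_decide_eq_true h1
  obtain ⟨e, he, hfe⟩ := List.mem_map.1 (h1 ▸ List.mem_map_of_mem (f := f) hq)
  have h2 := of_decide_eq_true (List.all_eq_true.1 h2 e he)
  have hl : e.2 < pts.length := lt_of_lt_of_eq h2.1 (by decide +kernel)
  exact ⟨e.1, h2.2, pts[e.2], List.getElem_mem hl, by rw [← hfe, List.getD_eq_getElem _ _ hl]⟩

theorem mem_zero : ((1, 0, 0, 0) : Q) ∈ pts := by decide +kernel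

theorem mem_moved : ((0, 1, 0, 3) : Q) ∈ pts := by decide +kernel

theorem moved : ∀ r : ZMod 7, ∀ q ∈ pts, tS (0, 1, 0, 3) ≠ smulQ r q := by decide +kernel

theorem kS_new : ∀ r x : ZMod 7,
    kS (1, 0, 0, 0) ≠ smulQ r (1, 0, 0, 0) ∧ kS (1, 0, 0, 0) ≠ smulQ r (x * x * x, 3 * x * x, 3 * x, 1) := by
  decide +kernel

end CfsgLib.Sp4Odd.Q.SymSeven
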