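import Cfsg.Agent.Lib.Sp4Odd.Q.Unipotent

/-!
The fixed space of the unitriangular group is a line.
-/

set_option autoImplicit false
set_option linter.unusedSectionVars false
set_option maxHeartbeats 1000000

namespace CfsgLib.Sp4Odd.Q

open Matrix Module

variable {F : Type*} [Field F]

local notation "S4" => (Fin 2 ⊕ Fin 2)
local notation "V4" => (Fin 2 ⊕ Fin 2 → F)
local notation "M2" => Matrix (Fin 2) (Fin 2) F
local notation "fs" => Cfsg.sympForm 2 F

/-- An additive map into two by two matrices compatible with inversion has commuting values. -/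
theorem hua_powers {K : Type} [Field K] (h2F : (2 : F) ≠ 0) (J : K → M2) (hadd : ∀ x y, J (x + y) = J x + J y)
    (hone : J 1 = 1) (hinv : ∀ x, x ≠ 0 → J x * J x⁻¹ = 1) (θ : K) (n : ℕ) : J (θ ^ n) = J θ ^ n := by
  have h0 : J 0 = 0 := by
    have := hadd 0 0
    rw [add_zero] at this
    exact left_eq_add.1 this
  have hinv' : ∀ x, x ≠ 0 → J x⁻¹ * J x = 1 := fun x hx => by
    have := hinv x⁻¹ (inv_ne_zero hx); rwa [inv_inv] at this
  have hsub : ∀ x y, J (x - y) = J x - J y := fun x y => by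
    rw [eq_sub_iff_add_eq, ← hadd, sub_add_cancel]
  have hsq : ∀ x, J (x * x) = J x * J x := by
    intro x
    rcases eq_or_ne x 0 with rfl | hx
    · rw [mul_zero, h0, mul_zero]
    rcases eq_or_ne x 1 with rfl | hx1
    · rw [mul_one, hone, mul_one]
    have hx1' : (1 : K) - x ≠ 0 := sub_ne_zero.2 hx1.symm
    have hne : x - x * x ≠ 0 := by
      rw [show x - x * x = x * (1 - x) by ring]; exact mul_ne_zero hx hx1'
    have e : (x - x * x)⁻¹ = x⁻¹ + (1 - x)⁻¹ := by field_simp; ring
    have hL : J x * J (x - x * x)⁻¹ * J (1 - x) = 1 := by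
      rw [e, hadd, mul_add, add_mul, hinv x hx, one_mul, mul_assoc, hinv' _ hx1', mul_one, hsub, hone]
      abel
    have hA : J (x - x * x) = J (1 - x) * J x := by
      have h1 : J (x - x * x)⁻¹ = J x⁻¹ * J (1 - x)⁻¹ := by
        calc J (x - x * x)⁻¹ = J x⁻¹ * (J x * J (x - x * x)⁻¹ * J (1 - x)) * J (1 - x)⁻¹ := by
              simp only [← mul_assoc, hinv' x hx, one_mul]
              rw [mul_assoc, hinv _ hx1', mul_one]
          _ = _ := by rw [hL, mul_one]
      calc J (x - x * x) = J (x - x * x) * (J (x - x * x)⁻¹ * (J (1 - x) * J x)) := by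
            rw [h1, mul_assoc (J x⁻¹), ← mul_assoc (J (1 - x)⁻¹), hinv' _ hx1', one_mul, hinv' x hx, mul_one]
        _ = _ := by rw [← mul_assoc, hinv _ hne, one_mul]
    rw [hsub, hsub, hone, sub_mul, one_mul] at hA
    exact sub_right_injective hA
  induction n with
  | zero => rw [pow_zero, pow_zero, hone]
  | succ n ih =>
    have h := hsq (θ ^ n + θ)
    rw [hadd, show (θ ^ n + θ) * (θ ^ n + θ) = (θ ^ n * θ ^ n + θ * θ) + (θ ^ (n + 1) + θ ^ (n + 1)) by ring,
      hadd, hadd, hadd, hsq, hsq, ih, add_mul, mul_add, mul_add, ← pow_succ, ← pow_succ'] at h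
    have h' : J (θ ^ (n + 1)) + J (θ ^ (n + 1)) = J θ ^ (n + 1) + J θ ^ (n + 1) :=
      add_left_cancel (h.trans (by abel : _ = J θ ^ n * J θ ^ n + J θ * J θ + (J θ ^ (n + 1) + J θ ^ (n + 1))))
    rw [← two_smul F (J (θ ^ (n + 1))), ← two_smul F (J θ ^ (n + 1))] at h'
    exact smul_right_injective M2 h2F h'

variable [Finite F] {K : Type} [Field K] [Fintype K] {P : Subgroup (Matrix.GeneralLinearGroup (Fin 2 ⊕ Fin 2) F)}

theorem Rep.finrank_fixed_le (R : Rep K P) (hP : Core P) (h2K : (2 : K) ≠ 0) : finrank F R.fixed ≤ 2 := by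
  set W := Matrix.toLin' (R.mx wU)
  have hinj : Function.Injective W := fun u v h => R.w_injective hP h2K h
  have hdisj : R.fixed ⊓ R.fixed.map W = ⊥ := by
    rw [Submodule.eq_bot_iff]
    rintro x ⟨hx, u, hu, rfl⟩
    rw [R.w_fixed hP h2K hu hx, map_zero]
  have h := Submodule.finrank_sup_add_finrank_inf_eq R.fixed (R.fixed.map W)
  rw [hdisj, finrank_bot, add_zero, (Submodule.equivMapOfInjective W hinj R.fixed).finrank_eq.symm] at h
  have hle := Submodule.finrank_le (R.fixed ⊔ R.fixed.map W)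
  rw [Module.finrank_fintype_fun_eq_card, Fintype.card_sum, Fintype.card_fin] at hle
  omega

theorem Rep.fixed_ne_two (R : Rep K P) (hP : Core P) (h2K : (2 : K) ≠ 0) (p : ℕ) [Fact p.Prime] [CharP F p]
    [CharP K p] : finrank F R.fixed ≠ 2 := by
  classical
  intro hd
  have h2 := hP.two
  let bU := Module.finBasisOfFinrankEq F R.fixed hd
  set u : Fin 2 → V4 := fun i => (bU i : V4)
  have hu : ∀ i, u i ∈ R.fixed := fun i => (bU i).2
  set v : Fin 2 → V4 := fun i => R.mx wU *ᵥ u i
  have hspanU : ∀ x ∈ R.fixed, ∃ c : Fin 2 → F, x = ∑ i, c i • u i := fun x hx => by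
    refine ⟨fun i => bU.repr ⟨x, hx⟩ i, ?_⟩
    have : ((∑ i, bU.repr ⟨x, hx⟩ i • bU i : R.fixed) : V4) = x := by rw [bU.sum_repr]
    rw [Submodule.coe_sum] at this
    exact this.symm
  have hsumU : ∀ c : Fin 2 → F, ∑ i, c i • u i ∈ R.fixed := fun c =>
    R.fixed.sum_mem fun i _ => R.fixed.smul_mem _ (hu i)
  have hindU : ∀ c : Fin 2 → F, ∑ i, c i • u i = 0 → c = 0 := fun c hc => by
    have : ∑ i, c i • bU i = 0 := Subtype.ext (by simpa [u] using hc)
    exact funext fun i => Fintype.linearIndependent_iff.1 bU.linearIndependent c this i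
  let w : S4 → V4 := Sum.elim u v
  have hli : LinearIndependent F w := by
    rw [Fintype.linearIndependent_iff]
    intro g hg
    rw [Fintype.sum_sum_type] at hg
    have hW : R.mx wU *ᵥ (∑ i, g (Sum.inr i) • u i) = ∑ i, g (Sum.inr i) • v i := by
      rw [Matrix.mulVec_sum]; exact Finset.sum_congr rfl fun i _ => Matrix.mulVec_smul _ _ _
    have hr : ∑ i, g (Sum.inr i) • u i = 0 := R.w_fixed hP h2K (hsumU _) (by
      rw [hW, show ∑ i, g (Sum.inr i) • v i = -∑ i, g (Sum.inl i) • u i from eq_neg_of_add_eq_zero_right hg]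
      exact R.fixed.neg_mem (hsumU _))
    have hl : ∑ i, g (Sum.inl i) • u i = 0 := by
      have h0 : ∑ i, g (Sum.inr i) • v i = 0 := by rw [← hW, hr, Matrix.mulVec_zero]
      have := hg
      simp only [w, Sum.elim_inl, Sum.elim_inr, h0, add_zero] at this
      exact this
    rintro (i | i)
    · exact congrFun (hindU _ hl) i
    · exact congrFun (hindU _ hr) i
  let B := basisOfLinearIndependentOfCardEqFinrank hli (by
    rw [Module.finrank_fintype_fun_eq_card])
  have hB : ∀ i, B i = w i := fun i => by simp [B]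
  let Φ := (Matrix.toLinAlgEquiv' (R := F) (n := S4)).trans (LinearMap.toMatrixAlgEquiv B)
  have hΦ : ∀ (M : Matrix S4 S4 F) i j, Φ M i j = B.repr (M *ᵥ B j) i := fun M i j => by
    simp [Φ, LinearMap.toMatrixAlgEquiv_apply, Matrix.toLinAlgEquiv'_apply]
  have hrepU : ∀ (c : Fin 2 → F) (i : S4), B.repr (∑ k, c k • u k) i = Sum.elim c 0 i := fun c i => by
    have e : ∑ k, c k • u k = ∑ k : S4, (Sum.elim c 0 k) • B k := by
      simp [Fintype.sum_sum_type, hB, w]
    rw [e, B.repr_sum_self]
  -- isotropy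
  have hWf : ∀ x y, fs (R.mx wU *ᵥ x) (R.mx wU *ᵥ y) = fs x y := R.form hP wU
  have hef : ∀ x z, ∀ a ∈ R.fixed, fs (R.mx (eU x) *ᵥ z - z) a = 0 := fun x z a ha => by
    rw [form_sub_left, sub_eq_zero]
    conv_lhs => rw [← ha x]
    exact R.form hP _ z a
  have hiso : ∀ a ∈ R.fixed, ∀ b ∈ R.fixed, fs a b = 0 := by
    have h01 : fs (u 0) (u 1) = 0 := by
      by_contra hne
      have hfix : ∀ z : V4, (∀ a ∈ R.fixed, fs z a = 0) → z ∈ R.fixed := by
        intro z hz x
        -- the orthogonal of the fixed space is invariant and fixed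
        by_contra hne'
        let Up : Submodule F V4 := perp (u 0) ⊓ perp (u 1)
        have hUp : ∀ y, y ∈ Up ↔ ∀ a ∈ R.fixed, fs y a = 0 := fun y => by
          constructor
          · intro hy a ha
            obtain ⟨c, rfl⟩ := hspanU a ha
            rw [Fin.sum_univ_two, form_add, form_smul, form_smul, mem_perp.1 hy.1, mem_perp.1 hy.2, mul_zero, mul_zero,
              add_zero]
          · exact fun hy => ⟨hy _ (hu 0), hy _ (hu 1)⟩
        obtain ⟨y, hyU, hy0, hy⟩ := exists_common_zero (fun x : K => R.mx (eU x) - 1) p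
          (fun x => R.nilpotent p x) R.eU_comm (A := ⊥) (B := Up)
          (fun h => hne' (by rw [(Submodule.mem_bot F).1 (h ((hUp z).2 hz)), Matrix.mulVec_zero]))
          (fun x v hv => by rw [(Submodule.mem_bot F).1 hv, Matrix.mulVec_zero]; exact Submodule.zero_mem _)
          (fun x v hv => by
            rw [hUp] at hv ⊢
            intro a ha
            rw [Matrix.sub_mulVec, Matrix.one_mulVec]
            exact hef x v a ha) Finset.univ
        have hyf : y ∈ R.fixed := fun x => by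
          have := (Submodule.mem_bot F).1 (hy x (Finset.mem_univ x))
          rwa [Matrix.sub_mulVec, Matrix.one_mulVec, sub_eq_zero] at this
        obtain ⟨c, hc⟩ := hspanU y hyf
        have e0 := (hUp y).1 hyU _ (hu 1)
        have e1 := (hUp y).1 hyU _ (hu 0)
        rw [hc, Fin.sum_univ_two, form_add_left, form_smul_left, form_smul_left, form_self h2] at e0 e1
        rw [form_antisymm (u 1) (u 0)] at e1
        simp only [mul_zero, add_zero, zero_add, mul_neg, neg_eq_zero, mul_eq_zero, hne, or_false] at e0 e1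
        exact hy0 (by rw [hc, Fin.sum_univ_two, e0, e1, zero_smul, zero_smul, add_zero]; exact Submodule.zero_mem _)
      -- the orthogonal lies in the fixed space, so it is zero, but it has dimension two
      have hlt := Submodule.finrank_sup_add_finrank_inf_eq (perp (u 0)) (perp (u 1))
      have hle := Submodule.finrank_le (perp (u 0) ⊔ perp (u 1))
      rw [Module.finrank_fintype_fun_eq_card, Fintype.card_sum, Fintype.card_fin] at hle
      have hu0 : ∀ i, u i ≠ 0 := fun i e => hne (by fin_cases i <;> simp_all [form_zero_left, form_zero_right])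
      rw [finrank_perp (hu0 0), finrank_perp (hu0 1)] at hlt
      haveI := Module.nontrivial_of_finrank_pos (R := F) (M := (perp (u 0) ⊓ perp (u 1) : Submodule F V4)) (by omega)
      obtain ⟨⟨z, hz⟩, hz0⟩ := exists_ne (0 : (perp (u 0) ⊓ perp (u 1) : Submodule F V4))
      obtain ⟨c, hc⟩ := hspanU z (hfix z fun a ha => by
        obtain ⟨c, rfl⟩ := hspanU a ha
        rw [Fin.sum_univ_two, form_add, form_smul, form_smul, mem_perp.1 hz.1, mem_perp.1 hz.2, mul_zero, mul_zero,
          add_zero])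
      have e0 := mem_perp.1 hz.2
      have e1 := mem_perp.1 hz.1
      rw [hc, Fin.sum_univ_two, form_add_left, form_smul_left, form_smul_left, form_self h2] at e0 e1
      rw [form_antisymm (u 1) (u 0)] at e1
      simp only [mul_zero, add_zero, zero_add, mul_neg, neg_eq_zero, mul_eq_zero, hne, or_false] at e0 e1
      exact hz0 (Subtype.ext (by
        show z = 0
        rw [hc, Fin.sum_univ_two, e0, e1, zero_smul, zero_smul, add_zero]))
    intro a ha b hb
    obtain ⟨c, rfl⟩ := hspanU a ha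
    obtain ⟨e, rfl⟩ := hspanU b hb
    simp only [Fin.sum_univ_two, form_add, form_add_left, form_smul, form_smul_left, form_self h2, h01,
      form_antisymm (u 1) (u 0)]
    ring
  -- unitriangular elements in the basis
  have hE : ∀ x, ∀ z, R.mx (eU x) *ᵥ z - z ∈ R.fixed := by
    intro x z
    set q := R.mx (eU x) *ᵥ z - z
    have hqa : ∀ a ∈ R.fixed, fs q a = 0 := hef x z
    obtain ⟨c, hc⟩ : ∃ c : S4 → F, q = ∑ i, c i • B i := ⟨fun i => B.repr q i, (B.sum_repr q).symm⟩
    set y := ∑ i, c (Sum.inr i) • u i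
    have hq : q = (∑ i, c (Sum.inl i) • u i) + R.mx wU *ᵥ y := by
      rw [hc, Fintype.sum_sum_type, Matrix.mulVec_sum]
      simp [hB, w, v, Matrix.mulVec_smul]
    have hy : R.mx wU *ᵥ y = 0 := by
      refine form_nondeg_basis B fun i => ?_
      rcases i with i | i
      · rw [hB]
        have := hqa _ (hu i)
        rw [hq, form_add_left, hiso _ (hsumU _) _ (hu i), zero_add] at this
        exact this
      · rw [hB]
        show fs _ (R.mx wU *ᵥ u i) = 0
        rw [hWf, hiso _ (hsumU _) _ (hu i)]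
    rw [hq, hy, add_zero]
    exact hsumU _
  let S : K → M2 := fun x i j => B.repr (R.mx (eU x) *ᵥ v j - v j) (Sum.inl i)
  have he : ∀ x, Φ (R.mx (eU x)) = Matrix.fromBlocks 1 (S x) 0 1 := fun x => by
    ext i j
    rw [hΦ]
    rcases j with j | j
    · rw [show R.mx (eU x) *ᵥ B (Sum.inl j) = B (Sum.inl j) by rw [hB]; exact hu j x, B.repr_self]
      rcases i with i | i <;> simp [Finsupp.single_apply, Matrix.one_apply, eq_comm]
    · rw [hB, show R.mx (eU x) *ᵥ w (Sum.inr j) = (R.mx (eU x) *ᵥ v j - v j) + B (Sum.inr j) by simp [hB, w],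
        map_add, Finsupp.add_apply, B.repr_self]
      rcases i with i | i
      · rw [Finsupp.single_apply, if_neg (by simp), add_zero]
        rfl
      · obtain ⟨c, hc⟩ := hspanU _ (hE x (v j))
        rw [hc, hrepU]
        simp [Finsupp.single_apply, Matrix.one_apply, eq_comm]
  have hw : Φ (R.mx wU) = Matrix.fromBlocks 0 (-1) 1 0 := by
    ext i j
    rw [hΦ, hB]
    rcases j with j | j
    · rw [show R.mx wU *ᵥ w (Sum.inl j) = B (Sum.inr j) by rw [hB]; rfl, B.repr_self]
      rcases i with i | i <;> simp [Finsupp.single_apply, Matrix.one_apply, eq_comm]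
    · rw [show R.mx wU *ᵥ w (Sum.inr j) = -B (Sum.inl j) by rw [hB]; exact R.wsq_vec hP h2K _, map_neg,
        Finsupp.neg_apply, B.repr_self]
      rcases i with i | i <;> simp [Finsupp.single_apply, Matrix.one_apply, eq_comm]
  have hS : ∀ x y, S (x + y) = S x + S y := fun x y => by
    have h := congrArg Φ (congrArg R.mx (eU_mul x y))
    rw [R.mx_mul, map_mul, he, he, he, Matrix.fromBlocks_multiply] at h
    have := (Matrix.fromBlocks_inj.1 h).2.1
    simpa [add_comm] using this.symm
  have hf : ∀ y, Φ (R.mx (fU y)) = Matrix.fromBlocks 1 0 (S y) 1 := fun y => by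
    have h := congrArg Φ (congrArg R.mx (wU_eU (-y)))
    rw [R.mx_mul, R.mx_mul, map_mul, map_mul, hw, he, neg_neg, Matrix.fromBlocks_multiply] at h
    have hS0 : S (-y) = -S y := by
      have h0 : S 0 = 0 := left_eq_add.1 (by rw [← hS, add_zero] : S 0 = S 0 + S 0)
      exact eq_neg_of_add_eq_zero_left (by rw [← hS, neg_add_cancel, h0])
    have hm : (Matrix.fromBlocks 0 (-1) 1 0 : Matrix S4 S4 F) * Matrix.fromBlocks 0 1 (-1) 0 = 1 := by
      simp [Matrix.fromBlocks_multiply, Matrix.fromBlocks_one]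
    calc Φ (R.mx (fU y)) = Φ (R.mx (fU y)) * (Matrix.fromBlocks 0 (-1) 1 0 * Matrix.fromBlocks 0 1 (-1) 0) := by
          rw [hm, mul_one]
      _ = _ := by
          rw [← mul_assoc, ← h, Matrix.fromBlocks_multiply, hS0]
          simp
  have ht : ∀ (a : K) (ha : a ≠ 0), ∀ j, R.mx (tU a ha) *ᵥ u j ∈ R.fixed := fun a ha j x => by
    have hsolve : eU x * tU a ha = tU a ha * eU ((a * a)⁻¹ * x) := by
      rw [tU_eU]; congr 2; field_simp
    rw [← R.mx_apply, hsolve, R.mx_apply, hu j]
  have hrel : ∀ x, x ≠ 0 → S x * S (x⁻¹) = 1 := by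
    intro x hx
    have hm : eU x * fU (-x⁻¹) * eU x = wU * tU x⁻¹ (inv_ne_zero hx) := Subtype.ext (by
      show !![1, x; 0, 1] * !![1, 0; -x⁻¹, 1] * !![1, x; 0, 1] = !![0, 1; -1, 0] * !![x⁻¹, 0; 0, x⁻¹⁻¹]
      ext i j
      fin_cases i <;> fin_cases j <;> simp [Matrix.mul_apply, Fin.sum_univ_two, hx])
    have h := congrArg Φ (congrArg R.mx hm)
    rw [R.mx_mul, R.mx_mul, R.mx_mul, map_mul, map_mul, map_mul, he, hf, hw, Matrix.fromBlocks_multiply,
      Matrix.fromBlocks_multiply] at h
    set T := Φ (R.mx (tU x⁻¹ (inv_ne_zero hx)))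
    have hT : T.toBlocks₂₁ = 0 := by
      ext i j
      show T (Sum.inr i) (Sum.inl j) = 0
      simp only [T, hΦ, hB, w, Sum.elim_inl]
      obtain ⟨c, hc⟩ := hspanU _ (ht x⁻¹ (inv_ne_zero hx) j)
      rw [hc, hrepU]; rfl
    rw [← Matrix.fromBlocks_toBlocks T, Matrix.fromBlocks_multiply] at h
    have h11 := (Matrix.fromBlocks_inj.1 h).1
    rw [hT] at h11
    have hS0 : S (-x⁻¹) = -S x⁻¹ := by
      have h0 : S 0 = 0 := left_eq_add.1 (by rw [← hS, add_zero] : S 0 = S 0 + S 0)
      exact eq_neg_of_add_eq_zero_left (by rw [← hS, neg_add_cancel, h0])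
    simp [hS0] at h11
    rw [← sub_eq_add_neg, sub_eq_zero] at h11
    exact h11.symm
  have hS1 : S 1 = -1 := by
    have h := congrArg Φ (congrArg R.mx (wU_eq (1 : K) rfl))
    rw [R.mx_mul, R.mx_mul, map_mul, map_mul, hw, he, hf, Matrix.fromBlocks_multiply, Matrix.fromBlocks_multiply] at h
    obtain ⟨h11, h12, -, -⟩ := Matrix.fromBlocks_inj.1 h
    simp at h11 h12
    rw [← h11, zero_mul, zero_add] at h12
    exact h12.symm
  let J : K → M2 := fun x => -S x
  have hJ1 : J 1 = 1 := by simp [J, hS1]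
  have hJadd : ∀ x y, J (x + y) = J x + J y := fun x y => by simp [J, hS, neg_add, add_comm]
  have hJinv : ∀ x, x ≠ 0 → J x * J x⁻¹ = 1 := fun x hx => by simp [J, hrel x hx]
  have hcommutant : ∀ C : M2, (∀ x, S x * C = C * S x) → ∃ c : F, C = c • (1 : M2) := by
    intro C hC
    obtain ⟨c, hc⟩ := R.scalar hP (M := Φ.symm (Matrix.fromBlocks C 0 0 C))
      (fun x => Φ.injective (by
        rw [map_mul, map_mul, AlgEquiv.apply_symm_apply, he]
        simp [Matrix.fromBlocks_multiply, hC x]))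
      (fun x => Φ.injective (by
        rw [map_mul, map_mul, AlgEquiv.apply_symm_apply, hf]
        simp [Matrix.fromBlocks_multiply, hC x]))
    refine ⟨c, ?_⟩
    have := congrArg Φ hc
    rw [AlgEquiv.apply_symm_apply, map_smul, map_one, ← Matrix.fromBlocks_one, Matrix.fromBlocks_smul] at this
    exact (Matrix.fromBlocks_inj.1 this).1
  obtain ⟨θ, hθ⟩ := IsCyclic.exists_generator (α := Kˣ)
  have hpow : ∀ x : K, x ≠ 0 → ∃ n : ℕ, J x = J (θ : K) ^ n := fun x hx => by
    obtain ⟨n, hn⟩ := (mem_powers_iff_mem_zpowers).2 (hθ (Units.mk0 x hx))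
    refine ⟨n, ?_⟩
    rw [← hua_powers h2 J hJadd hJ1 hJinv (θ : K) n, ← Units.val_pow_eq_pow_val]
    congr 1
    exact (congrArg Units.val hn).symm
  have hS0' : S 0 = 0 := left_eq_add.1 (by rw [← hS, add_zero] : S 0 = S 0 + S 0)
  obtain ⟨c, hc⟩ := hcommutant (J (θ : K)) fun x => by
    rcases eq_or_ne x 0 with rfl | hx
    · simp [hS0']
    obtain ⟨n, hn⟩ := hpow x hx
    rw [show S x = -J x by simp [J], hn]
    simp [(Commute.self_pow (J (θ : K)) n).eq]
  obtain ⟨e, he'⟩ := hcommutant (Matrix.single 0 0 1) fun x => by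
    rcases eq_or_ne x 0 with rfl | hx
    · simp [hS0']
    obtain ⟨n, hn⟩ := hpow x hx
    rw [show S x = -J x by simp [J], hn, hc, smul_pow, one_pow]
    simp
  have h00 := congrFun (congrFun he' 0) 0
  have h11 := congrFun (congrFun he' 1) 1
  simp at h00 h11
  rw [← h00] at h11
  exact one_ne_zero h11.symm

theorem Rep.finrank_fixed (R : Rep K P) (hP : Core P) (h2K : (2 : K) ≠ 0) (p : ℕ) [Fact p.Prime] [CharP F p]
    [CharP K p] : finrank F R.fixed = 1 := by
  obtain ⟨a, ha, ha0⟩ := R.exists_fixed p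
  have h1 := R.finrank_fixed_le hP h2K
  have h2 := R.fixed_ne_two hP h2K p
  haveI : Nontrivial R.fixed := ⟨⟨a, ha⟩, 0, fun e => ha0 (congrArg Subtype.val e)⟩
  have h3 : 0 < finrank F R.fixed := Module.finrank_pos
  omega

end CfsgLib.Sp4Odd.Q
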