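import Cfsg.Agent.Lib.Sp4Odd.Q.Frame
import Cfsg.Agent.Lib.Sp4Odd.Q.Rho

/-!
The symplectic elements preserving six vectors up to a common sign.
-/

set_option autoImplicit false
set_option linter.unusedSectionVars false
set_option maxHeartbeats 1000000

namespace CfsgLib.Sp4Odd.Q

open Matrix Equiv

variable {F : Type*} [Field F]

local notation "M4" => Matrix (Fin 2 ⊕ Fin 2) (Fin 2 ⊕ Fin 2) F
local notation "G4" => Matrix.GeneralLinearGroup (Fin 2 ⊕ Fin 2) F

variable {ι : Type} [Fintype ι] [DecidableEq ι] {v : ι → Matrix (Fin 2 ⊕ Fin 2) (Fin 2 ⊕ Fin 2) F} {d : F}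

/-- The elements permuting the vectors up to a common sign. -/
def signStab (v : ι → Matrix (Fin 2 ⊕ Fin 2) (Fin 2 ⊕ Fin 2) F) :
    Subgroup (Matrix.GeneralLinearGroup (Fin 2 ⊕ Fin 2) F) where
  carrier := {g | g ∈ Cfsg.spGL 2 F ∧ ∃ (σ : Perm ι) (r : F), r * r = 1 ∧ ∀ i, ad g (v i) = r • v (σ i)}
  one_mem' := ⟨one_mem _, 1, 1, one_mul 1, fun i => by rw [ad_one, one_smul]; rfl⟩
  mul_mem' := by
    rintro g k ⟨hg, σ, r, hr, hgv⟩ ⟨hk, τ, s, hs, hkv⟩
    refine ⟨mul_mem hg hk, σ * τ, s * r, by linear_combination (r * r) * hs + hr, fun i => ?_⟩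
    rw [ad_mul, hkv, map_smul, hgv, smul_smul]
    rfl
  inv_mem' := by
    rintro g ⟨hg, σ, r, hr, hgv⟩
    refine ⟨inv_mem hg, σ⁻¹, r, hr, fun i => ?_⟩
    have h := congrArg (fun A => r • ad g⁻¹ A) (hgv (σ⁻¹ i))
    simp only [map_smul, smul_smul, hr, one_smul, ← ad_mul, inv_mul_cancel, ad_one,
      show σ (σ⁻¹ i) = i from σ.apply_symm_apply i] at h
    exact h.symm

theorem signStab_le (v : ι → Matrix (Fin 2 ⊕ Fin 2) (Fin 2 ⊕ Fin 2) F) :
    signStab v ≤ Cfsg.spGL 2 F := fun _ h => h.1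

/-- Some symplectic element sends a vector to a combination of three of them. -/
theorem Frame.exists_far (hf : Frame v d) :
    ∃ (g : G4) (a b c : ι), g ∈ Cfsg.spGL 2 F ∧ a ≠ b ∧ a ≠ c ∧ b ≠ c ∧
      (4 : F) • ad g (v b) = (-3 : F) • v a - v b + (2 : F) • v c := by
  classical
  obtain ⟨e⟩ : Nonempty (Fin 6 ≃ ι) := ⟨(Fintype.equivFinOfCardEq hf.card).symm⟩
  have hab : e 0 ≠ e 1 := fun h => absurd (e.injective h) (by decide)
  have hac : e 0 ≠ e 2 := fun h => absurd (e.injective h) (by decide)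
  have hbc : e 1 ≠ e 2 := fun h => absurd (e.injective h) (by decide)
  set a := e 0; set b := e 1; set c := e 2
  have hA : InW (v a + v b) := show v a + v b ∈ wSpace from Submodule.add_mem _ (hf.mem a) (hf.mem b)
  have hB : InW (v a + v c) := show v a + v c ∈ wSpace from Submodule.add_mem _ (hf.mem a) (hf.mem c)
  have hq : ∀ x y, x ≠ y → qW (v x + v y) = -8 * d := fun x y h => by
    rw [← bW_self hf.h2, bW_add, bW_comm (v x + v y), bW_comm (v x + v y), bW_add, bW_add, hf.self, hf.self,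
      hf.off x y h, hf.off y x h.symm]
    ring
  have h4 : (4 : F) ≠ 0 := by rw [show (4 : F) = 2 * 2 by norm_num]; exact mul_ne_zero hf.h2 hf.h2
  have h8 : -8 * d ≠ 0 := by
    rw [show (-8 : F) = -(2 * 4) by norm_num]
    exact mul_ne_zero (neg_ne_zero.2 (mul_ne_zero hf.h2 h4)) hf.hd
  obtain ⟨g, hg, -, hact⟩ := exists_pair hf.h2 hA hB (by rw [hq a b hab, hq a c hac]) (by rw [hq a b hab]; exact h8)
  refine ⟨g, a, b, c, hg, hab, hac, hbc, ?_⟩
  have e1 : bW (v a + v c) (v b) = 2 * d := by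
    rw [bW_comm, bW_add, hf.off b a hab.symm, hf.off b c hbc]; ring
  have e2 : bW (v a + v b) (v b) = -4 * d := by
    rw [bW_comm, bW_add, hf.off b a hab.symm, hf.self]; ring
  have e3 : bW (v a + v b) (v a + v c) = -2 * d := by
    rw [bW_add, bW_comm _ (v a), bW_comm _ (v c), bW_add, bW_add, hf.self, hf.off a b hab, hf.off c a hac.symm,
      hf.off c b hbc.symm]
    ring
  rw [hact _ (hf.mem b), e1, hq a c hac, hq a b hab, bW_sub, bW_smul, e2, e3]
  rw [show 2 * (2 * d) / (-8 * d) = (-1 / 2 : F) by rw [div_eq_div_iff h8 hf.h2]; ring]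
  rw [show 2 * (-4 * d - -1 / 2 * (-2 * d)) / (-8 * d) = (5 / 4 : F) by
    rw [div_eq_div_iff h8 h4]
    field_simp [hf.h2]
    ring]
  have h2 := hf.h2
  match_scalars <;> field_simp <;> ring

/-- Such a combination is supported on at most two of the vectors. -/
theorem Frame.combination_ne (hf : Frame v d) {a b c k l : ι} (hab : a ≠ b) (hac : a ≠ c) (hbc : b ≠ c) (s t : F) :
    (-3 : F) • v a - v b + (2 : F) • v c ≠ s • v k + t • v l := by
  classical
  intro h
  obtain ⟨m, hm⟩ : ∃ m, m ∉ ({a, b, c, k, l} : Finset ι) := by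
    by_contra hc'
    push Not at hc'
    have h1 := Finset.card_le_card (fun x (_ : x ∈ Finset.univ) => hc' x)
    have h2 : ({a, b, c, k, l} : Finset ι).card ≤ 5 := Finset.card_le_five
    rw [Finset.card_univ, hf.card] at h1
    omega
  simp only [Finset.mem_insert, Finset.mem_singleton, not_or] at hm
  obtain ⟨hma, hmb, hmc, hmk, hml⟩ := hm
  set f : ι → F := Pi.single a (-3) + Pi.single b (-1) + Pi.single c 2 - Pi.single k s - Pi.single l t with hfd
  have hsum : ∑ i, f i • v i = 0 := by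
    have hs : ∀ (x : ι) (r : F), ∑ i, (Pi.single x r : ι → F) i • v i = r • v x := fun x r => by
      rw [Finset.sum_eq_single x (fun i _ hi => by simp [hi]) (by simp)]
      simp
    simp only [hfd, Pi.sub_apply, Pi.add_apply, sub_smul, add_smul, Finset.sum_sub_distrib, Finset.sum_add_distrib, hs,
      neg_one_smul]
    rw [sub_sub, ← sub_eq_add_neg, h, sub_self]
  have hz : ∀ i, f i = 0 := fun i => by
    rw [hf.coeff_eq hsum i m]
    simp [hfd, hma, hmb, hmc, hmk, hml]
  have hne : ∀ i, i ≠ k → i ≠ l → i ≠ a ∧ i ≠ b ∧ i ≠ c := by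
    intro i hik hil
    have := hz i
    refine ⟨?_, ?_, ?_⟩ <;> rintro rfl <;>
      simp [hfd, hik, hil, hab, hac, hbc, hab.symm, hac.symm, hbc.symm, hf.h3, hf.h2] at this
  have : ∀ i, (i = a ∨ i = b ∨ i = c) → i = k ∨ i = l := fun i hi => by
    by_contra hc'
    push Not at hc'
    obtain ⟨h1, h2, h3⟩ := hne i hc'.1 hc'.2
    rcases hi with e | e | e <;> contradiction
  rcases this a (Or.inl rfl) with e1 | e1 <;> rcases this b (Or.inr (Or.inl rfl)) with e2 | e2 <;>
    rcases this c (Or.inr (Or.inr rfl)) with e3 | e3 <;> subst e1 <;> first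
      | exact hab e2.symm
      | exact hac e3.symm
      | exact hbc (e2.trans e3.symm)

theorem Frame.ne_top (hf : Frame v d) : signStab v ≠ Cfsg.spGL 2 F := fun h => by
  obtain ⟨g, a, b, c, hg, hab, hac, hbc, hval⟩ := hf.exists_far
  rw [← h] at hg
  obtain ⟨-, σ, r, -, hr⟩ := hg
  refine hf.combination_ne hab hac hbc (k := σ b) (l := σ b) ((4 : F) * r) 0 ?_
  rw [zero_smul, add_zero, ← hval, hr, smul_smul]

variable {H P : Subgroup (Matrix.GeneralLinearGroup (Fin 2 ⊕ Fin 2) F)}

/-- A normaliser of the group preserves the vectors up to sign. -/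
theorem Frame.le_signStab (hf : Frame v d) (hP : Core P) (hH : H ≤ Cfsg.spGL 2 F)
    (hnorm : ∀ h ∈ H, ∀ x ∈ P, h * x * h⁻¹ ∈ P) (hact : ∀ g ∈ P, ∃ σ : Perm ι, Act v g σ)
    (hfive : ∀ i, ∃ g ∈ P, ∃ σ : Perm ι, Act v g σ ∧ σ ^ 5 = 1 ∧ σ ≠ 1 ∧ σ i = i) : H ≤ signStab v := by
  classical
  intro h hh
  have hsp := hH hh
  have hpow : ∀ {g : G4} {σ : Perm ι}, Act v g σ → ∀ n : ℕ, Act v (g ^ n) (σ ^ n) := fun {g σ} hg n => by
    induction n with
    | zero => rw [pow_zero, pow_zero]; exact Act.one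
    | succ n ih => rw [pow_succ, pow_succ]; exact ih.mul hg
  have himg : ∀ i, ∃ (j : ι) (r : F), ad h (v i) = r • v j := fun i => by
    obtain ⟨g, hg, σ, hσ, h5, h1, hi⟩ := hfive i
    obtain ⟨σ', hσ'⟩ := hact _ (hnorm h hh g hg)
    have hfix : ad (h * g * h⁻¹) (ad h (v i)) = ad h (v i) := by
      rw [← ad_mul, inv_mul_cancel_right, ad_mul, hσ i, hi]
    have hscal : ∀ {x : G4}, x = 1 ∨ x = -1 → Act v x (1 : Perm ι) := by
      rintro x (rfl | rfl)
      · exact Act.one
      · exact Act.one.neg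
    have hg5 := hf.eq_pm_one (pow_mem (hP.sp hg) 5) (h5 ▸ hpow hσ 5)
    have h5' : σ' ^ 5 = 1 := by
      refine hf.act_unique (hpow hσ' 5) (hscal ?_)
      rw [conj_pow]
      rcases hg5 with e | e <;> rw [e] <;> simp
    have h1' : σ' ≠ 1 := fun e => by
      refine h1 (hf.act_unique hσ (hscal ?_))
      rcases hf.eq_pm_one (hP.sp (hnorm h hh g hg)) (e ▸ hσ') with e' | e'
      · exact Or.inl (conj_eq_one_iff.1 e')
      · refine Or.inr ?_
        calc g = h⁻¹ * (h * g * h⁻¹) * h := by group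
          _ = -1 := by rw [e']; simp
    obtain ⟨j, r, -, hr⟩ := hf.fixed_of_five hσ' h5' h1' (ad_mem hsp (hf.mem i)) hfix
    exact ⟨j, r, hr⟩
  choose π r hπ using himg
  have hadinj : ∀ A : M4, ad h A = 0 → A = 0 := fun A hA => by
    have := congrArg (ad h⁻¹) hA
    rwa [← ad_mul, inv_mul_cancel, ad_one, map_zero] at this
  have hr0 : ∀ i, r i ≠ 0 := fun i e => by
    have h0 := hadinj _ (by rw [hπ, e, zero_smul])
    obtain ⟨j, hj⟩ := Fintype.exists_ne_of_one_lt_card (by rw [hf.card]; norm_num) i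
    have := hf.off i j hj.symm
    rw [h0, bW_comm, bW_zero] at this
    exact hf.hd this.symm
  have hπinj : Function.Injective π := fun i j e => by
    by_contra hij
    have h0 : r j • v i - r i • v j = 0 := hadinj _ (by
      rw [map_sub, map_smul, map_smul, hπ, hπ, e, smul_smul, smul_smul, mul_comm, sub_self])
    set f : ι → F := Pi.single i (r j) - Pi.single j (r i) with hfd
    have hsum : ∑ k, f k • v k = 0 := by
      simp only [hfd, Pi.sub_apply, sub_smul, Finset.sum_sub_distrib]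
      rw [Finset.sum_eq_single i (fun k _ hk => by simp [hk]) (by simp),
        Finset.sum_eq_single j (fun k _ hk => by simp [hk]) (by simp)]
      simpa using h0
    obtain ⟨k, hki, hkj⟩ : ∃ k, k ≠ i ∧ k ≠ j := by
      by_contra hc
      push Not at hc
      have h1 := Finset.card_le_card (s := (Finset.univ : Finset ι)) (t := {i, j}) fun x _ => by
        rcases eq_or_ne x i with rfl | hx
        · simp
        · simp [hc x hx]
      rw [Finset.card_univ, hf.card] at h1
      exact absurd (h1.trans Finset.card_le_two) (by norm_num)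
    have := hf.coeff_eq hsum i k
    simp [hfd, hki, hkj, hij] at this
    exact hr0 j this
  have hrr : ∀ i j, i ≠ j → r i * r j = 1 := fun i j hij => by
    have h1 := bW_ad hf.h2 h (hf.mem i) (hf.mem j)
    rw [hπ, hπ, bW_smul, bW_comm, bW_smul, hf.off _ _ (fun e => hij (hπinj e).symm), hf.off i j hij] at h1
    exact mul_right_cancel₀ hf.hd (by linear_combination h1)
  obtain ⟨i₀⟩ : Nonempty ι := Fintype.card_pos_iff.1 (by rw [hf.card]; norm_num)
  have heq : ∀ i, r i = r i₀ := fun i => by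
    rcases eq_or_ne i i₀ with rfl | hi
    · rfl
    obtain ⟨k, hki, hk0⟩ : ∃ k, k ≠ i ∧ k ≠ i₀ := by
      by_contra hc
      push Not at hc
      have h1 := Finset.card_le_card (s := (Finset.univ : Finset ι)) (t := {i, i₀}) fun x _ => by
        rcases eq_or_ne x i with rfl | hx
        · simp
        · simp [hc x hx]
      rw [Finset.card_univ, hf.card] at h1
      exact absurd (h1.trans Finset.card_le_two) (by norm_num)
    exact mul_right_cancel₀ (hr0 k) ((hrr i k hki.symm).trans (hrr i₀ k hk0.symm).symm)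
  obtain ⟨j, hj⟩ := Fintype.exists_ne_of_one_lt_card (by rw [hf.card]; norm_num) i₀
  refine ⟨hsp, Equiv.ofBijective π ((Finite.injective_iff_bijective).1 hπinj), r i₀, ?_, fun i => ?_⟩
  · have := hrr i₀ j hj.symm
    rwa [heq j] at this
  · rw [hπ, heq i]; rfl

/-- Under maximality every even permutation is induced inside the maximal subgroup. -/
theorem Frame.induced (hf : Frame v d) (hH : Cfsg.Geo.IsMaximalIn (Cfsg.spGL 2 F) H) (hle : H ≤ signStab v)
    {σ : Perm ι} (hσ : σ ∈ alternatingGroup ι) : ∃ g ∈ H, Act v g σ := by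
  rcases hH.2 (signStab v) hle (signStab_le v) with e | e
  · obtain ⟨g, hg, -, hga⟩ := hf.exists_even ⊥ hσ
    refine ⟨g, e ▸ ⟨hg, σ, 1, one_mul 1, fun i => by rw [one_smul]; exact hga i⟩, hga⟩
  · exact absurd e hf.ne_top

end CfsgLib.Sp4Odd.Q
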