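import Cfsg.Agent.Lib.Sp4Odd.Q.Regular
import Cfsg.Agent.Lib.Sp4Odd.Q.SevenPoints

/-!
Over the field with seven elements the image of the symmetric cube is not maximal.
-/

set_option autoImplicit false
set_option linter.unusedSectionVars false
set_option maxHeartbeats 1000000

namespace CfsgLib.Sp4Odd.Q.SymSeven

open Matrix

variable {F : Type*} [Field F] [Fintype F] {K : Type} [Field K] [Fintype K]
  {P : Subgroup (Matrix.GeneralLinearGroup (Fin 2 ⊕ Fin 2) F)}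

local notation "V4" => (Fin 2 ⊕ Fin 2 → F)
local notation "G4" => Matrix.GeneralLinearGroup (Fin 2 ⊕ Fin 2) F
local notation "fs" => Cfsg.sympForm 2 F

theorem three_ne : (3 : ZMod 7) ≠ 0 := by decide

theorem two_ne : (2 : ZMod 7) ≠ 0 := by decide

theorem winv_entry {L : Type} [Field L] (x : L) (n : Matrix.SpecialLinearGroup (Fin 2) L) :
    (wU⁻¹ * (eU (-x) * n)).1 1 0 = n.1 0 0 - x * n.1 1 0 := by
  have hi : (wU : Matrix.SpecialLinearGroup (Fin 2) L)⁻¹ = ⟨!![0, -1; 1, 0], by simp [Matrix.det_fin_two]⟩ :=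
    inv_eq_of_mul_eq_one_right (Subtype.ext (by
      show !![(0 : L), 1; -1, 0] * !![0, -1; 1, 0] = 1
      simp [Matrix.one_fin_two]))
  rw [hi]
  show (!![(0 : L), -1; 1, 0] * (!![1, -x; 0, 1] * n.1)) 1 0 = _
  simp [Matrix.mul_apply, Matrix.vecMul, dotProduct, Fin.sum_univ_two, sub_eq_add_neg]

theorem exists_upper [CharP K 7] {m : Matrix.SpecialLinearGroup (Fin 2) K} (h7 : m ^ 7 = 1) :
    ∃ n : Matrix.SpecialLinearGroup (Fin 2) K, ∃ r : K, m * n = n * eU r := by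
  classical
  haveI : Fact (Nat.Prime 7) := ⟨by norm_num⟩
  haveI : CharP (Matrix (Fin 2) (Fin 2) K) 7 := inferInstance
  have hnil : (m.1 - 1) ^ 7 = 0 := by
    rw [sub_pow_char_of_commute (p := 7) (Commute.one_right _), one_pow, sub_eq_zero]
    simpa using congrArg Subtype.val h7
  have hdet : (m.1 - 1).det = 0 := pow_eq_zero_iff (n := 7) (by norm_num) |>.1 (by
    rw [← Matrix.det_pow, hnil, Matrix.det_zero])
  obtain ⟨v, hv0, hv⟩ := Matrix.exists_mulVec_eq_zero_iff.2 hdet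
  rw [Matrix.sub_mulVec, Matrix.one_mulVec, sub_eq_zero] at hv
  obtain ⟨n, hn0, hn1⟩ : ∃ n : Matrix.SpecialLinearGroup (Fin 2) K, n.1 0 0 = v 0 ∧ n.1 1 0 = v 1 := by
    rcases eq_or_ne (v 0) 0 with h | h
    · have h1 : v 1 ≠ 0 := fun e => hv0 (funext fun i => by fin_cases i <;> simp [h, e])
      exact ⟨⟨!![v 0, -(v 1)⁻¹; v 1, 0], by simp [Matrix.det_fin_two, h1]⟩, rfl, rfl⟩
    · exact ⟨⟨!![v 0, 0; v 1, (v 0)⁻¹], by simp [Matrix.det_fin_two, h]⟩, rfl, rfl⟩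
  set X := n⁻¹ * (m * n) with hX
  have hcol : ∀ i, X.1 i 0 = (1 : Matrix (Fin 2) (Fin 2) K) i 0 := fun i => by
    have e1 : ∀ j, (m.1 * n.1) j 0 = n.1 j 0 := fun j => by
      have := congrFun hv j
      fin_cases j <;> simpa [Matrix.mul_apply, Matrix.mulVec, dotProduct, Fin.sum_univ_two, hn0, hn1] using this
    show ((n⁻¹).1 * (m.1 * n.1)) i 0 = _
    rw [Matrix.mul_apply, Finset.sum_congr rfl fun j _ => by rw [e1 j], ← Matrix.mul_apply,
      show (n⁻¹).1 * n.1 = 1 from congrArg Subtype.val (inv_mul_cancel n)]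
  have hd := X.2
  rw [Matrix.det_fin_two, hcol 0, hcol 1] at hd
  refine ⟨n, X.1 0 1, ?_⟩
  rw [show eU (X.1 0 1) = X from Subtype.ext ?_, hX, mul_inv_cancel_left]
  show !![1, X.1 0 1; 0, 1] = X.1
  ext i j
  fin_cases i <;> fin_cases j <;> simp_all

theorem not_seven (hP : Core P) (R : Rep K P) (C : Cube R) (hφ : Function.Bijective C.φ)
    (hF : Fintype.card F = 7) {H : Subgroup G4} (hH : Cfsg.Geo.IsMaximalIn (Cfsg.spGL 2 F) H) (hPH : P ≤ H)
    (hnorm : ∀ h ∈ H, ∀ x ∈ P, h * x * h⁻¹ ∈ P) : False := by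
  classical
  haveI : Fact (Nat.Prime 7) := ⟨by norm_num⟩
  haveI : CharP F 7 := charP_of_card_eq_prime hF
  haveI : CharP K 7 := (RingHom.charP_iff C.φ C.φ.injective 7).2 inferInstance
  let ι : ZMod 7 →+* F := ZMod.castHom dvd_rfl F
  have hι : Function.Bijective ι :=
    (Fintype.bijective_iff_injective_and_card _).2 ⟨ι.injective, by rw [ZMod.card, hF]⟩
  -- coordinates
  let vq : Q → V4 := fun q => ι q.1 • C.B 0 + ι q.2.1 • C.B 1 + ι q.2.2.1 • C.B 2 + ι q.2.2.2 • C.B 3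
  have hrepr : ∀ v : V4, ∃ q, vq q = v := fun v => by
    choose f hf using fun i => hι.2 (C.B.repr v i)
    refine ⟨(f 0, f 1, f 2, f 3), ?_⟩
    simp only [vq, hf]
    conv_rhs => rw [← C.B.sum_repr v, Fin.sum_univ_four]
  have hvinj : Function.Injective vq := fun q q' h => by
    have hi : ∀ i, C.B.repr (vq q) i = C.B.repr (vq q') i := fun i => by rw [h]
    have h0 := hι.1 (by simpa [vq, map_add, Finsupp.single_apply] using hi 0)
    have h1 := hι.1 (by simpa [vq, map_add, Finsupp.single_apply] using hi 1)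
    have h2 := hι.1 (by simpa [vq, map_add, Finsupp.single_apply] using hi 2)
    have h3 := hι.1 (by simpa [vq, map_add, Finsupp.single_apply] using hi 3)
    ext <;> assumption
  have hsmul : ∀ r q, vq (smulQ r q) = ι r • vq q := fun r q => by
    simp only [vq, smulQ, map_mul]; module
  set δ := fs (C.B 1) (C.B 2)
  have hvq : ∀ q q' : Q, fs (vq q) (vq q') = δ * ι (-3 * (q.1 * q'.2.2.2 - q.2.2.2 * q'.1) +
      (q.2.1 * q'.2.2.1 - q.2.2.1 * q'.2.1)) := fun q q' => by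
    simp only [vq, form_add, form_add_left, form_smul, form_smul_left, form_self hP.two, C.f01, C.f02, C.f13, C.f23,
      C.f03, form_antisymm (C.B 1) (C.B 0), form_antisymm (C.B 2) (C.B 0), form_antisymm (C.B 3) (C.B 0),
      form_antisymm (C.B 2) (C.B 1), form_antisymm (C.B 3) (C.B 1), form_antisymm (C.B 3) (C.B 2), map_add, map_mul,
      map_sub, map_neg, map_ofNat]
    ring
  have h33 : fs (C.B 0) (C.B 3) ≠ 0 := by
    rw [C.f03]; exact mul_ne_zero (neg_ne_zero.2 C.three) C.f12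
  have hφι : ∀ x, ∃ r : ZMod 7, ι r = C.φ x := fun x => hι.2 _
  let eQ : ZMod 7 → Q → Q := fun r q => (q.1 + r * q.2.1 + r * r * q.2.2.1 + r * r * r * q.2.2.2,
    q.2.1 + 2 * r * q.2.2.1 + 3 * (r * r) * q.2.2.2, q.2.2.1 + 3 * r * q.2.2.2, q.2.2.2)
  have hE : ∀ x r, ι r = C.φ x → ∀ q, R.mx (eU x) *ᵥ vq q = vq (eQ r q) := fun x r hr q => by
    simp only [vq, eQ, Matrix.mulVec_add, Matrix.mulVec_smul, C.e0, C.e1, C.e2, C.e3, map_add, map_mul, map_ofNat, hr]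
    module
  have hW : ∀ q, R.mx wU *ᵥ vq q = vq (wS q) := fun q => by
    simp only [vq, wS, Matrix.mulVec_add, Matrix.mulVec_smul, C.w0, C.w1, C.w2, C.w3, map_neg]
    module
  have hE1 : ∀ q, R.mx (eU 1) *ᵥ vq q = vq (eS q) := fun q => by
    rw [hE 1 1 (by simp)]
    congr 1
    simp [eQ, eS]
  have hB : C.B 0 = vq (1, 0, 0, 0) ∧ C.B 3 = vq (0, 0, 0, 1) := by simp [vq]
  have h2K : (2 : K) ≠ 0 := fun e => hP.two (by simpa [map_ofNat] using congrArg C.φ e)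
  -- fixed vectors
  have hfixed : ∀ x, x ≠ 0 → ∀ v, R.mx (eU x) *ᵥ v = v → ∃ θ : F, v = θ • C.B 0 := by
    intro x hx v hv
    obtain ⟨r, hr⟩ := hφι x
    obtain ⟨q, rfl⟩ := hrepr v
    have hr0 : r ≠ 0 := fun e => (map_ne_zero C.φ).2 hx (by rw [← hr, e, map_zero])
    obtain ⟨a, b, c, d⟩ := q
    have h := hvinj ((hE x r hr _).symm.trans hv)
    simp only [eQ, Prod.mk.injEq] at h
    obtain ⟨h1, h2, h3, -⟩ := h
    have h3' := three_ne
    have h2' := two_ne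
    have hd : d = 0 := (mul_eq_zero.1 (add_eq_left.1 h3)).resolve_left (mul_ne_zero h3' hr0)
    subst hd
    have hc : c = 0 := (mul_eq_zero.1 (show 2 * r * c = 0 by linear_combination h2)).resolve_left (mul_ne_zero h2' hr0)
    subst hc
    have hb : b = 0 := (mul_eq_zero.1 (show r * b = 0 by linear_combination h1)).resolve_left hr0
    subst hb
    exact ⟨ι a, by simp [vq]⟩
  -- the normaliser in the symplectic group
  have hnormal : ∀ h ∈ Cfsg.spGL 2 F, (∀ g ∈ P, h * g * h⁻¹ ∈ P) → h ∈ P := by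
    intro h hsp hn
    obtain ⟨m, hm⟩ := R.exists_eq (hn _ (R.mem (eU 1)))
    have he7 : ∀ y : K, (eU y) ^ 7 = 1 := fun y => by
      have : ∀ n : ℕ, eU y ^ n = eU ((n : K) * y) := fun n => by
        induction n with
        | zero => simp [eU_zero]
        | succ n ih => rw [pow_succ, ih, eU_mul]; congr 1; push_cast; ring
      rw [this, CharP.cast_eq_zero K 7, zero_mul, eU_zero]
    obtain ⟨n, r, hnr⟩ := exists_upper (m := m) (R.inj (by
      rw [map_pow, hm, conj_pow, ← map_pow, he7, map_one, mul_one, mul_inv_cancel]))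
    set h1 := (R.ρ n)⁻¹ * h with hh1
    have hc1 : h1 * R.ρ (eU 1) = R.ρ (eU r) * h1 := by
      have : R.ρ (eU r) = (R.ρ n)⁻¹ * R.ρ m * R.ρ n := by
        rw [mul_assoc, ← map_mul, hnr, map_mul, inv_mul_cancel_left]
      rw [this, hm, hh1]; group
    have hr0 : r ≠ 0 := fun e => by
      rw [e, eU_zero, map_one, one_mul] at hc1
      have := R.inj ((mul_eq_left.1 hc1).trans (map_one R.ρ).symm)
      simpa [eU] using congrFun (congrFun (congrArg Subtype.val this) 0) 1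
    have hsp1 : h1 ∈ Cfsg.spGL 2 F := mul_mem (inv_mem (hP.sp (R.mem n))) hsp
    have hcomm : ∀ (g : G4) (x y : K), g * R.ρ (eU x) = R.ρ (eU y) * g → ∀ v,
        g.1 *ᵥ (R.mx (eU x) *ᵥ v) = R.mx (eU y) *ᵥ (g.1 *ᵥ v) := fun g x y hg v => by
      rw [Matrix.mulVec_mulVec, Matrix.mulVec_mulVec, ← Units.val_mul, hg, Units.val_mul]
    have hginj : ∀ (g : G4) {u v : V4}, g.1 *ᵥ u = g.1 *ᵥ v → u = v := fun g u v e => by
      have := congrArg ((g⁻¹).1 *ᵥ ·) e
      simpa [Matrix.mulVec_mulVec, ← Units.val_mul] using this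
    -- the action on the flag
    have hflag : ∀ (g : G4), g ∈ Cfsg.spGL 2 F → ∀ y, y ≠ 0 → g * R.ρ (eU 1) = R.ρ (eU y) * g →
        ∃ (κ : F) (q : Q), g.1 *ᵥ C.B 0 = κ • C.B 0 ∧ g.1 *ᵥ C.B 3 = vq q ∧ κ * ι q.2.2.2 = 1 ∧
          κ = C.φ y ^ 3 * ι q.2.2.2 := by
      intro g hg y hy hgc
      obtain ⟨κ, hκ⟩ := hfixed y hy (g.1 *ᵥ C.B 0) (by rw [← hcomm g 1 y hgc, C.e0])
      obtain ⟨q, hq⟩ := hrepr (g.1 *ᵥ C.B 3)
      have hf : fs (g.1 *ᵥ C.B 0) (g.1 *ᵥ C.B 3) = fs (C.B 0) (C.B 3) := hg _ _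
      rw [hκ, ← hq, form_smul_left, hB.1, hvq, hB.2, hvq] at hf
      have hf' : κ * ι q.2.2.2 = 1 := by
        have h3 : δ * (-3) ≠ 0 := mul_ne_zero C.f12 (neg_ne_zero.2 C.three)
        refine mul_left_cancel₀ h3 ?_
        simp [map_ofNat] at hf
        linear_combination -hf
      refine ⟨κ, q, hκ, hq.symm, hf', ?_⟩
      let D : K → V4 → V4 := fun x v => R.mx (eU x) *ᵥ v - v
      have hD : ∀ v, g.1 *ᵥ D 1 v = D y (g.1 *ᵥ v) := fun v => by
        simp only [D, Matrix.mulVec_sub, hcomm g 1 y hgc]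
      obtain ⟨s, hs⟩ := hφι y
      have hD3 : ∀ x t, ι t = C.φ x → ∀ q : Q, D x (D x (D x (vq q))) = vq (6 * (t * t * t) * q.2.2.2, 0, 0, 0) := by
        intro x t ht q
        simp only [D, Matrix.mulVec_sub, hE x t ht]
        simp only [vq, eQ, map_add, map_mul, map_ofNat, map_zero]
        module
      have e := congrArg (fun v => g.1 *ᵥ v) (hD3 1 1 (by simp) (0, 0, 0, 1))
      simp only [← hB.2, hD, ← hq, hD3 y s hs] at e
      simp [vq, Matrix.mulVec_smul, hκ, smul_smul, map_ofNat, hs] at e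
      have h6 : (6 : F) ≠ 0 := by
        rw [show (6 : F) = 2 * 3 by norm_num]; exact mul_ne_zero hP.two C.three
      have e' := smul_left_injective F (C.B.ne_zero 0) e
      exact mul_left_cancel₀ h6 (by linear_combination -e')
    obtain ⟨κ, q, -, -, hκl, hκ⟩ := hflag h1 hsp1 r hr0 hc1
    obtain ⟨s, hs⟩ := hφ.2 (κ / C.φ r)
    have hφr : C.φ r ≠ 0 := (map_ne_zero C.φ).2 hr0
    have hrs : r = s * s := hφ.1 (by
      rw [map_mul, hs]
      field_simp
      linear_combination -κ * hκ - C.φ r ^ 3 * hκl)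
    have hs0 : s ≠ 0 := fun e => hr0 (by rw [hrs, e, zero_mul])
    set h2 := (R.ρ (tU s hs0))⁻¹ * h1 with hh2
    have hc2 : h2 * R.ρ (eU 1) = R.ρ (eU 1) * h2 := by
      have : R.ρ (tU s hs0) * R.ρ (eU 1) = R.ρ (eU r) * R.ρ (tU s hs0) := by
        rw [← map_mul, tU_eU, mul_one, ← hrs, map_mul]
      calc h2 * R.ρ (eU 1) = (R.ρ (tU s hs0))⁻¹ * (R.ρ (eU r) * h1) := by rw [hh2, mul_assoc, hc1]
        _ = (R.ρ (tU s hs0))⁻¹ * (R.ρ (eU r) * R.ρ (tU s hs0)) * ((R.ρ (tU s hs0))⁻¹ * h1) := by group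
        _ = R.ρ (eU 1) * h2 := by rw [← this, inv_mul_cancel_left, hh2]
    have hsp2 : h2 ∈ Cfsg.spGL 2 F := mul_mem (inv_mem (hP.sp (R.mem _))) hsp1
    obtain ⟨κ2, q2, hk2, -, hκl2, hκ2⟩ := hflag h2 hsp2 1 one_ne_zero hc2
    obtain ⟨h3, hsp3, hc3, hk3, hh3⟩ : ∃ h3, h3 ∈ Cfsg.spGL 2 F ∧ h3 * R.ρ (eU 1) = R.ρ (eU 1) * h3 ∧
        h3.1 *ᵥ C.B 0 = C.B 0 ∧ (h3 = h2 ∨ h3 = -h2) := by
      rw [map_one, one_pow, one_mul] at hκ2
      rw [← hκ2] at hκl2
      rcases mul_self_eq_one_iff.1 hκl2 with e | e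
      · exact ⟨h2, hsp2, hc2, by rw [hk2, e, one_smul], Or.inl rfl⟩
      · refine ⟨-h2, ?_, by rw [neg_mul, hc2, mul_neg], ?_, Or.inr rfl⟩
        · rw [← neg_one_mul]; exact mul_mem (hP.sp hP.neg_mem) hsp2
        · rw [Units.val_neg, Matrix.neg_mulVec, hk2, e, neg_one_smul, neg_neg]
    have hin : h3 ∈ P → h ∈ P := fun h3P => by
      have h2P : h2 ∈ P := by
        rcases hh3 with rfl | rfl
        · exact h3P
        · rw [← neg_neg h2, ← neg_one_mul]; exact mul_mem hP.neg_mem h3P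
      have h1P : h1 ∈ P := by simpa [hh2] using mul_mem (R.mem (tU s hs0)) h2P
      simpa [hh1] using mul_mem (R.mem n) h1P
    have hn3 : ∀ g ∈ P, h3 * g * h3⁻¹ ∈ P := by
      intro g hg
      have hn2 : h2 * g * h2⁻¹ ∈ P := by
        rw [hh2, hh1, show (R.ρ (tU s hs0))⁻¹ * ((R.ρ n)⁻¹ * h) * g * ((R.ρ (tU s hs0))⁻¹ * ((R.ρ n)⁻¹ * h))⁻¹ =
          (R.ρ (tU s hs0))⁻¹ * (R.ρ n)⁻¹ * (h * g * h⁻¹) * (R.ρ n * R.ρ (tU s hs0)) by group]
        exact mul_mem (mul_mem (mul_mem (inv_mem (R.mem _)) (inv_mem (R.mem _))) (hn g hg)) (mul_mem (R.mem _) (R.mem _))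
      rcases hh3 with rfl | rfl
      · exact hn2
      · simpa [inv_neg] using hn2
    refine hin ?_
    obtain ⟨m', hm'⟩ := R.exists_eq (hn3 _ (R.mem (fU 1)))
    have hf7 : (fU (1 : K)) ^ 7 = 1 := by
      have : fU (1 : K) = wU * eU (-1) * wU⁻¹ := by rw [eq_mul_inv_iff_mul_eq, wU_eU, neg_neg]
      rw [this, conj_pow, he7, mul_one, mul_inv_cancel]
    obtain ⟨n', r', hnr'⟩ := exists_upper (m := m') (R.inj (by
      rw [map_pow, hm', conj_pow, ← map_pow, hf7, map_one, mul_one, mul_inv_cancel]))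
    have hfB : R.mx (fU 1) *ᵥ C.B 3 = C.B 3 := by
      have h' : R.mx (fU 1) *ᵥ (R.mx wU *ᵥ C.B 0) = R.mx wU *ᵥ C.B 0 := by
        rw [← R.mx_apply, show fU (1 : K) * wU = wU * eU (-1) by rw [wU_eU, neg_neg], R.mx_apply, C.e0]
      rw [C.w0, Matrix.mulVec_neg] at h'
      exact neg_inj.1 h'
    have hr'0 : r' ≠ 0 := fun e => by
      rw [e, eU_zero, mul_one] at hnr'
      rw [mul_eq_right.1 hnr', map_one, eq_comm, conj_eq_one_iff, ← map_one R.ρ] at hm'
      simpa [fU] using congrFun (congrFun (congrArg Subtype.val (R.inj hm')) 1) 0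
    obtain ⟨θ, hθ⟩ := hfixed r' hr'0 (R.mx n'⁻¹ *ᵥ (h3.1 *ᵥ C.B 3)) (by
      rw [← R.mx_apply, show eU r' * n'⁻¹ = n'⁻¹ * m' by
        rw [eq_comm, ← mul_inv_eq_iff_eq_mul.2 hnr'.symm, mul_assoc, inv_mul_cancel_left], R.mx_apply]
      congr 1
      rw [Matrix.mulVec_mulVec, show R.mx m' = (h3 * R.ρ (fU 1) * h3⁻¹ : G4).1 by rw [← hm'], ← Units.val_mul,
        inv_mul_cancel_right, Units.val_mul, ← Matrix.mulVec_mulVec]
      exact congrArg _ hfB)
    have hθ' : h3.1 *ᵥ C.B 3 = θ • (R.mx n' *ᵥ C.B 0) := by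
      rw [← Matrix.mulVec_smul, ← hθ, ← R.mx_apply, mul_inv_cancel, R.mx_one, Matrix.one_mulVec]
    have hupper : ∀ u : Matrix.SpecialLinearGroup (Fin 2) K, u.1 1 0 = 0 → ∃ θ : F, R.mx u *ᵥ C.B 0 = θ • C.B 0 := by
      intro u hu
      have hd := u.2
      rw [Matrix.det_fin_two, hu, mul_zero, sub_zero] at hd
      have h00 : u.1 0 0 ≠ 0 := left_ne_zero_of_mul_eq_one hd
      have : u = tU (u.1 0 0) h00 * eU (u.1 0 1 / u.1 0 0) := Subtype.ext (by
        show u.1 = !![u.1 0 0, 0; 0, (u.1 0 0)⁻¹] * !![1, u.1 0 1 / u.1 0 0; 0, 1]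
        ext i j
        fin_cases i <;> fin_cases j <;> simp [Matrix.mul_apply, Fin.sum_univ_two, hu]
        · field_simp
        · exact eq_inv_of_mul_eq_one_right hd)
      rw [this, R.mx_apply, C.e0]
      refine hfixed 1 one_ne_zero _ ?_
      rw [← R.mx_apply, show eU 1 * tU (u.1 0 0) h00 = tU (u.1 0 0) h00 * eU ((u.1 0 0 * u.1 0 0)⁻¹ * 1) by
        rw [tU_eU]; congr 2; field_simp, R.mx_apply, C.e0]
    rcases eq_or_ne (n'.1 1 0) 0 with hz | hz
    · exfalso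
      obtain ⟨θ', hθ''⟩ := hupper n' hz
      rw [hθ'', smul_smul] at hθ'
      have := hginj h3 (hθ'.trans (show (θ * θ') • C.B 0 = h3.1 *ᵥ ((θ * θ') • C.B 0) by rw [Matrix.mulVec_smul, hk3]))
      simpa [Finsupp.single_apply] using congrArg (fun v => C.B.repr v 3) this
    set x := n'.1 0 0 / n'.1 1 0 with hx
    set u := wU⁻¹ * (eU (-x) * n')
    have hn' : n' = eU x * (wU * u) := by
      rw [mul_inv_cancel_left, ← mul_assoc, eU_mul, add_neg_cancel, eU_zero, one_mul]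
    have hu : u.1 1 0 = 0 := by
      rw [winv_entry, hx, div_mul_cancel₀ _ hz, sub_self]
    obtain ⟨θ', hθ''⟩ := hupper u hu
    rw [hn', R.mx_apply, R.mx_apply, hθ'', Matrix.mulVec_smul, C.w0, Matrix.mulVec_smul, Matrix.mulVec_neg, smul_smul,
      smul_neg, ← neg_smul] at hθ'
    have hone : -(θ * θ') = 1 := by
      obtain ⟨q', hq'⟩ := hrepr (R.mx (eU x) *ᵥ C.B 3)
      have hf : fs (h3.1 *ᵥ C.B 0) (h3.1 *ᵥ C.B 3) = fs (C.B 0) (C.B 3) := hsp3 _ _
      rw [hk3, hθ', form_smul] at hf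
      have hd : fs (C.B 0) (R.mx (eU x) *ᵥ C.B 3) = fs (C.B 0) (C.B 3) := by
        conv_lhs => rw [← C.e0 x]
        exact R.form hP _ _ _
      rw [hd] at hf
      exact mul_right_cancel₀ h33 (by linear_combination hf)
    rw [hone, one_smul] at hθ'
    set h4 := (R.ρ (eU x))⁻¹ * h3
    have hc4 : h4 * R.ρ (eU 1) = R.ρ (eU 1) * h4 := by
      have hcx : Commute (R.ρ (eU x)) (R.ρ (eU 1)) := by
        show _ * _ = _ * _
        rw [← map_mul, ← map_mul, eU_mul, eU_mul, add_comm]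
      show _ * h3 * _ = _
      rw [mul_assoc, hc3, ← mul_assoc, hcx.inv_left.eq, mul_assoc]
    have h40 : h4.1 *ᵥ C.B 0 = C.B 0 := by
      rw [Units.val_mul, ← Matrix.mulVec_mulVec, hk3, ← map_inv, eU_inv]
      exact C.e0 _
    have h43 : h4.1 *ᵥ C.B 3 = C.B 3 := by
      rw [Units.val_mul, ← Matrix.mulVec_mulVec, hθ', Matrix.mulVec_mulVec, ← Units.val_mul, inv_mul_cancel,
        Units.val_one, Matrix.one_mulVec]
    have hstep : ∀ v, h4.1 *ᵥ v = v → h4.1 *ᵥ (R.mx (eU 1) *ᵥ v) = R.mx (eU 1) *ᵥ v := fun v hv => by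
      rw [hcomm h4 1 1 hc4, hv]
    have hall : h4 = 1 := Units.ext (Matrix.toLin'.injective (C.B.ext fun i => by
      rw [Matrix.toLin'_apply, Matrix.toLin'_apply, Units.val_one, Matrix.one_mulVec]
      have a1 := hstep _ h43
      have a2 := hstep _ a1
      simp only [C.e0, C.e1, C.e2, C.e3, map_one, one_pow, mul_one, one_smul, Matrix.mulVec_add, Matrix.mulVec_smul, h40, h43]
        at a1 a2
      have h2F : (2 : F) ≠ 0 := hP.two
      have b1 : (6 : F) • (h4.1 *ᵥ C.B 1) = (6 : F) • C.B 1 := by linear_combination (norm := module) a2 - (2 : F) • a1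
      have h6 : (6 : F) ≠ 0 := by rw [show (6 : F) = 2 * 3 by norm_num]; exact mul_ne_zero hP.two C.three
      have b1' := smul_right_injective V4 h6 b1
      have b2 : (3 : F) • (h4.1 *ᵥ C.B 2) = (3 : F) • C.B 2 := by
        linear_combination (norm := module) a1 - (3 : F) • b1'
      fin_cases i
      · exact h40
      · exact b1'
      · exact smul_right_injective V4 C.three b2
      · exact h43))
    rw [inv_mul_eq_one] at hall
    rw [← hall]
    exact R.mem _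
  -- the larger group
  let Rt : Set V4 := {v | ∃ r : F, r ≠ 0 ∧ ∃ q ∈ pts, v = r • vq q}
  let M : Subgroup G4 :=
    { carrier := {g | g ∈ Cfsg.spGL 2 F ∧ ∀ v ∈ Rt, g.1 *ᵥ v ∈ Rt}
      one_mem' := ⟨one_mem _, fun v hv => by rwa [Units.val_one, Matrix.one_mulVec]⟩
      mul_mem' := fun {g k} hg hk => ⟨mul_mem hg.1 hk.1, fun v hv => by
        rw [Units.val_mul, ← Matrix.mulVec_mulVec]; exact hg.2 _ (hk.2 v hv)⟩
      inv_mem' := fun {g} hg => ⟨inv_mem hg.1, fun v hv => by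
        have hinj : Set.InjOn (g.1 *ᵥ ·) Rt := fun X _ Y _ e => by
          have := congrArg ((g⁻¹).1 *ᵥ ·) e
          simpa [Matrix.mulVec_mulVec, ← Units.val_mul] using this
        obtain ⟨w, hw, rfl⟩ := (((Set.toFinite Rt).injOn_iff_bijOn_of_mapsTo (fun X hX => hg.2 X hX)).1 hinj).surjOn hv
        rw [Matrix.mulVec_mulVec, ← Units.val_mul, inv_mul_cancel, Units.val_one, Matrix.one_mulVec]
        exact hw⟩ }
  have hmemM : ∀ (g : G4) (f : Q → Q) (w : List (ZMod 7 × ℕ)), g ∈ Cfsg.spGL 2 F → (∀ q, g.1 *ᵥ vq q = vq (f q)) →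
      check f w = true → g ∈ M := fun g f w hg hgf hf => ⟨hg, by
    rintro v ⟨r, hr, q, hq, rfl⟩
    obtain ⟨t, ht, q', hq', hfq⟩ := mem_of_check hf hq
    exact ⟨r * ι t, mul_ne_zero hr ((map_ne_zero ι).2 ht), q', hq', by
      rw [Matrix.mulVec_smul, hgf, hfq, hsmul, smul_smul]⟩⟩
  have hbuild : ∀ f : Q → Q, ∀ hf : ∀ q q' : Q,
      -3 * ((f q).1 * (f q').2.2.2 - (f q).2.2.2 * (f q').1) + ((f q).2.1 * (f q').2.2.1 - (f q).2.2.1 * (f q').2.1) =
        -3 * (q.1 * q'.2.2.2 - q.2.2.2 * q'.1) + (q.2.1 * q'.2.2.1 - q.2.2.1 * q'.2.1),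
      ∀ hlin : ∀ q : Q, vq (f q) = ι q.1 • vq (f (1, 0, 0, 0)) + ι q.2.1 • vq (f (0, 1, 0, 0)) +
        ι q.2.2.1 • vq (f (0, 0, 1, 0)) + ι q.2.2.2 • vq (f (0, 0, 0, 1)),
      ∃ g ∈ Cfsg.spGL 2 F, ∀ q, (g : G4).1 *ᵥ vq q = vq (f q) := by
    intro f hf hlin
    let L : V4 →ₗ[F] V4 := C.B.constr F ![vq (f (1, 0, 0, 0)), vq (f (0, 1, 0, 0)), vq (f (0, 0, 1, 0)),
      vq (f (0, 0, 0, 1))]
    have hL : ∀ q, LinearMap.toMatrix' L *ᵥ vq q = vq (f q) := fun q => by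
      rw [← Matrix.toLin'_apply, Matrix.toLin'_toMatrix', hlin q]
      simp only [L]
      conv_lhs => simp only [vq, map_add, map_smul, Module.Basis.constr_basis]
      simp [vq]
    have hform : ∀ u v, fs (LinearMap.toMatrix' L *ᵥ u) (LinearMap.toMatrix' L *ᵥ v) = fs u v := fun u v => by
      obtain ⟨q, rfl⟩ := hrepr u
      obtain ⟨q', rfl⟩ := hrepr v
      rw [hL, hL, hvq, hvq, hf]
    have hinjL : Function.Injective (LinearMap.toMatrix' L).mulVec := fun u v e => sub_eq_zero.1 (form_nondeg fun y => by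
      rw [← hform, Matrix.mulVec_sub, e, sub_self, form_zero_left])
    exact ⟨(Matrix.mulVec_injective_iff_isUnit.1 hinjL).unit, hform, hL⟩
  have hgen : ∀ m, R.ρ m ∈ M := by
    have he1 : R.ρ (eU 1) ∈ M := hmemM _ eS eSWit (hP.sp (R.mem _)) hE1 check_e
    have hw : R.ρ wU ∈ M := hmemM _ wS wSWit (hP.sp (R.mem _)) hW check_w
    have he : ∀ x, R.ρ (eU x) ∈ M := fun x => by
      obtain ⟨t, ht⟩ := hφι x
      have hx : x = ((t.val : ℕ) : K) := hφ.1 (by rw [map_natCast, ← ht, ← map_natCast ι, ZMod.natCast_zmod_val])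
      have hp : ∀ k : ℕ, eU (1 : K) ^ k = eU (k : K) := fun k => by
        induction k with
        | zero => simp [eU_zero]
        | succ k ih => rw [pow_succ, ih, eU_mul]; push_cast; rfl
      rw [hx, ← hp, map_pow]
      exact pow_mem he1 _
    refine sl_induction (fun m => R.ρ m ∈ M) he (fun x => ?_) fun a b ha hb => by rw [map_mul]; exact mul_mem ha hb
    rw [show fU x = wU * eU (-x) * wU⁻¹ by rw [eq_mul_inv_iff_mul_eq, wU_eU, neg_neg], map_mul, map_mul, map_inv]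
    exact mul_mem (mul_mem hw (he _)) (inv_mem hw)
  have hHP : ∀ g ∈ H, g ∈ P := fun g hg => hnormal g (hH.1.le hg) (hnorm g hg)
  have hHM : H ≤ M := fun g hg => by
    obtain ⟨m, rfl⟩ := R.exists_eq (hHP g hg)
    exact hgen m
  obtain ⟨gk, hgk, hgkq⟩ := hbuild kS (by
      rintro ⟨a, b, c, d⟩ ⟨a', b', c', d'⟩
      simp only [kS]
      ring)
    (fun q => by simp [vq, kS, map_add, map_mul]; module)
  obtain ⟨gt, hgt, hgtq⟩ := hbuild tS (by
      rintro ⟨a, b, c, d⟩ ⟨a', b', c', d'⟩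
      simp only [tS]
      ring)
    (fun q => by simp [vq, tS, map_add]; module)
  have hne : M ≠ Cfsg.spGL 2 F := fun e => by
    rw [← e] at hgt
    obtain ⟨r, hr, q, hq, hval⟩ := hgt.2 _ ⟨1, one_ne_zero, _, mem_moved, rfl⟩
    obtain ⟨t, rfl⟩ := hι.2 r
    rw [one_smul, hgtq, ← hsmul] at hval
    exact moved t q hq (hvinj hval)
  have heq : M = H := (hH.2 M hHM fun g hg => hg.1).resolve_right hne
  obtain ⟨m, hm⟩ := R.exists_eq (hHP gk (heq ▸ hmemM gk kS kSWit hgk hgkq check_k))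
  have hk0 := hgkq (1, 0, 0, 0)
  rw [← hB.1, show gk.1 = R.mx m by rw [← hm]] at hk0
  have hupper : ∀ u : Matrix.SpecialLinearGroup (Fin 2) K, u.1 1 0 = 0 → ∃ θ : F, R.mx u *ᵥ C.B 0 = θ • C.B 0 := by
    intro u hu
    refine hfixed 1 one_ne_zero _ ?_
    rw [← R.mx_apply]
    have hd := u.2
    rw [Matrix.det_fin_two, hu, mul_zero, sub_zero] at hd
    have h00 : u.1 0 0 ≠ 0 := left_ne_zero_of_mul_eq_one hd
    have h11 : u.1 1 1 ≠ 0 := right_ne_zero_of_mul_eq_one hd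
    rw [show eU 1 * u = u * eU (u.1 1 1 / u.1 0 0) from Subtype.ext (by
      show !![(1 : K), 1; 0, 1] * u.1 = u.1 * !![1, _; 0, 1]
      ext i j
      fin_cases i <;> fin_cases j <;> simp [Matrix.mul_apply, Fin.sum_univ_two, hu]
      field_simp
      ring), R.mx_apply, C.e0]
  rcases eq_or_ne (m.1 1 0) 0 with hz | hz
  · obtain ⟨θ, hθ⟩ := hupper m hz
    obtain ⟨t, rfl⟩ := hι.2 θ
    rw [hθ, hB.1, ← hsmul] at hk0
    exact (kS_new t 0).1 (hvinj hk0.symm)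
  · set x := m.1 0 0 / m.1 1 0 with hx
    set u := wU⁻¹ * (eU (-x) * m)
    have hmu : m = eU x * (wU * u) := by
      rw [mul_inv_cancel_left, ← mul_assoc, eU_mul, add_neg_cancel, eU_zero, one_mul]
    have hu : u.1 1 0 = 0 := by
      rw [winv_entry, hx, div_mul_cancel₀ _ hz, sub_self]
    obtain ⟨θ, hθ⟩ := hupper u hu
    obtain ⟨t, rfl⟩ := hι.2 θ
    obtain ⟨z, hz'⟩ := hφι x
    rw [hmu, R.mx_apply, R.mx_apply, hθ, Matrix.mulVec_smul, C.w0, Matrix.mulVec_smul, Matrix.mulVec_neg, hB.2,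
      hE x z hz', smul_neg, ← neg_smul, ← map_neg, ← hsmul] at hk0
    exact (kS_new (-t) z).2 ((hvinj hk0).symm.trans (by simp [eQ, mul_assoc]))

end CfsgLib.Sp4Odd.Q.SymSeven
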