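import Cfsg.Agent.Lib.Sp4Odd.Q.Rho

/-!
The unitriangular group in the defining characteristic: fixed vectors and invariant subspaces.
-/

set_option autoImplicit false
set_option linter.unusedSectionVars false
set_option maxHeartbeats 1000000

namespace CfsgLib.Sp4Odd.Q

open Matrix

variable {F : Type*} [Field F]

local notation "S4" => (Fin 2 ⊕ Fin 2)
local notation "M4" => Matrix (Fin 2 ⊕ Fin 2) (Fin 2 ⊕ Fin 2) F
local notation "V4" => (Fin 2 ⊕ Fin 2 → F)
local notation "G4" => Matrix.GeneralLinearGroup (Fin 2 ⊕ Fin 2) F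
local notation "fs" => Cfsg.sympForm 2 F

theorem form_add_left (u u' v : V4) : fs (u + u') v = fs u v + fs u' v := by simp [Cfsg.sympForm]

theorem form_smul_left (c : F) (u v : V4) : fs (c • u) v = c * fs u v := by simp [Cfsg.sympForm]

theorem form_zero_left (v : V4) : fs 0 v = 0 := by simp [Cfsg.sympForm]

theorem form_zero_right (v : V4) : fs v 0 = 0 := by simp [Cfsg.sympForm]

theorem form_sub_left (u u' v : V4) : fs (u - u') v = fs u v - fs u' v := by simp [Cfsg.sympForm]

theorem form_sub (u v v' : V4) : fs u (v - v') = fs u v - fs u v' := by simp [Cfsg.sympForm, Matrix.mulVec_sub]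

theorem form_nondeg {x : V4} (h : ∀ y, fs x y = 0) : x = 0 := by
  funext i
  have := h (-(Matrix.J (Fin 2) F *ᵥ Pi.single i 1))
  simp only [Cfsg.sympForm] at this
  rw [Matrix.mulVec_neg, Matrix.mulVec_mulVec, J_mul_J, Matrix.neg_mulVec, neg_neg, Matrix.one_mulVec,
    dotProduct_single, mul_one] at this
  exact this

theorem form_nondeg' {x : V4} (h : ∀ y, fs y x = 0) : x = 0 :=
  form_nondeg fun y => by rw [form_antisymm, h, neg_zero]

/-- The form is nondegenerate on a spanning family. -/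
theorem form_nondeg_basis {κ : Type*} [Fintype κ] (b : Module.Basis κ F V4) {x : V4} (h : ∀ i, fs x (b i) = 0) :
    x = 0 := by
  refine form_nondeg fun y => ?_
  rw [← b.sum_repr y, Cfsg.sympForm, Matrix.mulVec_sum, dotProduct_sum]
  refine Finset.sum_eq_zero fun i _ => ?_
  show fs x (b.repr y i • b i) = 0
  rw [form_smul, h, mul_zero]

/-- The orthogonal of a vector. -/
def perp (a : V4) : Submodule F (Fin 2 ⊕ Fin 2 → F) where
  carrier := {v | fs v a = 0}
  add_mem' := fun {u v} hu hv => by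
    show fs (u + v) a = 0
    rw [form_add_left, show fs u a = 0 from hu, show fs v a = 0 from hv, add_zero]
  zero_mem' := form_zero_left a
  smul_mem' := fun c {v} hv => by
    show fs (c • v) a = 0
    rw [form_smul_left, show fs v a = 0 from hv, mul_zero]

theorem mem_perp {a v : V4} : v ∈ perp a ↔ fs v a = 0 := Iff.rfl

theorem finrank_perp {a : V4} (ha : a ≠ 0) : Module.finrank F (perp a) = 3 := by
  let L : V4 →ₗ[F] F :=
    { toFun := fun v => fs v a, map_add' := fun u v => form_add_left u v a,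
      map_smul' := fun c v => form_smul_left c v a }
  have hL : LinearMap.range L = ⊤ := by
    refine (eq_bot_or_eq_top (LinearMap.range L)).resolve_left fun h => ha (form_nondeg' fun y => ?_)
    exact (Submodule.eq_bot_iff _).1 h _ ⟨y, rfl⟩
  have h := LinearMap.finrank_range_add_finrank_ker L
  rw [hL, finrank_top, Module.finrank_self, Module.finrank_fintype_fun_eq_card, Fintype.card_sum, Fintype.card_fin] at h
  have hk : LinearMap.ker L = perp a := by ext v; rfl
  rw [hk] at h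
  omega

/-- Commuting nilpotent matrices on an invariant section have a common zero. -/
theorem exists_common_zero {κ : Type*} (N : κ → M4) (n : ℕ) (hn : ∀ x, N x ^ n = 0)
    (hc : ∀ x y, N x * N y = N y * N x) {A B : Submodule F V4} (hAB : ¬ B ≤ A)
    (hA : ∀ x, ∀ v ∈ A, N x *ᵥ v ∈ A) (hB : ∀ x, ∀ v ∈ B, N x *ᵥ v ∈ B) (s : Finset κ) :
    ∃ v ∈ B, v ∉ A ∧ ∀ x ∈ s, N x *ᵥ v ∈ A := by
  classical
  induction s using Finset.induction_on with
  | empty =>
    obtain ⟨v, hv, hva⟩ := SetLike.not_le_iff_exists.1 hAB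
    exact ⟨v, hv, hva, by simp⟩
  | insert a s ha ih =>
    obtain ⟨v, hv, hva, hs⟩ := ih
    have hex : ∃ k, (N a ^ k) *ᵥ v ∈ A := ⟨n, by rw [hn, Matrix.zero_mulVec]; exact A.zero_mem⟩
    have h0 : Nat.find hex ≠ 0 := fun e => hva (by simpa [e] using Nat.find_spec hex)
    obtain ⟨k, hk⟩ := Nat.exists_eq_succ_of_ne_zero h0
    refine ⟨(N a ^ k) *ᵥ v, ?_, Nat.find_min hex (by omega), fun x hx => ?_⟩
    · clear hk
      induction k with
      | zero => simpa using hv
      | succ k ihk => rw [pow_succ', ← Matrix.mulVec_mulVec]; exact hB a _ ihk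
    · rcases Finset.mem_insert.1 hx with rfl | hx
      · have := Nat.find_spec hex
        rw [hk, pow_succ', ← Matrix.mulVec_mulVec] at this
        exact this
      · rw [Matrix.mulVec_mulVec, ((show Commute (N x) (N a) from hc x a).pow_right k).eq, ← Matrix.mulVec_mulVec]
        clear hk
        induction k with
        | zero => simpa using hs x hx
        | succ k ihk => rw [pow_succ', ← Matrix.mulVec_mulVec]; exact hA a _ ihk

variable {K : Type} [Field K] {P : Subgroup (Matrix.GeneralLinearGroup (Fin 2 ⊕ Fin 2) F)}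

/-- The matrix of an image. -/
abbrev Rep.mx (R : Rep K P) (m : Matrix.SpecialLinearGroup (Fin 2) K) : M4 := (R.ρ m).1

theorem Rep.mx_mul (R : Rep K P) (m n : Matrix.SpecialLinearGroup (Fin 2) K) : R.mx (m * n) = R.mx m * R.mx n := by
  simp [Rep.mx, map_mul]

theorem Rep.mx_apply (R : Rep K P) (m n : Matrix.SpecialLinearGroup (Fin 2) K) (v : V4) :
    R.mx (m * n) *ᵥ v = R.mx m *ᵥ (R.mx n *ᵥ v) := by rw [R.mx_mul, Matrix.mulVec_mulVec]

theorem Rep.mx_one (R : Rep K P) : R.mx 1 = 1 := by simp [Rep.mx]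

theorem Rep.form (R : Rep K P) (hP : Core P) (m : Matrix.SpecialLinearGroup (Fin 2) K) (u v : V4) :
    fs (R.mx m *ᵥ u) (R.mx m *ᵥ v) = fs u v := hP.sp (R.mem m) u v

theorem Rep.wsq_vec (R : Rep K P) (hP : Core P) (h2 : (2 : K) ≠ 0) (v : V4) :
    R.mx wU *ᵥ (R.mx wU *ᵥ v) = -v := by
  rw [Matrix.mulVec_mulVec, ← Units.val_mul, R.wU_sq hP h2, coe_neg_one, Matrix.neg_mulVec, Matrix.one_mulVec]

theorem Rep.w_injective (R : Rep K P) (hP : Core P) (h2 : (2 : K) ≠ 0) {u v : V4}
    (h : R.mx wU *ᵥ u = R.mx wU *ᵥ v) : u = v := by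
  have := congrArg (R.mx wU *ᵥ ·) h
  simpa [R.wsq_vec hP h2] using this

variable (p : ℕ)

theorem Rep.nilpotent (R : Rep K P) [Fact p.Prime] [CharP F p] [CharP K p] (x : K) :
    (R.mx (eU x) - 1) ^ p = 0 := by
  haveI : CharP M4 p := inferInstance
  rw [sub_pow_char_of_commute (p := p) (Commute.one_right _), one_pow, sub_eq_zero, ← Units.val_pow_eq_pow_val,
    ← map_pow]
  have : ∀ n : ℕ, eU x ^ n = eU ((n : K) * x) := fun n => by
    induction n with
    | zero => simp [eU_zero]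
    | succ n ih => rw [pow_succ, ih, eU_mul]; congr 1; push_cast; ring
  rw [this, CharP.cast_eq_zero, zero_mul, eU_zero, map_one, Units.val_one]

theorem Rep.eU_comm (R : Rep K P) (x y : K) :
    (R.mx (eU x) - 1) * (R.mx (eU y) - 1) = (R.mx (eU y) - 1) * (R.mx (eU x) - 1) := by
  have : R.mx (eU x) * R.mx (eU y) = R.mx (eU y) * R.mx (eU x) := by
    rw [← R.mx_mul, ← R.mx_mul, eU_mul, eU_mul, add_comm]
  simp only [sub_mul, mul_sub, one_mul, mul_one, this]
  abel

/-- The vectors fixed by the unitriangular group. -/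
def Rep.fixed (R : Rep K P) : Submodule F (Fin 2 ⊕ Fin 2 → F) where
  carrier := {v | ∀ x, R.mx (eU x) *ᵥ v = v}
  add_mem' := fun {u v} hu hv x => by rw [Matrix.mulVec_add, hu x, hv x]
  zero_mem' := fun x => Matrix.mulVec_zero _
  smul_mem' := fun c {v} hv x => by rw [Matrix.mulVec_smul, hv x]

theorem Rep.exists_fixed (R : Rep K P) [Fintype K] [Fact p.Prime] [CharP F p] [CharP K p] :
    ∃ a ∈ R.fixed, a ≠ 0 := by
  classical
  obtain ⟨v, -, hv, h⟩ := exists_common_zero (fun x : K => R.mx (eU x) - 1) p (R.nilpotent p) R.eU_comm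
    (A := ⊥) (B := ⊤) (fun h => top_ne_bot (le_bot_iff.1 h))
    (fun x v hv => by rw [(Submodule.mem_bot F).1 hv, Matrix.mulVec_zero]; exact Submodule.zero_mem _)
    (fun _ _ _ => Submodule.mem_top) Finset.univ
  refine ⟨v, fun x => ?_, fun e => hv (e ▸ Submodule.zero_mem _)⟩
  have := (Submodule.mem_bot F).1 (h x (Finset.mem_univ x))
  rwa [Matrix.sub_mulVec, Matrix.one_mulVec, sub_eq_zero] at this

/-- A subspace invariant under the unitriangular group and the Weyl element is trivial. -/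
theorem Rep.invariant_cases (R : Rep K P) (hP : Core P) (U : Submodule F V4)
    (he : ∀ x, ∀ v ∈ U, R.mx (eU x) *ᵥ v ∈ U) (hw : ∀ v ∈ U, R.mx wU *ᵥ v ∈ U) (h2 : (2 : K) ≠ 0) :
    U = ⊥ ∨ U = ⊤ := by
  have hall : ∀ m, ∀ v ∈ U, R.mx m *ᵥ v ∈ U := by
    intro m
    refine sl_induction (fun m => ∀ v ∈ U, R.mx m *ᵥ v ∈ U) he (fun x v hv => ?_) (fun a b ha hb v hv => by
      rw [R.mx_apply]; exact ha _ (hb v hv)) m
    have e : fU x = wU * eU (-x) * wU⁻¹ := by rw [eq_mul_inv_iff_mul_eq, wU_eU, neg_neg]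
    have hwi : ∀ v ∈ U, R.mx wU⁻¹ *ᵥ v ∈ U := fun v hv => by
      have h1 : R.mx wU⁻¹ *ᵥ v = -(R.mx wU *ᵥ v) := R.w_injective hP h2 (by
        rw [← R.mx_apply, mul_inv_cancel, R.mx_one, Matrix.one_mulVec, Matrix.mulVec_neg, R.wsq_vec hP h2, neg_neg])
      rw [h1]
      exact U.neg_mem (hw v hv)
    rw [e, R.mx_apply, R.mx_apply]
    exact hw _ (he _ _ (hwi v hv))
  refine hP.absIrred.1 U ?_
  rintro _ ⟨g, hg, rfl⟩ y ⟨v, hv, rfl⟩
  obtain ⟨m, rfl⟩ := R.exists_eq hg
  rw [Matrix.toLin'_apply]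
  exact hall m v hv

/-- A fixed vector is moved out of the fixed space by the Weyl element. -/
theorem Rep.w_fixed (R : Rep K P) [Finite F] (hP : Core P) (h2 : (2 : K) ≠ 0) {v : V4} (hv : v ∈ R.fixed)
    (hw : R.mx wU *ᵥ v ∈ R.fixed) : v = 0 := by
  let U : Submodule F V4 := R.fixed ⊓ R.fixed.comap (Matrix.toLin' (R.mx wU))
  have hmem : ∀ x, x ∈ U ↔ x ∈ R.fixed ∧ R.mx wU *ᵥ x ∈ R.fixed := fun x => by simp [U]
  rcases R.invariant_cases hP U (fun x y hy => by rw [((hmem y).1 hy).1 x]; exact hy)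
      (fun y hy => (hmem _).2 ⟨((hmem y).1 hy).2, by rw [R.wsq_vec hP h2]; exact R.fixed.neg_mem ((hmem y).1 hy).1⟩) h2
    with e | e
  · exact (Submodule.eq_bot_iff _).1 e v ((hmem v).2 ⟨hv, hw⟩)
  · exfalso
    have h1 : ∀ x : K, R.mx (eU x) = 1 := fun x => by
      refine Matrix.toLin'.injective (LinearMap.ext fun y => ?_)
      simp only [Matrix.toLin'_apply, Matrix.one_mulVec]
      exact ((hmem y).1 (e ▸ Submodule.mem_top)).1 x
    have := R.inj (Units.ext ((h1 1).trans R.mx_one.symm))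
    simpa [eU] using congrFun (congrFun (congrArg Subtype.val this) 0) 1

end CfsgLib.Sp4Odd.Q
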